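import Cfsg.Agent.CyclicDefect.Serial
import Mathlib.RingTheory.SimpleModule.Basic
import Mathlib.RepresentationTheory.AlgebraRepresentation.Basic
import Mathlib.FieldTheory.IsAlgClosed.Basic
import Mathlib.LinearAlgebra.Dual.Lemmas

/-!
# Endomorphisms of the corner averaged over the group

`Serial.exists_average`: on a simple module a map of `i M` commuting with `T` and `τ` is congruent,
on the kernel of `T` modulo the image of `top`, to a scalar multiple of the identity.
-/

set_option autoImplicit false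
set_option linter.unusedSectionVars false
set_option linter.style.haveILetI false

namespace CfsgLib.CyclicDefect

open CfsgLib.BlockPairs CfsgLib.BlocksCyclic

variable {k : Type*} [Field k] {G : Type*} [Group G] [Finite G]

/-- Sums over a free orbit set are traces from the trivial subgroup. -/
theorem exists_free_reps {D : Subgroup G} [Fintype D] {Q : Type*} [MulAction D Q]
    (s : Finset Q) (hs : ∀ d : D, ∀ q ∈ s, d • q ∈ s) (hfree : ∀ d : D, ∀ q ∈ s, d • q = q → d = 1) :
    ∃ r ⊆ s, ∀ {A : Type*} [AddCommMonoid A] (F : Q → A),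
      ∑ q ∈ s, F q = ∑ d : D, ∑ q ∈ r, F (d • q) := by
  classical
  let rep : Q → Q := fun q => Quotient.out (Quotient.mk'' q : MulAction.orbitRel.Quotient D Q)
  have hrep : ∀ q, ∃ d : D, d • q = rep q := fun q =>
    MulAction.mem_orbit_iff.1 (Quotient.mk_out (s := MulAction.orbitRel D Q) q)
  have hmk : ∀ q (d : D), rep (d • q) = rep q := fun q d =>
    congrArg Quotient.out (Quotient.eq''.2 (MulAction.mem_orbit q d))
  refine ⟨s.image rep, fun q hq => ?_, fun F => ?_⟩
  · obtain ⟨q', hq', rfl⟩ := Finset.mem_image.1 hq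
    obtain ⟨d, hd⟩ := hrep q'
    exact hd ▸ hs d q' hq'
  rw [← Finset.sum_product']
  symm
  refine Finset.sum_bij (fun a _ => a.1 • a.2) ?_ ?_ ?_ (fun _ _ => rfl)
  · intro a ha
    obtain ⟨q', hq', ha'⟩ := Finset.mem_image.1 (Finset.mem_product.1 ha).2
    obtain ⟨d, hd⟩ := hrep q'
    exact hs _ _ (ha' ▸ hd ▸ hs d q' hq')
  · rintro ⟨d, q⟩ ha ⟨d', q'⟩ ha' h
    simp only at h
    obtain ⟨q₀, hq₀, rfl⟩ := Finset.mem_image.1 (Finset.mem_product.1 ha).2
    obtain ⟨q₁, hq₁, rfl⟩ := Finset.mem_image.1 (Finset.mem_product.1 ha').2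
    have hr : ∀ x, rep (rep x) = rep x := fun x => by
      obtain ⟨c, hc⟩ := hrep x
      rw [← hc, hmk, hc]
    have he : rep q₀ = rep q₁ := by
      have := congrArg rep h
      rwa [hmk, hmk, hr, hr] at this
    rw [he] at h
    obtain ⟨c, hc⟩ := hrep q₁
    have hd := hfree (d'⁻¹ * d) (rep q₁) (hc ▸ hs c q₁ hq₁) (by rw [mul_smul, h, inv_smul_smul])
    rw [inv_mul_eq_one] at hd
    rw [he, hd]
  · intro q hq
    obtain ⟨c, hc⟩ := hrep q
    exact ⟨(c⁻¹, rep q), Finset.mem_product.2 ⟨Finset.mem_univ _, Finset.mem_image_of_mem _ hq⟩,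
      by show c⁻¹ • rep q = q; rw [← hc, inv_smul_smul]⟩

namespace Serial

variable (S : Serial k G) {M : Type*} [AddCommGroup M] [Module k M] [Module (GA k G) M]
  [IsScalarTower k (GA k G) M]

theorem smul_of_i {v : M} (hv : S.i • v = v) : S.b • v = v := by
  conv_lhs => rw [← hv]
  rw [← mul_smul, S.b_i, hv]

theorem top_smul_mem {v : M} : S.i • (S.top • v) = S.top • v := by rw [← mul_smul, S.i_mul_top]

variable [IsAlgClosed k] [IsSimpleModule (GA k G) M] [FiniteDimensional k M]

open Classical in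
/-- The averaged map is a scalar. -/
theorem exists_average (f : M →ₗ[k] M) (hfi : ∀ v : M, S.i • v = v → S.i • f v = f v)
    (hfT : ∀ v : M, S.i • v = v → f (S.T • v) = S.T • f v)
    (hfτ : ∀ v : M, S.i • v = v → f (S.τ • v) = S.τ • f v) :
    ∃ c : k, ∀ v : M, S.i • v = v → S.T • v = 0 →
      ∃ w : M, c • v - (S.e : k) • f v = S.top • w := by
  haveI := Fintype.ofFinite G
  haveI := Fintype.ofFinite S.D
  haveI := Fintype.ofFinite (G ⧸ S.D)
  -- the extension commuting with `X`
  have hiy : ∀ {z : GA k G}, IsSupp S.X z → S.i * z * S.b = S.i * z := fun {z} hz => by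
    rw [mul_assoc, ← S.b_comm _ hz, ← mul_assoc, S.i_b]
  have hR : ∀ {z : GA k G}, IsSupp S.X z → ∀ v : M, S.i • v = v →
      f ((S.i * z * S.i) • v) = (S.i * z * S.i) • f v := by
    intro z hz v hv
    have h := S.T_span z hz
    generalize S.i * z * S.i = u at h ⊢
    induction h using Submodule.span_induction with
    | mem w hw =>
      obtain ⟨⟨l, -⟩, rfl⟩ := hw
      induction l generalizing v with
      | zero => simp [hv, hfi v hv]
      | succ l ih =>
        have hTv : S.i • (S.T • v) = S.T • v := by rw [← mul_smul, S.i_T]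
        dsimp only at ih ⊢
        rw [show S.T ^ (l + 1) * S.i = S.T ^ l * S.i * S.T by
          rw [pow_succ, mul_assoc, S.T_i, mul_assoc, S.i_T], mul_smul, ih _ hTv (by omega),
          hfT v hv, ← mul_smul]
    | zero => simp
    | add a c _ _ ha hc => rw [add_smul, add_smul, map_add, ha, hc]
    | smul c a _ ha => rw [smul_assoc, smul_assoc, map_smul, ha]
  let F : M →ₗ[k] M := ∑ l : Fin S.r,
    (Algebra.lsmul k k M (S.x l)).comp (f.comp (Algebra.lsmul k k M (S.i * S.y l)))
  have hF : ∀ m : M, F m = ∑ l : Fin S.r, S.x l • f ((S.i * S.y l) • m) := fun m => by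
    simp only [F, LinearMap.sum_apply, LinearMap.comp_apply, Algebra.lsmul_coe]
  have hyi : ∀ (l : Fin S.r) (m : M), S.i • ((S.i * S.y l) • m) = (S.i * S.y l) • m := fun l m => by
    rw [← mul_smul, ← mul_assoc, S.i_idem]
  have hbF : ∀ m, S.b • F m = F m := fun m => by
    rw [hF, Finset.smul_sum]
    refine Finset.sum_congr rfl fun l _ => ?_
    rw [← hfi _ (hyi l m), ← mul_smul, ← mul_smul, S.b_comm _ (S.x_supp l), mul_assoc, S.b_i, mul_smul]
  have hFz : ∀ {z : GA k G}, IsSupp S.X z → ∀ m, F (z • m) = z • F m := by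
    intro z hz m
    have h1 : ∀ l, f ((S.i * S.y l) • (z • m)) =
        ∑ j : Fin S.r, (S.i * (S.y l * z * S.x j) * S.i) • f ((S.i * S.y j) • m) := by
      intro l
      rw [← mul_smul, mul_assoc, ← hiy (isSupp_mul (S.y_supp l) hz), ← S.frame, Finset.mul_sum,
        Finset.sum_smul, map_sum]
      refine Finset.sum_congr rfl fun j _ => ?_
      rw [← hR (isSupp_mul (isSupp_mul (S.y_supp l) hz) (S.x_supp j)) _ (hyi j m), ← mul_smul]
      congr 2
      simp only [mul_assoc]
      rw [← mul_assoc S.i S.i (S.y j), S.i_idem]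
    conv_rhs => rw [hF, Finset.smul_sum]
    simp only [hF, h1, Finset.smul_sum]
    rw [Finset.sum_comm]
    refine Finset.sum_congr rfl fun j _ => ?_
    have hfj := hfi _ (hyi j m)
    calc ∑ l, S.x l • ((S.i * (S.y l * z * S.x j) * S.i) • f ((S.i * S.y j) • m))
        = (∑ l, S.x l * S.i * S.y l) • ((z * S.x j) • f ((S.i * S.y j) • m)) := by
          rw [Finset.sum_smul]
          refine Finset.sum_congr rfl fun l _ => ?_
          conv_lhs => rw [mul_smul _ S.i, hfj]
          simp only [← mul_smul, mul_assoc]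
      _ = (z * S.x j) • f ((S.i * S.y j) • m) := by
          rw [S.frame, ← mul_smul, S.b_comm _ (isSupp_mul hz (S.x_supp j)), mul_smul,
            S.smul_of_i hfj]
      _ = _ := mul_smul _ _ _
  have hFv : ∀ v : M, S.i • v = v → F v = f v := by
    intro v hv
    rw [hF]
    have h1 : ∀ l, f ((S.i * S.y l) • v) = (S.i * S.y l * S.i) • f v := fun l => by
      rw [← hR (S.y_supp l) v hv, mul_smul _ S.i, hv]
    simp only [h1]
    calc ∑ l, S.x l • ((S.i * S.y l * S.i) • f v) = (∑ l, S.x l * S.i * S.y l) • f v := by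
          rw [Finset.sum_smul]
          refine Finset.sum_congr rfl fun l _ => ?_
          conv_lhs => rw [mul_smul _ S.i, hfi v hv]
          simp only [← mul_smul, mul_assoc]
      _ = f v := by rw [S.frame, S.smul_of_i (hfi v hv)]
  -- the average
  let φ : G → Module.End k M := fun g => act g * (Algebra.lsmul k k M S.a * F) * act g⁻¹
  have hφv : ∀ g (m : M), φ g m = MonoidAlgebra.single g (1 : k) • S.a •
      F (MonoidAlgebra.single g⁻¹ (1 : k) • m) := fun g m => rfl
  have hφr : ∀ g, ∀ d ∈ S.D, φ (g * d) = φ g := by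
    intro g d hd
    refine LinearMap.ext fun m => ?_
    have hdX := IsSupp.single_mem (k := k) (S.D_le hd) 1
    have hdX' := IsSupp.single_mem (k := k) (S.X.inv_mem (S.D_le hd)) 1
    rw [hφv, hφv, mul_inv_rev, ← mul_one (1 : k), ← MonoidAlgebra.single_mul_single,
      ← MonoidAlgebra.single_mul_single, mul_one, mul_smul, mul_smul, hFz hdX', ← mul_smul S.a,
      ← mul_smul (MonoidAlgebra.single d (1 : k)), ← mul_assoc,
      show MonoidAlgebra.single d (1 : k) * S.a * MonoidAlgebra.single d⁻¹ 1 = S.a from S.a_fix d hd]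
  have hφout : ∀ g : G, φ ((QuotientGroup.mk g : G ⧸ S.D).out) = φ g := fun g => by
    obtain ⟨d, hd⟩ := QuotientGroup.mk_out_eq_mul S.D g
    rw [hd, hφr g d d.2]
  have hφl : ∀ g h : G, ∀ m : M, φ (g * h) (MonoidAlgebra.single g (1 : k) • m) =
      MonoidAlgebra.single g (1 : k) • φ h m := fun g h m => by
    rw [hφv, hφv]
    simp only [← mul_smul, MonoidAlgebra.single_mul_single, mul_one, mul_inv_rev,
      inv_mul_cancel_right, ← mul_assoc]
  set Φ : Module.End k M := ∑ q : G ⧸ S.D, φ q.out with hΦ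
  have hshift : ∀ (g : G) (q : G ⧸ S.D), φ (g • q).out = φ (g * q.out) := fun g q => by
    conv_lhs => rw [← QuotientGroup.out_eq' q]
    exact hφout _
  have hΦg : ∀ (g : G) (m : M), Φ (MonoidAlgebra.single g (1 : k) • m) =
      MonoidAlgebra.single g (1 : k) • Φ m := by
    intro g m
    rw [hΦ, LinearMap.sum_apply, LinearMap.sum_apply, Finset.smul_sum]
    symm
    refine Fintype.sum_equiv (MulAction.toPerm g) _ _ fun q => ?_
    show _ = φ (g • q).out _
    rw [hshift, hφl]
  let Φ' : Module.End (GA k G) M :=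
    { toFun := Φ
      map_add' := map_add Φ
      map_smul' := fun z m => by
        simp only [RingHom.id_apply]
        induction z using MonoidAlgebra.induction_linear with
        | zero => simp
        | add a c ha hc => rw [add_smul, add_smul, map_add, ha, hc]
        | single g r =>
          rw [← mul_one r, ← smul_eq_mul, ← MonoidAlgebra.smul_single, smul_assoc, smul_assoc,
            map_smul, hΦg] }
  obtain ⟨c, hc⟩ := (IsSimpleModule.algebraMap_end_bijective_of_isAlgClosed k
    (A := GA k G) (V := M)).2 Φ'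
  have hΦc : ∀ m, Φ m = c • m := fun m =>
    (congrArg (fun E : Module.End (GA k G) M => E m) hc).symm
  refine ⟨c, fun v hv hTv => ?_⟩
  have hcv : c • v = ∑ q : G ⧸ S.D, S.i • φ q.out v := by
    rw [← Finset.smul_sum, ← LinearMap.sum_apply, ← hΦ, hΦc, smul_comm, hv]
  -- the three kinds of cosets
  let inX : G ⧸ S.D → Prop := fun q => ∃ l : ℕ, (S.t ^ l)⁻¹ * q.out ∈ S.X
  let inN : G ⧸ S.D → Prop := fun q => q.out ∈ S.N
  have hXN : ∀ q, inX q → inN q := fun q ⟨l, hl⟩ => by
    have := S.N.mul_mem (pow_mem S.t_mem l) (S.X_le hl)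
    rwa [mul_inv_cancel_left] at this
  rw [← Finset.sum_filter_add_sum_filter_not Finset.univ inN,
    ← Finset.sum_filter_add_sum_filter_not (Finset.univ.filter inN) inX] at hcv
  have hzero : ∑ q ∈ (Finset.univ.filter inN).filter (fun q => ¬ inX q), S.i • φ q.out v = 0 := by
    refine Finset.sum_eq_zero fun q hq => ?_
    obtain ⟨hqN, hqX⟩ := Finset.mem_filter.1 hq
    have ho := S.b_orth _ (Finset.mem_filter.1 hqN).2 fun l hl => hqX ⟨l, hl⟩
    rw [hφv, ← S.b_mul_a, mul_smul S.b S.a, ← mul_smul _ S.b, conjA_eq_mul, ← mul_smul S.i,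
      ← mul_assoc, ← S.i_b, mul_assoc S.i S.b, ho, mul_zero, zero_mul, zero_smul]
  rw [hzero, add_zero] at hcv
  -- the cosets in `t ^ l X`
  haveI := Fintype.ofFinite (S.X ⧸ S.D.subgroupOf S.X)
  have hone : ∀ v : M, ∑ y : S.X ⧸ S.D.subgroupOf S.X, conjA k (y.out : G) S.a • v = S.b • v := by
    intro v
    rw [← Finset.sum_smul]
    congr 1
    set fs := (Finset.univ : Finset (S.X ⧸ S.D.subgroupOf S.X)).image fun y => (y.out : G) with hfs
    rw [← S.a_trace fs (fun g hg => ?_) (fun g hg => ?_), hfs, Finset.sum_image]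
    · intro y _ y' _ h
      exact Quotient.out_inj.1 (Subtype.ext h)
    · obtain ⟨y, -, rfl⟩ := Finset.mem_image.1 hg
      exact y.out.2
    · obtain ⟨d, hd⟩ := QuotientGroup.mk_out_eq_mul (S.D.subgroupOf S.X) ⟨g, hg⟩
      refine ⟨_, ⟨Finset.mem_image_of_mem _ (Finset.mem_univ
        (QuotientGroup.mk ⟨g, hg⟩ : S.X ⧸ S.D.subgroupOf S.X)), ?_⟩, ?_⟩
      · rw [hd, Subgroup.coe_mul, mul_inv_rev, mul_assoc, inv_mul_cancel, mul_one]
        exact S.D.inv_mem (Subgroup.mem_subgroupOf.1 d.2)
      · rintro g' ⟨hg', hgd⟩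
        obtain ⟨y, -, rfl⟩ := Finset.mem_image.1 hg'
        congr 1
        refine congrArg Quotient.out ?_
        conv_lhs => rw [← QuotientGroup.out_eq' y]
        rw [QuotientGroup.eq, Subgroup.mem_subgroupOf]
        exact hgd
  have hτf : ∀ (l : ℕ) (w : M), S.i • w = w → f ((S.τ ^ l * S.i) • w) = (S.τ ^ l * S.i) • f w := by
    intro l w hw
    induction l with
    | zero => simp [hw, hfi w hw]
    | succ l ih =>
      rw [pow_succ', mul_assoc, mul_smul, hfτ _ (by rw [← mul_smul, S.i_τ_pow]), ih, ← mul_smul]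
  have hin : ∑ q ∈ (Finset.univ.filter inN).filter inX, S.i • φ q.out v = (S.e : k) • f v := by
    rw [show (S.e : k) • f v = ∑ l ∈ Finset.range S.e, f v by
      rw [Finset.sum_const, Finset.card_range, Nat.cast_smul_eq_nsmul]]
    have hl : ∀ l ∈ Finset.range S.e, f v = ∑ y : S.X ⧸ S.D.subgroupOf S.X,
        S.i • φ (S.t ^ l * (y.out : G)) v := by
      intro l _
      set z := MonoidAlgebra.single (S.t ^ l)⁻¹ (1 : k) * (S.τ ^ l * S.i) with hzdef
      have hz : IsSupp S.X z := inCos_one.1 (by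
        have := (inCos_single (k := k) (X := S.X) (S.t ^ l)⁻¹ 1).mul (S.τ_pow_cos l)
          (S.conj_mem (S.pow_t_norm l))
        rwa [inv_mul_cancel] at this)
      set v' := (S.τ' ^ l * S.i) • v with hv'
      have hv'i : S.i • v' = v' := by
        rw [hv', ← mul_smul, ← mul_assoc, (S.commute_τ'.pow_right l).eq, mul_assoc, S.i_idem]
      have hvv : (S.τ ^ l * S.i) • v' = v := by rw [hv', ← mul_smul, S.τ_τ'_pow, hv]
      have key : ∀ y : S.X ⧸ S.D.subgroupOf S.X, φ (S.t ^ l * (y.out : G)) v =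
          MonoidAlgebra.single (S.t ^ l) (1 : k) • conjA k (y.out : G) S.a •
            F (MonoidAlgebra.single (S.t ^ l)⁻¹ (1 : k) • v) := by
        intro y
        rw [hφv, mul_inv_rev, ← mul_one (1 : k), ← MonoidAlgebra.single_mul_single,
          ← MonoidAlgebra.single_mul_single, mul_one, mul_smul, mul_smul,
          hFz (IsSupp.single_mem (S.X.inv_mem y.out.2) 1), conjA]
        simp only [mul_smul]
      simp only [key, ← Finset.smul_sum]
      rw [hone, hbF]
      conv_rhs => rw [← hvv, ← mul_smul _ (S.τ ^ l * S.i), ← hzdef, hFz hz, hFv v' hv'i,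
        hzdef, ← mul_smul (MonoidAlgebra.single (S.t ^ l) (1 : k)), ← mul_assoc,
        MonoidAlgebra.single_mul_single, mul_inv_cancel, mul_one, ← MonoidAlgebra.one_def, one_mul,
        ← hτf l v' hv'i, hvv, hfi v hv]
    rw [Finset.sum_congr rfl hl, ← Finset.sum_product']
    symm
    refine Finset.sum_bij (fun a _ => (QuotientGroup.mk (S.t ^ a.1 * (a.2.out : G)) : G ⧸ S.D))
      (fun a _ => ?_) (fun a ha a' ha' h => ?_) (fun q hq => ?_) (fun a _ => by rw [hφout])
    · obtain ⟨d, hd⟩ := QuotientGroup.mk_out_eq_mul S.D (S.t ^ a.1 * (a.2.out : G))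
      have hX : inX (QuotientGroup.mk (S.t ^ a.1 * (a.2.out : G))) := ⟨a.1, by
        rw [hd, mul_assoc, ← mul_assoc _ (S.t ^ a.1), inv_mul_cancel, one_mul]
        exact S.X.mul_mem a.2.out.2 (S.D_le d.2)⟩
      exact Finset.mem_filter.2 ⟨Finset.mem_filter.2 ⟨Finset.mem_univ _, hXN _ hX⟩, hX⟩
    · have hd := QuotientGroup.eq.1 h
      have hmemX : (S.t ^ a.1)⁻¹ * S.t ^ a'.1 ∈ S.X := by
        have := S.X.mul_mem (S.X.mul_mem a.2.out.2 (S.D_le hd)) (S.X.inv_mem a'.2.out.2)
        simpa [mul_assoc] using this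
      have key : ∀ l₁ l₂ : ℕ, l₁ < S.e → l₂ < S.e → l₁ ≤ l₂ →
          (S.t ^ l₁)⁻¹ * S.t ^ l₂ ∈ S.X → l₁ = l₂ := by
        intro l₁ l₂ h₁ h₂ hle hm
        obtain ⟨j, rfl⟩ := Nat.exists_eq_add_of_le hle
        rw [pow_add, inv_mul_cancel_left, S.t_pow] at hm
        have := Nat.eq_zero_of_dvd_of_lt hm (by omega)
        omega
      have hl1 := Finset.mem_range.1 (Finset.mem_product.1 ha).1
      have hl2 := Finset.mem_range.1 (Finset.mem_product.1 ha').1
      have he : a.1 = a'.1 := by
        rcases le_total a.1 a'.1 with hle | hle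
        · exact key _ _ hl1 hl2 hle hmemX
        · refine (key _ _ hl2 hl1 hle ?_).symm
          simpa using S.X.inv_mem hmemX
      refine Prod.ext he ?_
      rw [he] at hd
      conv_lhs => rw [← QuotientGroup.out_eq' a.2]
      conv_rhs => rw [← QuotientGroup.out_eq' a'.2]
      rw [QuotientGroup.eq, Subgroup.mem_subgroupOf]
      simpa [mul_assoc] using hd
    · obtain ⟨-, l, hl⟩ := Finset.mem_filter.1 hq
      have hl' : (S.t ^ (l % S.e))⁻¹ * q.out ∈ S.X := by
        have h1 : S.t ^ (S.e * (l / S.e)) ∈ S.X := (S.t_pow _).2 (dvd_mul_right _ _)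
        have h2 : S.t ^ l = S.t ^ (l % S.e) * S.t ^ (S.e * (l / S.e)) := by
          rw [← pow_add, Nat.mod_add_div]
        rw [h2, mul_inv_rev, mul_assoc] at hl
        simpa using S.X.mul_mem h1 hl
      refine ⟨(l % S.e, QuotientGroup.mk ⟨_, hl'⟩),
        Finset.mem_product.2 ⟨Finset.mem_range.2 (Nat.mod_lt _ S.e_pos), Finset.mem_univ _⟩, ?_⟩
      obtain ⟨d, hd⟩ := QuotientGroup.mk_out_eq_mul (S.D.subgroupOf S.X) ⟨_, hl'⟩
      conv_rhs => rw [← QuotientGroup.out_eq' q]
      refine QuotientGroup.eq.2 ?_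
      rw [hd, Subgroup.coe_mul]
      have := S.D.inv_mem (Subgroup.mem_subgroupOf.1 d.2)
      simpa [mul_assoc] using this
  rw [hin] at hcv
  -- the free cosets
  have hsN : ∀ d : S.D, ∀ q ∈ Finset.univ.filter (fun q => ¬ inN q),
      d • q ∈ Finset.univ.filter (fun q => ¬ inN q) := by
    intro d q hq
    refine Finset.mem_filter.2 ⟨Finset.mem_univ _, fun h => (Finset.mem_filter.1 hq).2 ?_⟩
    have hdq : d • q = QuotientGroup.mk ((d : G) * q.out) := by
      conv_lhs => rw [← QuotientGroup.out_eq' q]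
      rfl
    obtain ⟨d', hd'⟩ := QuotientGroup.mk_out_eq_mul S.D ((d : G) * q.out)
    show q.out ∈ S.N
    have h' : ((d • q).out : G) ∈ S.N := h
    rw [hdq, hd'] at h'
    have hDN : ∀ {x}, x ∈ S.D → x ∈ S.N := fun hx => S.X_le (S.D_le hx)
    rw [Subgroup.mul_mem_cancel_right _ (hDN d'.2), Subgroup.mul_mem_cancel_left _ (hDN d.2)] at h'
    exact h'
  have hfr : ∀ d : S.D, ∀ q ∈ Finset.univ.filter (fun q => ¬ inN q), d • q = q → d = 1 := by
    intro d q hq h
    refine Subtype.ext (S.free _ (Finset.mem_filter.1 hq).2 d d.2 ?_)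
    have hdq : d • q = QuotientGroup.mk ((d : G) * q.out) := by
      conv_lhs => rw [← QuotientGroup.out_eq' q]
      rfl
    rw [hdq] at h
    conv_rhs at h => rw [← QuotientGroup.out_eq' q]
    have := S.D.inv_mem (QuotientGroup.eq.1 h)
    rwa [mul_inv_rev, inv_inv, ← mul_assoc] at this
  obtain ⟨rs, -, hrs⟩ := exists_free_reps _ hsN hfr
  set h₀ : Module.End k M := ∑ q ∈ rs, φ q.out with hh₀
  set Ψ : Module.End k M := ∑ q ∈ Finset.univ.filter (fun q => ¬ inN q), φ q.out with hΨ
  have hΨd : ∀ m, Ψ m = ∑ d : S.D, MonoidAlgebra.single (d : G) (1 : k) •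
      h₀ (MonoidAlgebra.single (d : G)⁻¹ (1 : k) • m) := by
    intro m
    rw [hΨ, LinearMap.sum_apply, hrs (A := M) (fun q => φ q.out m)]
    refine Finset.sum_congr rfl fun d _ => ?_
    rw [hh₀, LinearMap.sum_apply, Finset.smul_sum]
    refine Finset.sum_congr rfl fun q _ => ?_
    rw [show (d • q : G ⧸ S.D) = (d : G) • q from rfl, hshift, ← hφl, ← mul_smul,
      MonoidAlgebra.single_mul_single, mul_inv_cancel, mul_one, ← MonoidAlgebra.one_def, one_smul]
  have hΨX : ∀ x ∈ S.X, ∀ m, Ψ (MonoidAlgebra.single x (1 : k) • m) =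
      MonoidAlgebra.single x (1 : k) • Ψ m := by
    intro x hx m
    rw [hΨ, LinearMap.sum_apply, LinearMap.sum_apply, Finset.smul_sum]
    symm
    have hmem : ∀ q : G ⧸ S.D, inN (x • q) ↔ inN q := by
      intro q
      obtain ⟨d, hd⟩ := QuotientGroup.mk_out_eq_mul S.D (x * q.out)
      have hxq : x • q = QuotientGroup.mk (x * q.out) := by
        conv_lhs => rw [← QuotientGroup.out_eq' q]
        rfl
      show (x • q).out ∈ S.N ↔ q.out ∈ S.N
      rw [hxq, hd, Subgroup.mul_mem_cancel_right _ (S.X_le (S.D_le d.2)),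
        Subgroup.mul_mem_cancel_left _ (S.X_le hx)]
    refine Finset.sum_equiv (MulAction.toPerm x) (fun q => ?_) (fun q _ => ?_)
    · simp only [Finset.mem_filter, Finset.mem_univ, true_and, MulAction.toPerm_apply, hmem]
    · rw [MulAction.toPerm_apply, hshift, hφl]
  haveI := Fintype.ofFinite S.X
  have hΨv : S.i • Ψ v = ∑ x : S.X, (S.i * MonoidAlgebra.single (x : G) 1) •
      (S.a • h₀ (MonoidAlgebra.single (x : G)⁻¹ (1 : k) • v)) := by
    conv_lhs => rw [← S.i_b, mul_smul, ← hone, Finset.smul_sum]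
    have h1 : ∀ y : S.X ⧸ S.D.subgroupOf S.X, S.i • (conjA k (y.out : G) S.a • Ψ v) =
        ∑ d : S.D, (S.i * MonoidAlgebra.single ((y.out : G) * (d : G)) 1) •
          (S.a • h₀ (MonoidAlgebra.single ((y.out : G) * (d : G))⁻¹ (1 : k) • v)) := by
      intro y
      rw [conjA, mul_smul, mul_smul, ← hΨX _ (S.X.inv_mem y.out.2), hΨd, Finset.smul_sum,
        Finset.smul_sum, Finset.smul_sum]
      refine Finset.sum_congr rfl fun d _ => ?_
      rw [← mul_smul S.a, show S.a * MonoidAlgebra.single (d : G) (1 : k) =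
          MonoidAlgebra.single (d : G) 1 * S.a by
            conv_lhs => rw [← S.a_fix d d.2]
            rw [conjA, mul_assoc, MonoidAlgebra.single_mul_single, inv_mul_cancel, mul_one,
              ← MonoidAlgebra.one_def, mul_one],
        ← mul_smul (MonoidAlgebra.single (d : G)⁻¹ (1 : k)), MonoidAlgebra.single_mul_single,
        mul_one, ← mul_inv_rev, mul_smul (MonoidAlgebra.single (d : G) (1 : k)),
        ← mul_smul (MonoidAlgebra.single (y.out : G) (1 : k)), MonoidAlgebra.single_mul_single,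
        mul_one, ← mul_smul S.i]
    simp only [h1]
    rw [← Finset.sum_product']
    refine Finset.sum_bij (fun a _ => (⟨(a.1.out : G) * (a.2 : G),
      S.X.mul_mem a.1.out.2 (S.D_le a.2.2)⟩ : S.X)) (fun a _ => Finset.mem_univ _)
      (fun a _ a' _ h => ?_) (fun g _ => ?_) (fun a _ => rfl)
    · have h' : (a.1.out : G) * a.2 = a'.1.out * a'.2 := congrArg Subtype.val h
      have he : a.1 = a'.1 := by
        conv_lhs => rw [← QuotientGroup.out_eq' a.1]
        conv_rhs => rw [← QuotientGroup.out_eq' a'.1]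
        rw [QuotientGroup.eq, Subgroup.mem_subgroupOf, Subgroup.coe_mul, Subgroup.coe_inv,
          show (a.1.out : G)⁻¹ * a'.1.out = a.2 * (a'.2 : G)⁻¹ by
            rw [eq_mul_inv_iff_mul_eq, mul_assoc, ← h', inv_mul_cancel_left]]
        exact S.D.mul_mem a.2.2 (S.D.inv_mem a'.2.2)
      refine Prod.ext he (Subtype.ext ?_)
      rw [he] at h'
      exact mul_left_cancel h'
    · obtain ⟨d, hd⟩ := QuotientGroup.mk_out_eq_mul (S.D.subgroupOf S.X) g
      refine ⟨(QuotientGroup.mk g, ⟨(d : G)⁻¹, S.D.inv_mem (Subgroup.mem_subgroupOf.1 d.2)⟩),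
        Finset.mem_product.2 ⟨Finset.mem_univ _, Finset.mem_univ _⟩, Subtype.ext ?_⟩
      show ((QuotientGroup.mk g : S.X ⧸ _).out : G) * _ = g
      rw [hd]
      simp
  -- factor through the free module
  let bM := Module.finBasis k M
  set h' : Module.End k M := Algebra.lsmul k k M S.a * h₀ with hh'
  let w : Fin (Module.finrank k M) → M → GA k G := fun j m => ∑ x : S.X,
    bM.repr (h' (MonoidAlgebra.single (x : G)⁻¹ (1 : k) • m)) j • MonoidAlgebra.single (x : G) 1
  have hw : S.i • Ψ v = ∑ j, (S.i * w j v) • bM j := by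
    rw [hΨv]
    simp only [w, Finset.mul_sum, Finset.sum_smul]
    rw [Finset.sum_comm]
    refine Finset.sum_congr rfl fun x _ => ?_
    conv_lhs => rw [show S.a • h₀ (MonoidAlgebra.single (x : G)⁻¹ (1 : k) • v) =
      h' (MonoidAlgebra.single (x : G)⁻¹ (1 : k) • v) from rfl, ← bM.sum_repr (h' _),
      Finset.smul_sum]
    refine Finset.sum_congr rfl fun j _ => ?_
    rw [mul_smul_comm, smul_assoc, smul_comm]
  have hwT : ∀ j, w j (S.T • v) = S.T * w j v := by
    intro j
    have key : ∀ z : GA k G, IsSupp S.X z → w j (z • v) = z * w j v := by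
      intro z hz
      have h1 : ∀ g ∈ S.X, w j (MonoidAlgebra.single g (1 : k) • v) =
          MonoidAlgebra.single g 1 * w j v := by
        intro g hg
        simp only [w, Finset.mul_sum, mul_smul_comm, MonoidAlgebra.single_mul_single, mul_one]
        symm
        refine Fintype.sum_equiv (Equiv.mulLeft (⟨g, hg⟩ : S.X)) _ _ fun x => ?_
        simp only [Equiv.coe_mulLeft, Subgroup.coe_mul, mul_inv_rev, ← mul_smul,
          MonoidAlgebra.single_mul_single, mul_one, inv_mul_cancel_right]
      have hlin : ∀ (r : k) (m : M), w j (r • m) = r • w j m := fun r m => by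
        simp only [w, Finset.smul_sum, smul_comm _ r m, map_smul, Finsupp.coe_smul, Pi.smul_apply,
          smul_eq_mul, smul_smul]
      have hadd : ∀ m m' : M, w j (m + m') = w j m + w j m' := fun m m' => by
        simp only [w, smul_add, map_add, Finsupp.coe_add, Pi.add_apply, add_smul,
          Finset.sum_add_distrib]
      let W : M →ₗ[k] GA k G := { toFun := w j, map_add' := hadd, map_smul' := hlin }
      conv_lhs => rw [← MonoidAlgebra.sum_coeff_single z, Finsupp.sum, Finset.sum_smul]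
      conv_rhs => rw [← MonoidAlgebra.sum_coeff_single z, Finsupp.sum, Finset.sum_mul]
      show W _ = _
      rw [map_sum]
      refine Finset.sum_congr rfl fun g hg => ?_
      rw [show (MonoidAlgebra.single g (z.coeff g) : GA k G) =
        z.coeff g • MonoidAlgebra.single g 1 by rw [MonoidAlgebra.smul_single, smul_eq_mul, mul_one],
        smul_assoc, map_smul, smul_mul_assoc]
      exact congrArg _ (h1 g (hz g (Finsupp.mem_support_iff.1 hg)))
    exact key _ S.T_supp
  have hwtop : ∀ j, ∃ z : GA k G, S.i * w j v = S.top * z := by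
    intro j
    have hsupp : IsSupp S.X (w j v) := by
      intro g hg
      by_contra hgX
      apply hg
      simp only [w, MonoidAlgebra.coeff_sum, Finsupp.finsetSum_apply, MonoidAlgebra.coeff_smul,
        Finsupp.smul_apply]
      refine Finset.sum_eq_zero fun x _ => ?_
      rw [MonoidAlgebra.coeff_single, Finsupp.single_eq_of_ne (fun e => hgX (by subst e; exact x.2)), smul_zero]
    have hT0 : S.T * w j v = 0 := by
      rw [← hwT, hTv]
      simp only [w, smul_zero, map_zero, Finsupp.coe_zero, Pi.zero_apply, zero_smul,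
        Finset.sum_const_zero]
    have hzero : S.T * (S.i * w j v) = 0 := by rw [← mul_assoc, S.T_i, hT0]
    have hdec : S.i * w j v = ∑ l, S.i * (w j v * S.x l) * S.i * S.y l := by
      rw [← hiy hsupp, ← S.frame, Finset.mul_sum]
      exact Finset.sum_congr rfl fun l _ => by simp only [mul_assoc]
    have hc : ∀ l, ∃ cl : k, S.i * (w j v * S.x l) * S.i = cl • S.top := fun l =>
      S.eq_top_of_T_mul (isSupp_mul hsupp (S.x_supp l)) (by
        rw [← mul_assoc, show S.T * (S.i * (w j v * S.x l)) = S.T * (S.i * w j v) * S.x l by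
          simp only [mul_assoc], hzero, zero_mul, zero_mul])
    choose cl hcl using hc
    refine ⟨∑ l, cl l • S.y l, ?_⟩
    rw [hdec, Finset.mul_sum]
    exact Finset.sum_congr rfl fun l _ => by rw [hcl, smul_mul_assoc, mul_smul_comm]
  choose z hz using hwtop
  refine ⟨∑ j, z j • bM j, ?_⟩
  have hout : ∑ q ∈ Finset.univ.filter (fun q => ¬ inN q), S.i • φ q.out v = S.i • Ψ v := by
    rw [← Finset.smul_sum, ← LinearMap.sum_apply]
  rw [hcv, hout, hw, add_sub_cancel_left, Finset.smul_sum]
  exact Finset.sum_congr rfl fun j _ => by rw [hz, mul_smul]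

end Serial

end CfsgLib.CyclicDefect
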