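import Cfsg.Agent.CyclicDefect.Setup
import Cfsg.Agent.Blocks.Knorr
import Cfsg.Agent.Blocks.Height

/-!
# The columns at the local block

`cv χ j` is the inner product of the restriction of `χ` to `X` with `ξ_j - ξ_0`.  The columns have
Gram matrix `e + δ` on orbit representatives, vanish outside `B`, are orthogonal to the values at
regular elements, and determine the values of `B` at singular elements.
-/

set_option autoImplicit false
set_option linter.unusedSectionVars false
set_option linter.style.haveILetI false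

namespace CfsgLib.CyclicDefect

open Cfsg CfsgLib.BlockPairs CfsgLib.Star
open CfsgLib.Blocks (Res overSet isBlockUnion_of_isPBlock omegaBar idemBar resCtr)
open scoped ComplexConjugate

universe u

variable {p : ℕ} [hp : Fact p.Prime] {M : Ideal AlgInt} [M.IsPrime]

namespace Nil

variable {G : Type u} [Group G] [Fintype G] [CharP (Res M) p] [IsAlgClosed (Res M)]
  (𝒩 : Nil p M G)

theorem xi_eq_zero_of (j : ZMod 𝒩.n) {g : G}
    (hg : ∀ h : G, h * pPart p g * h⁻¹ ∈ 𝒩.P → h * pPart p g * h⁻¹ = 1) :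
    (𝒩.xi j : G → ℂ) g = (𝒩.xi 0 : G → ℂ) g := by
  show 𝒩.xiFun j g = 𝒩.xiFun 0 g
  simp only [xiFun, star_apply]
  refine Finset.sum_congr rfl fun e _ => ?_
  congr 1
  unfold zt
  split_ifs with h
  · have hw : h.choose * pPart p g * h.choose⁻¹ ∈ 𝒩.P :=
      h.choose_spec.subgroup_le (mem_cj.2 (by simp [mul_assoc]))
    rw [hg _ hw, lext_one, lext_one]
  · rfl

theorem sum_xi_singular {g : G} (hg : p ∣ orderOf g) : ∑ j, (𝒩.xi j : G → ℂ) g = 0 := by
  classical
  have h0 : 𝒩.part 0 g = 0 := by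
    rw [part, star_apply]
    refine Finset.sum_eq_zero fun e _ => mul_eq_zero_of_left ?_ _
    unfold zt
    split_ifs with h
    · have hw : h.choose * pPart p g * h.choose⁻¹ ∈ 𝒩.P :=
        h.choose_spec.subgroup_le (mem_cj.2 (by simp [mul_assoc]))
      rw [ind, dif_pos hw, if_neg]
      intro hl
      have h1 : (⟨_, hw⟩ : 𝒩.P) = 1 := 𝒩.log_injective (by simpa using hl)
      have h2 : pPart p g = 1 := conj_eq_one_iff.1 (congrArg Subtype.val h1)
      obtain ⟨y, hy, -, -, hy'⟩ := pPart_spec (p := p) g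
      rw [h2, one_mul] at hy
      exact hy' (hy ▸ hg)
    · rfl
  have := 𝒩.part_eq_sum 0 g
  simpa [h0] using this.symm

end Nil

namespace Setup

variable {G : Type u} [Group G] [Fintype G] [CharP (Res M) p] [IsAlgClosed (Res M)]
  {B : Set (IrrCharacter G)} (S : Setup p M G B)

/-- The restriction to `X`. -/
def res (θ : G → ℂ) : S.X → ℂ := fun x => θ x

/-- The difference of a member and the base member. -/
noncomputable def psi (j : ZMod S.nil.n) : S.X → ℂ :=
  (S.nil.xi j : S.X → ℂ) - (S.nil.xi 0 : S.X → ℂ)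

/-- The column entry. -/
noncomputable def cv (χ : IrrCharacter G) (j : ZMod S.nil.n) : ℂ :=
  Cfsg.classInner (S.res χ) (S.psi j)

theorem isClassFunction_res {θ : G → ℂ} (hθ : Cfsg.IsClassFunction G θ) :
    Cfsg.IsClassFunction S.X (S.res θ) := fun g h => by
  simp only [res, Subgroup.coe_mul, InvMemClass.coe_inv]
  exact hθ _ _

theorem exists_int (χ : IrrCharacter G) (j : ZMod S.nil.n) : ∃ z : ℤ, S.cv χ j = z := by
  have hc := Characters.isCharacter_restrict S.X (Characters.isCharacter_of_isIrr χ.2)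
  obtain ⟨m, hm⟩ := Characters.classInner_character_irr hc (S.nil.xi j).2
  obtain ⟨m', hm'⟩ := Characters.classInner_character_irr hc (S.nil.xi 0).2
  refine ⟨(m : ℤ) - m', ?_⟩
  rw [cv, psi, Characters.classInner_sub_right]
  push_cast
  exact congrArg₂ (· - ·) hm hm'

/-- The column entry, as an integer. -/
noncomputable def ci (χ : IrrCharacter G) (j : ZMod S.nil.n) : ℤ := (S.exists_int χ j).choose

theorem ci_eq (χ : IrrCharacter G) (j : ZMod S.nil.n) : (S.ci χ j : ℂ) = S.cv χ j :=
  (S.exists_int χ j).choose_spec.symm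

theorem conj_cv (χ : IrrCharacter G) (j : ZMod S.nil.n) : conj (S.cv χ j) = S.cv χ j := by
  rw [← S.ci_eq, map_intCast]

theorem isPPart_coe {x z : S.X} (h : Cfsg.IsPPart p x z) : Cfsg.IsPPart p (x : G) (z : G) := by
  obtain ⟨y, hy, hc, hz, hy'⟩ := h
  exact ⟨y, by rw [← hy, Subgroup.coe_mul], congrArg Subtype.val hc.eq,
    by simpa using hz, by simpa using hy'⟩

/-- The elements of the sections at the non-identity elements of the defect group. -/
def Sect (x : S.X) : Prop :=
  ∃ h : S.X, (h : G) * (pPart p x : S.X) * (h : G)⁻¹ ∈ S.D ∧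
    (h : G) * (pPart p x : S.X) * (h : G)⁻¹ ≠ 1

theorem psi_supp {j : ZMod S.nil.n} {x : S.X} (h : S.psi j x ≠ 0) : S.Sect x := by
  by_contra hns
  refine h (sub_eq_zero.2 (S.nil.xi_eq_zero_of j fun c hc => ?_))
  by_contra hne
  rw [S.P_eq, Subgroup.mem_subgroupOf, Subgroup.coe_mul, Subgroup.coe_mul,
    InvMemClass.coe_inv] at hc
  exact hns ⟨c, hc, fun h1 => hne (Subtype.ext (by simpa using h1))⟩

theorem sect_singular {x : S.X} (h : S.Sect x) : p ∣ orderOf x := by
  obtain ⟨c, hc, hne⟩ := h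
  by_contra hx
  have h1 : pPart p x = 1 := pPart_eq ⟨x, one_mul x, Commute.one_left x, ⟨0, by simp⟩, hx⟩
  exact hne (by simp [h1])

theorem sect_hC {x : S.X} (h : S.Sect x) (z : G) (hz : Cfsg.IsPPart p (x : G) z) :
    Subgroup.centralizer ({z} : Set G) ≤ S.X := by
  obtain ⟨c, hc, hne⟩ := h
  obtain rfl := Blocks.isPPart_unique hp.out (S.isPPart_coe (pPart_spec (p := p) x)) hz
  intro g hg
  rw [Subgroup.mem_centralizer_singleton_iff] at hg
  have h1 : (c : G) * g * (c : G)⁻¹ ∈ S.X := S.cent _ hc hne (by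
    rw [Subgroup.mem_centralizer_singleton_iff]
    calc (c : G) * g * (c : G)⁻¹ * ((c : G) * (pPart p x : S.X) * (c : G)⁻¹)
        = (c : G) * (g * (pPart p x : S.X)) * (c : G)⁻¹ := by group
      _ = _ := by rw [hg]; group)
  simpa [mul_assoc] using S.X.mul_mem (S.X.mul_mem (S.X.inv_mem c.2) h1) c.2

theorem omega_compl {ξ : IrrCharacter S.X} (h : ξ ∈ S.nil.B) :
    omegaBar M ξ (resCtr S.X (idemBar M Bᶜ
      (Blocks.isBlockUnion_compl (isBlockUnion_of_isPBlock S.block)))) = 0 := by
  have h1 : omegaBar M ξ (resCtr S.X (idemBar M B (isBlockUnion_of_isPBlock S.block))) +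
      omegaBar M ξ (resCtr S.X (idemBar M Bᶜ
        (Blocks.isBlockUnion_compl (isBlockUnion_of_isPBlock S.block)))) = 1 := by
    rw [← map_add, ← map_add, Blocks.idemBar_add_compl, Blocks.resCtr_one, map_one]
  rw [S.above ξ h] at h1
  linear_combination h1

open Classical in
theorem classInner_blockPart {b : Set (IrrCharacter S.X)} {f : S.X → ℂ} {ξ : IrrCharacter S.X}
    (hξ : ξ ∈ b) : Cfsg.classInner (Cfsg.blockPart b f) (ξ : S.X → ℂ) =
      Cfsg.classInner f (ξ : S.X → ℂ) := by
  rw [show Cfsg.blockPart b f = ∑ η : IrrCharacter S.X,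
      (if η ∈ b then Cfsg.classInner f η else 0) • (η : S.X → ℂ) from funext fun y => by
    rw [Cfsg.blockPart, Blocks.finsum_irr_mem, Finset.sum_apply,
      show Fintype.ofFinite S.X = S.fintypeX from Subsingleton.elim _ _]
    exact Finset.sum_congr rfl fun η _ => by split_ifs <;> simp,
    Characters.classInner_irr_coeff, if_pos hξ]

open Classical in
theorem sum_coeff_eq_zero {A : Set (IrrCharacter S.X)} (hA : Blocks.IsBlockUnion M A)
    {F : Set (IrrCharacter G)} (hF : Blocks.IsBlockUnion M F)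
    (h0 : ∀ ξ ∈ A, omegaBar M ξ (resCtr S.X (idemBar M F hF)) = 0)
    {χ : IrrCharacter G} (hχ : χ ∈ F) {x : S.X} (hx : S.Sect x) :
    Cfsg.blockPart A (S.res χ) x = 0 := by
  rw [Blocks.blockPart_eq_sum A (S.isClassFunction_res (Characters.isClassFunction_of_isIrr χ.2))]
  have key := Blocks.second_main S.mod (fun z hz => S.sect_hC hx z hz) hA hF h0 hχ
  exact key

theorem cv_eq_zero {χ : IrrCharacter G} (hχ : χ ∉ B) (j : ZMod S.nil.n) : S.cv χ j = 0 := by
  have h1 : S.cv χ j = Cfsg.classInner (Cfsg.blockPart S.nil.B (S.res χ)) (S.psi j) := by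
    rw [cv, psi, Characters.classInner_sub_right, Characters.classInner_sub_right,
      S.classInner_blockPart (S.nil.xi_mem j), S.classInner_blockPart (S.nil.xi_mem 0)]
  rw [h1, Cfsg.classInner, Finset.sum_eq_zero, mul_zero]
  intro x _
  by_cases hx : S.psi j x = 0
  · rw [hx, map_zero, mul_zero]
  · rw [S.sum_coeff_eq_zero (isBlockUnion_of_isPBlock S.nil.block)
      (Blocks.isBlockUnion_compl (isBlockUnion_of_isPBlock S.block))
      (fun ξ hξ => S.omega_compl hξ) hχ (S.psi_supp hx), zero_mul]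

theorem sum_cv_regular (j : ZMod S.nil.n) {g : G} (hg : ¬ p ∣ orderOf g) :
    ∑ χ : IrrCharacter G, S.cv χ j * (χ : G → ℂ) g = 0 := by
  calc ∑ χ : IrrCharacter G, S.cv χ j * (χ : G → ℂ) g
      = ∑ χ : IrrCharacter G, conj (S.cv χ j) * (χ : G → ℂ) g := by simp only [S.conj_cv]
    _ = ∑ x : S.X, (Nat.card S.X : ℂ)⁻¹ * S.psi j x *
          ∑ χ : IrrCharacter G, (χ : G → ℂ) g * conj ((χ : G → ℂ) x) := by
        simp only [Finset.mul_sum]
        rw [Finset.sum_comm]
        refine Finset.sum_congr rfl fun χ _ => ?_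
        rw [cv, Cfsg.classInner]
        simp only [map_mul, map_sum, map_inv₀, Complex.conj_natCast, Complex.conj_conj, res,
          Finset.mul_sum, Finset.sum_mul]
        exact Finset.sum_congr rfl fun x _ => by ring
    _ = 0 := Finset.sum_eq_zero fun x _ => by
        by_cases hx : S.psi j x = 0
        · rw [hx, mul_zero, zero_mul]
        rw [Characters.sum_irr_mul_conj_of_not_isConj, mul_zero]
        refine Blocks.not_isConj_of_regular_singular hg ?_
        rw [Subgroup.orderOf_coe]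
        exact S.sect_singular (S.psi_supp hx)

theorem xi_pow (l : ℕ) (j : ZMod S.nil.n) (h : S.t ^ l ∈ S.N) (x : S.X) :
    (S.nil.xi j : S.X → ℂ) (cjAut (S.N_norm h) x) =
      (S.nil.xi ((S.r : ZMod S.nil.n) ^ l * j) : S.X → ℂ) x := by
  induction l generalizing j with
  | zero =>
    rw [show (S.r : ZMod S.nil.n) ^ 0 * j = j by rw [pow_zero, one_mul]]
    refine congrArg (S.nil.xi j : S.X → ℂ) (Subtype.ext ?_)
    show S.t ^ 0 * (x : G) * (S.t ^ 0)⁻¹ = x
    group
  | succ l ih =>
    rw [show cjAut (S.N_norm h) x =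
        cjAut (S.N_norm S.t_mem) (cjAut (S.N_norm (pow_mem S.t_mem l)) x) from
      Subtype.ext (by simp [pow_succ', mul_assoc]), S.t_xi, ih _ (pow_mem S.t_mem l)]
    rw [pow_succ, mul_assoc]

theorem xi_decomp {n : G} (hn : n ∈ S.N) {l : ℕ} (hl : (S.t ^ l)⁻¹ * n ∈ S.X) (j : ZMod S.nil.n)
    (x : S.X) : (S.nil.xi j : S.X → ℂ) (cjAut (S.N_norm hn) x) =
      (S.nil.xi ((S.r : ZMod S.nil.n) ^ l * j) : S.X → ℂ) x := by
  have h := pow_mem S.t_mem l
  rw [show cjAut (S.N_norm hn) x = cjAut (S.N_norm h)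
      ((⟨_, hl⟩ : S.X) * x * (⟨_, hl⟩ : S.X)⁻¹) from Subtype.ext (by simp [mul_assoc]),
    S.xi_pow l j h, Characters.isClassFunction_of_isIrr (S.nil.xi _).2]

theorem r_mul_ne_zero (l : ℕ) {j : ZMod S.nil.n} (hj : j ≠ 0) :
    (S.r : ZMod S.nil.n) ^ l * j ≠ 0 := fun h =>
  hj ((IsUnit.of_pow_eq_one S.r_pow S.e_pos.ne').pow l |>.mul_right_eq_zero.1 h)

open Classical in
theorem classInner_psi_conj (n : S.N) {i k : ZMod S.nil.n} (hi : i ≠ 0) (hk : k ≠ 0) :
    Cfsg.classInner (fun x => S.psi k (cjAut (S.N_norm n.2) x)) (S.psi i) =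
      ∑ l ∈ Finset.range S.e, if (S.t ^ l)⁻¹ * (n : G) ∈ S.X then
        ((if (S.r : ZMod S.nil.n) ^ l * k = i then 1 else 0) + 1 : ℂ) else 0 := by
  set α := cjAut (S.N_norm n.2)
  let η : ZMod S.nil.n → IrrCharacter S.X := fun j => irrComp α (S.nil.xi j)
  have hη : (fun x => S.psi k (α x)) = (η k : S.X → ℂ) - (η 0 : S.X → ℂ) := rfl
  have hsub : ∀ a b c : S.X → ℂ,
      Cfsg.classInner (a - b) c = Cfsg.classInner a c - Cfsg.classInner b c := fun a b c => by
    simp [Cfsg.classInner, sub_mul, Finset.sum_sub_distrib, mul_sub]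
  rw [hη, hsub, psi, Characters.classInner_sub_right, Characters.classInner_sub_right,
    Characters.classInner_irr, Characters.classInner_irr, Characters.classInner_irr,
    Characters.classInner_irr]
  by_cases hd : ∃ l, l < S.e ∧ (S.t ^ l)⁻¹ * (n : G) ∈ S.X
  · obtain ⟨l, hl, hlX⟩ := hd
    have he : ∀ j, η j = S.nil.xi ((S.r : ZMod S.nil.n) ^ l * j) := fun j =>
      Subtype.ext (funext fun x => S.xi_decomp n.2 hlX j x)
    simp only [he, S.nil.xi_injective.eq_iff, mul_zero]
    rw [Finset.sum_eq_single l, if_pos hlX, if_neg (S.r_mul_ne_zero l hk),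
      if_neg (Ne.symm hi)]
    simp only [if_true]
    · ring
    · intro b hb hne
      rw [if_neg]
      intro hbX
      apply hne
      have h1 : ∀ a c : ℕ, a ≤ c → c < S.e → (S.t ^ a)⁻¹ * (n : G) ∈ S.X →
          (S.t ^ c)⁻¹ * (n : G) ∈ S.X → a = c := by
        intro a c hac hc ha' hc'
        have := S.X.mul_mem ha' (S.X.inv_mem hc')
        rw [show (S.t ^ a)⁻¹ * (n : G) * ((S.t ^ c)⁻¹ * (n : G))⁻¹ = S.t ^ (c - a) by
          rw [mul_inv_rev, inv_inv, ← mul_assoc, mul_inv_cancel_right, eq_comm,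
            eq_inv_mul_iff_mul_eq, ← pow_add]
          congr 1; omega, S.t_pow] at this
        have := Nat.eq_zero_of_dvd_of_lt this (by omega)
        omega
      rcases le_total b l with h | h
      · exact h1 b l h hl hbX hlX
      · exact (h1 l b h (Finset.mem_range.1 hb) hlX hbX).symm
    · exact fun h => absurd (Finset.mem_range.2 hl) h
  · rw [Finset.sum_eq_zero fun l hl => if_neg fun h => hd ⟨l, Finset.mem_range.1 hl, h⟩]
    have hne : ∀ a b, η a ≠ S.nil.xi b := fun a b h =>
      hd (S.decomp n n.2 a b (congrArg Subtype.val h))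
    simp only [if_neg (hne _ _)]
    ring

open Classical in
theorem gram_cv {i k : ZMod S.nil.n} (hi : i ≠ 0) (hk : k ≠ 0) :
    ∑ χ : IrrCharacter G, S.cv χ i * S.cv χ k = (S.e : ℂ) +
      ∑ l ∈ Finset.range S.e, if (S.r : ZMod S.nil.n) ^ l * k = i then 1 else 0 := by
  haveI := Fintype.ofFinite S.N
  set c : ℂ := (Nat.card S.X : ℂ)⁻¹ with hc
  have key : ∀ x : S.X, ∑ y : S.X, conj (S.psi i x) * S.psi k y *
      (Nat.card {g : G // g * (x : G) * g⁻¹ = (y : G)} : ℂ) =
      ∑ n : S.N, conj (S.psi i x) * S.psi k (cjAut (S.N_norm n.2) x) := by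
    intro x
    by_cases hx : S.psi i x = 0
    · simp [hx]
    have hcard : ∀ y, conj (S.psi i x) * S.psi k y *
        (Nat.card {g : G // g * (x : G) * g⁻¹ = (y : G)} : ℂ) =
        ∑ n : S.N, if cjAut (S.N_norm n.2) x = y then conj (S.psi i x) * S.psi k y else 0 := by
      intro y
      by_cases hy : S.psi k y = 0
      · simp [hy]
      rw [← Finset.sum_filter, Finset.sum_const, nsmul_eq_mul,
        mul_comm ((Finset.filter _ _).card : ℂ), ← Fintype.card_subtype, ← Nat.card_eq_fintype_card]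
      congr 2
      have hN : ∀ g : G, g * (x : G) * g⁻¹ = (y : G) → g ∈ S.N := by
        intro g hg
        obtain ⟨h, hd, hne⟩ := S.psi_supp hx
        obtain ⟨h', hd', -⟩ := S.psi_supp hy
        have hz : g * (pPart p x : S.X) * g⁻¹ = (pPart p y : S.X) := by
          have h1 := pPart_eq (S.isPPart_coe (pPart_spec (p := p) y))
          rw [← hg, pPart_conj, pPart_eq (S.isPPart_coe (pPart_spec (p := p) x))] at h1
          exact h1
        have h2 := S.free ((h' : G) * g * (h : G)⁻¹) _ hd hne (by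
          rw [show (h' : G) * g * (h : G)⁻¹ * ((h : G) * (pPart p x : S.X) * (h : G)⁻¹) *
              ((h' : G) * g * (h : G)⁻¹)⁻¹ = (h' : G) * (g * (pPart p x : S.X) * g⁻¹) * (h' : G)⁻¹ by
            group, hz]
          exact hd')
        simpa [mul_assoc] using
          S.N.mul_mem (S.N.mul_mem (S.N.inv_mem (S.X_le h'.2)) h2) (S.X_le h.2)
      exact Nat.card_congr
        { toFun := fun g => ⟨⟨g.1, hN g.1 g.2⟩, Subtype.ext g.2⟩
          invFun := fun n => ⟨n.1, congrArg Subtype.val n.2⟩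
          left_inv := fun g => rfl
          right_inv := fun n => rfl }
    simp only [hcard]
    rw [Finset.sum_comm]
    exact Finset.sum_congr rfl fun n _ => by rw [Finset.sum_ite_eq, if_pos (Finset.mem_univ _)]
  have step : ∑ χ : IrrCharacter G, S.cv χ i * S.cv χ k =
      c * ∑ n : S.N, Cfsg.classInner (fun x => S.psi k (cjAut (S.N_norm n.2) x)) (S.psi i) := by
    calc ∑ χ : IrrCharacter G, S.cv χ i * S.cv χ k
        = ∑ χ : IrrCharacter G, S.cv χ i * conj (S.cv χ k) := by simp only [S.conj_cv]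
      _ = ∑ χ : IrrCharacter G, ∑ x : S.X, ∑ y : S.X, c * c * (conj (S.psi i x) * S.psi k y *
            ((χ : G → ℂ) (x : G) * conj ((χ : G → ℂ) (y : G)))) := by
          refine Finset.sum_congr rfl fun χ _ => ?_
          rw [cv, cv, Cfsg.classInner, Cfsg.classInner]
          simp only [map_mul, map_sum, map_inv₀, Complex.conj_natCast, Complex.conj_conj, res]
          rw [mul_mul_mul_comm, ← hc, Finset.sum_mul_sum, Finset.mul_sum]
          refine Finset.sum_congr rfl fun x _ => ?_
          rw [Finset.mul_sum]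
          exact Finset.sum_congr rfl fun y _ => by ring
      _ = c * c * ∑ x : S.X, ∑ y : S.X, conj (S.psi i x) * S.psi k y *
            (Nat.card {g : G // g * (x : G) * g⁻¹ = (y : G)} : ℂ) := by
          rw [Finset.sum_comm, Finset.mul_sum]
          refine Finset.sum_congr rfl fun x _ => ?_
          rw [Finset.sum_comm, Finset.mul_sum]
          refine Finset.sum_congr rfl fun y _ => ?_
          rw [← Characters.sum_irr_mul_conj, Finset.mul_sum, Finset.mul_sum]
      _ = _ := by
          rw [Finset.sum_congr rfl fun x _ => key x, Finset.sum_comm, mul_assoc]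
          congr 1
          rw [Finset.mul_sum]
          refine Finset.sum_congr rfl fun n _ => ?_
          rw [Cfsg.classInner, ← hc]
          congr 1
          exact Finset.sum_congr rfl fun x _ => mul_comm _ _
  rw [step]
  simp only [S.classInner_psi_conj _ hi hk]
  rw [Finset.sum_comm]
  have hN : ∀ l, ∀ v : ℂ, ∑ n : S.N, (if (S.t ^ l)⁻¹ * (n : G) ∈ S.X then v else 0) =
      (Nat.card S.X : ℂ) * v := by
    intro l v
    rw [← Finset.sum_filter, Finset.sum_const, nsmul_eq_mul, ← Fintype.card_subtype,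
      ← Nat.card_eq_fintype_card]
    congr 2
    exact Nat.card_congr
      { toFun := fun n => ⟨_, n.2⟩
        invFun := fun x => ⟨⟨S.t ^ l * (x : G), mul_mem (pow_mem S.t_mem l) (S.X_le x.2)⟩, by simp⟩
        left_inv := fun n => Subtype.ext (Subtype.ext (by simp))
        right_inv := fun x => Subtype.ext (by simp) }
  simp only [hN, ← Finset.mul_sum, hc]
  rw [inv_mul_cancel_left₀ (Nat.cast_ne_zero.2 Nat.card_pos.ne'), Finset.sum_add_distrib,
    Finset.sum_const, Finset.card_range, nsmul_one, add_comm]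

theorem cv_mul_r (χ : IrrCharacter G) (l : ℕ) (j : ZMod S.nil.n) :
    S.cv χ ((S.r : ZMod S.nil.n) ^ l * j) = S.cv χ j := by
  set α := cjAut (S.N_norm (pow_mem S.t_mem l))
  rw [cv, cv, Cfsg.classInner, Cfsg.classInner]
  congr 1
  refine (Finset.sum_congr rfl fun x _ => ?_).trans (α.toEquiv.sum_comp
    fun x => S.res χ x * conj (S.psi j x))
  have h1 : S.res χ (α x) = S.res χ x := Characters.isClassFunction_of_isIrr χ.2 _ _
  have h2 : S.psi j (α x) = S.psi ((S.r : ZMod S.nil.n) ^ l * j) x := by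
    rw [psi, psi, Pi.sub_apply, Pi.sub_apply, S.xi_pow l j (pow_mem S.t_mem l),
      S.xi_pow l 0 (pow_mem S.t_mem l), mul_zero]
  show _ = S.res χ (α x) * conj (S.psi j (α x))
  rw [h1, h2]

open Classical in
/-- The values of the block at singular elements are linear in the rows. -/
theorem sum_eq_zero_singular (v : IrrCharacter G → ℂ)
    (hv : ∀ j, ∑ χ ∈ B.toFinset, v χ * S.cv χ j = 0) {g : G} (hg : p ∣ orderOf g) :
    ∑ χ ∈ B.toFinset, v χ * (χ : G → ℂ) g = 0 := by
  set θ : G → ℂ := fun y => ∑ χ ∈ B.toFinset, v χ * (χ : G → ℂ) y with hθ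
  have hθc : Cfsg.IsClassFunction G θ := fun a b => Finset.sum_congr rfl fun χ _ => by
    rw [Characters.isClassFunction_of_isIrr χ.2]
  show θ g = 0
  by_cases hD : ∃ c : G, c * pPart p g * c⁻¹ ∈ S.D
  swap
  · refine Finset.sum_eq_zero fun χ hχ => mul_eq_zero_of_right _ ?_
    refine Blocks.char_eq_zero_of_not_mem_defectGroup S.mod χ (pPart_spec g) fun D' hD' hz => ?_
    rw [← Blocks.eq_blockOf_of_mem S.block (Set.mem_toFinset.1 hχ),
      isDefectGroup_gblk_iff S.block] at hD'
    obtain ⟨c, -, hc⟩ := ((isDefectGroup_gblk_iff S.block S.D).1 S.defect).conj_of hD'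
    refine hD ⟨c, ?_⟩
    rw [← hc, mem_cj]
    simpa [mul_assoc] using hz
  obtain ⟨c, hc⟩ := hD
  rw [← hθc g c]
  set x₀ := c * g * c⁻¹
  have hz0 : pPart p x₀ = c * pPart p g * c⁻¹ := pPart_conj c g
  have hne : pPart p x₀ ≠ 1 := by
    intro h1
    obtain ⟨y, hy, -, -, hy'⟩ := pPart_spec (p := p) x₀
    rw [h1, one_mul] at hy
    refine hy' ?_
    rw [hy, show orderOf x₀ = orderOf g from (MulAut.conj c).orderOf_eq g]
    exact hg
  have hx₀ : x₀ ∈ S.X := S.cent _ (hz0 ▸ hc) hne (by
    obtain ⟨y, hy, hcy, -, -⟩ := pPart_spec (p := p) x₀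
    rw [Subgroup.mem_centralizer_singleton_iff]
    have h := (Commute.refl (pPart p x₀)).mul_right hcy
    rw [hy] at h
    exact h.eq.symm)
  set x : S.X := ⟨x₀, hx₀⟩
  have hzx : ((pPart p x : S.X) : G) = pPart p x₀ :=
    (pPart_eq (S.isPPart_coe (pPart_spec (p := p) x))).symm
  have hsect : S.Sect x := ⟨1, by simpa [hzx] using hz0 ▸ hc, by simpa [hzx] using hne⟩
  have hθX : Cfsg.IsClassFunction S.X (S.res θ) := S.isClassFunction_res hθc
  -- the part of the local block vanishes at singular elements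
  have hloc : ∀ y : S.X, p ∣ orderOf y → Cfsg.blockPart S.nil.B (S.res θ) y = 0 := by
    intro y hy
    rw [Cfsg.blockPart, Blocks.finsum_irr_mem,
      show Fintype.ofFinite S.X = S.fintypeX from Subsingleton.elim _ _]
    have hin : ∀ j, Cfsg.classInner (S.res θ) (S.nil.xi j : S.X → ℂ) =
        Cfsg.classInner (S.res θ) (S.nil.xi 0 : S.X → ℂ) := by
      intro j
      rw [← sub_eq_zero, ← Characters.classInner_sub_right]
      refine Eq.trans ?_ (hv j)
      rw [show S.res θ = ∑ χ ∈ B.toFinset, v χ • S.res χ from funext fun y => by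
          simp [res, hθ], Characters.classInner_sum_left]
      refine Finset.sum_congr rfl fun χ _ => ?_
      simp only [cv, psi, Cfsg.classInner, Pi.smul_apply, smul_eq_mul, Finset.mul_sum]
      exact Finset.sum_congr rfl fun y _ => by ring
    rw [← Finset.sum_filter, show (Finset.univ.filter fun η => η ∈ S.nil.B) =
        Finset.univ.image S.nil.xi from Finset.ext fun η => by
      simp only [Finset.mem_filter, Finset.mem_univ, true_and, Finset.mem_image]
      exact ⟨fun h => S.nil.exists_xi h, fun ⟨j, hj⟩ => hj ▸ S.nil.xi_mem j⟩,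
      Finset.sum_image fun a _ b _ h => S.nil.xi_injective h]
    simp only [hin, ← Finset.mul_sum, S.nil.sum_xi_singular hy,
      mul_zero]
  set A := overSet M S.X B (isBlockUnion_of_isPBlock S.block)
  have hA : Blocks.IsBlockUnion M A := Blocks.isBlockUnion_overSet _ _
  have h1 : Cfsg.blockPart A (S.res θ) x = 0 := by
    rw [Cfsg.blockPart, Blocks.finsum_irr_mem,
      show Fintype.ofFinite S.X = S.fintypeX from Subsingleton.elim _ _, ← Finset.sum_filter,
      ← Finset.sum_fiberwise_of_maps_to (g := fun η : IrrCharacter S.X =>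
        Cfsg.blockOf M (η : S.X → ℂ)) (t := Finset.univ.image fun η : IrrCharacter S.X =>
        Cfsg.blockOf M (η : S.X → ℂ)) fun η _ => Finset.mem_image_of_mem _ (Finset.mem_univ η)]
    refine Finset.sum_eq_zero fun d hd => ?_
    obtain ⟨η₀, -, rfl⟩ := Finset.mem_image.1 hd
    by_cases hη₀ : η₀ ∈ A
    swap
    · rw [Finset.filter_eq_empty_iff.2 fun η hη hd' => hη₀ ?_, Finset.sum_empty]
      exact hA η (Finset.mem_filter.1 hη).2 (hd' ▸ Blocks.mem_blockOf_self η₀)
    obtain ⟨n, hn, hco⟩ := S.above_conj η₀ hη₀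
    have hblk := Blocks.isPBlock_blockOf (M := M) η₀
    have h2 : Cfsg.blockPart (Cfsg.blockOf M (η₀ : S.X → ℂ)) (S.res θ) x = 0 := by
      rw [Blocks.blockPart_eq_sum _ hθX]
      set α := cjAut (S.N_norm hn)
      have hinv : ∀ y, S.res θ (α y) = S.res θ y := fun y => hθc _ _
      calc ∑ k : S.X, Cfsg.blockCoeff (Cfsg.blockOf M (η₀ : S.X → ℂ)) k * S.res θ (k * x)
          = ∑ k : S.X, Cfsg.blockCoeff S.nil.B (α k) * S.res θ (α k * α x) :=
            Finset.sum_congr rfl fun k _ => by rw [hco, ← map_mul, hinv]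
        _ = ∑ k : S.X, Cfsg.blockCoeff S.nil.B k * S.res θ (k * α x) :=
            α.toEquiv.sum_comp fun k => Cfsg.blockCoeff S.nil.B k * S.res θ (k * α x)
        _ = 0 := by
            rw [← Blocks.blockPart_eq_sum _ hθX]
            exact hloc _ (by rw [MulEquiv.orderOf_eq]; exact S.sect_singular hsect)
    rw [Cfsg.blockPart, Blocks.finsum_irr_mem,
      show Fintype.ofFinite S.X = S.fintypeX from Subsingleton.elim _ _,
      ← Finset.sum_filter] at h2
    refine Eq.trans (Finset.sum_congr ?_ fun _ _ => rfl) h2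
    ext η
    simp only [Finset.mem_filter, Finset.mem_univ, true_and]
    constructor
    · rintro ⟨-, hd'⟩
      exact hd' ▸ Blocks.mem_blockOf_self η
    · intro hη
      exact ⟨hA η₀ hη₀ hη, (Blocks.eq_blockOf_of_mem hblk hη).symm⟩
  have h2 : Cfsg.blockPart Aᶜ (S.res θ) x = 0 := by
    rw [Blocks.blockPart_eq_sum _ hθX]
    show ∑ k : S.X, Cfsg.blockCoeff Aᶜ k * ∑ χ ∈ B.toFinset, v χ * (χ : G → ℂ) ((k * x : S.X) : G) = 0
    simp only [Finset.mul_sum]
    rw [Finset.sum_comm]
    refine Finset.sum_eq_zero fun χ hχ => ?_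
    have h3 := S.sum_coeff_eq_zero (Blocks.isBlockUnion_compl hA)
      (isBlockUnion_of_isPBlock S.block) (fun ξ hξ => not_not.1 hξ) (Set.mem_toFinset.1 hχ) hsect
    rw [Blocks.blockPart_eq_sum _ (S.isClassFunction_res (Characters.isClassFunction_of_isIrr χ.2))]
      at h3
    refine Eq.trans ?_ (mul_eq_zero_of_right (v χ) h3)
    rw [Finset.mul_sum]
    exact Finset.sum_congr rfl fun k _ => by simp only [res]; ring
  have h3 := Blocks.blockPart_add_compl A hθX x
  rw [h1, h2, add_zero] at h3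
  exact h3.symm

/-- Every member of the block has a nonzero row. -/
theorem exists_cv_ne_zero {χ : IrrCharacter G} (hχ : χ ∈ B) : ∃ j, S.cv χ j ≠ 0 := by
  classical
  by_contra h
  push Not at h
  have hvan : ∀ g : G, orderOf g = p → (χ : G → ℂ) g = 0 := by
    intro g hg
    have := S.sum_eq_zero_singular (fun φ => if φ = χ then 1 else 0) (fun j => by
      rw [Finset.sum_eq_single χ (fun φ _ hne => by rw [if_neg hne, zero_mul]) (fun hn =>
        absurd (Set.mem_toFinset.2 hχ) hn), if_pos rfl, one_mul, h j]) (g := g) (by rw [hg])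
    rwa [Finset.sum_eq_single χ (fun φ _ hne => by rw [if_neg hne, zero_mul]) (fun hn =>
      absurd (Set.mem_toFinset.2 hχ) hn), if_pos rfl, one_mul] at this
  have h1 := Blocks.defect_zero_of_vanishing S.mod χ hvan
  obtain ⟨ψ, hψ, he⟩ := Blocks.exists_degree_eq S.mod S.block S.defect
  have hd : ¬ p ∣ Nat.card G / Cfsg.charDegree (χ : G → ℂ) := by
    intro hdvd
    have h2 := Nat.mul_dvd_mul_left (Cfsg.charDegree (χ : G → ℂ)) hdvd
    rw [Nat.mul_div_cancel' (Blocks.charDegree_dvd_card χ)] at h2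
    have h3 := (Nat.factorization_le_iff_dvd
      (Nat.mul_ne_zero (Blocks.charDegree_ne_zero χ) hp.out.ne_zero) Nat.card_pos.ne').2 h2 p
    rw [Nat.factorization_mul (Blocks.charDegree_ne_zero χ) hp.out.ne_zero, Finsupp.add_apply,
      hp.out.factorization_self, h1] at h3
    omega
  have hBχ : B = {χ} := (Blocks.eq_blockOf_of_mem S.block hχ).trans
    ((Blocks.defect_zero_iff S.mod χ).1 hd)
  rw [hBχ, Set.mem_singleton_iff] at hψ
  subst hψ
  rw [S.card_D, hp.out.factorization_pow, Finsupp.single_eq_same] at he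
  have := S.a_pos
  omega

end Setup

end CfsgLib.CyclicDefect
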