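import Cfsg.Agent.BlockPairs.Model
import Mathlib.Data.ZMod.Basic
import Mathlib.Algebra.Ring.GeomSum
import Mathlib.Algebra.CharP.Lemmas
import Mathlib.Algebra.CharP.Algebra
import Mathlib.Algebra.Polynomial.Eval.Coeff
import Mathlib.RingTheory.RootsOfUnity.PrimitiveRoots

/-!
# An eigenvector in the group algebra of a cyclic p-group

For `n = p ^ a` and `r` with `r ^ e = 1` modulo `n` the map `X ↦ X ^ r` of the group algebra of
`ZMod n` has an eigenvector generating the augmentation ideal.
-/

set_option autoImplicit false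
set_option linter.unusedSectionVars false
set_option linter.style.haveILetI false

namespace CfsgLib.CyclicDefect

open CfsgLib.BlockPairs MonoidAlgebra

variable {k : Type*} [Field k] {n : ℕ}

/-- The group algebra of `ZMod n`. -/
abbrev Cyc (k : Type*) [Field k] (n : ℕ) := GA k (Multiplicative (ZMod n))

/-- The endomorphism `X ↦ X ^ c`. -/
noncomputable def twist (c : ZMod n) : Cyc k n →+* Cyc k n :=
  mapDomainRingHom k (AddMonoidHom.toMultiplicative (AddMonoidHom.mulLeft c))

theorem twist_single (c : ZMod n) (l : ZMod n) (x : k) :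
    twist c (single (Multiplicative.ofAdd l) x) = single (Multiplicative.ofAdd (c * l)) x := by
  simp [twist]

theorem twist_smul (c : ZMod n) (x : k) (z : Cyc k n) : twist c (x • z) = x • twist c z := by
  induction z using MonoidAlgebra.induction_linear with
  | zero => simp
  | add a b ha hb => simp [smul_add, ha, hb]
  | single g r =>
    rw [MonoidAlgebra.smul_single, show g = Multiplicative.ofAdd g.toAdd from rfl, twist_single,
      twist_single, MonoidAlgebra.smul_single]

theorem twist_twist (c d : ZMod n) (z : Cyc k n) : twist c (twist d z) = twist (c * d) z := by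
  induction z using MonoidAlgebra.induction_linear with
  | zero => simp
  | add a b ha hb => simp [ha, hb]
  | single g r =>
    rw [show g = Multiplicative.ofAdd g.toAdd from rfl, twist_single, twist_single, twist_single,
      mul_assoc]

theorem twist_one (z : Cyc k n) : twist (1 : ZMod n) z = z := by
  induction z using MonoidAlgebra.induction_linear with
  | zero => simp
  | add a b ha hb => simp [ha, hb]
  | single g r => rw [show g = Multiplicative.ofAdd g.toAdd from rfl, twist_single, one_mul]

/-- The augmentation. -/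
noncomputable def augm : Cyc k n →ₐ[k] k := MonoidAlgebra.lift k k (Multiplicative (ZMod n)) 1

theorem augm_single (g : Multiplicative (ZMod n)) (x : k) : augm (single g x) = x := by
  simp [augm, MonoidAlgebra.lift_single]

variable {p a : ℕ} [hp : Fact p.Prime] [CharP k p] (hn : n = p ^ a)

include hn

theorem frob_eq (w : Cyc k n) : w ^ n = algebraMap k _ (augm w ^ n) := by
  haveI : CharP (Cyc k n) p :=
    charP_of_injective_algebraMap (algebraMap k (Cyc k n)).injective p
  induction w using MonoidAlgebra.induction_linear with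
  | zero =>
    have : n ≠ 0 := by rw [hn]; exact pow_ne_zero _ hp.out.ne_zero
    simp [zero_pow this]
  | add x y hx hy =>
    subst hn
    rw [map_add, add_pow_char_pow, hx, hy, ← map_add, add_pow_char_pow]
  | single g x =>
    have h1 : g ^ n = 1 := by
      refine Multiplicative.toAdd.injective ?_
      rw [toAdd_pow, toAdd_one, nsmul_eq_mul, ZMod.natCast_self, zero_mul]
    rw [augm_single, MonoidAlgebra.single_pow, h1, Algebra.algebraMap_eq_smul_one,
      MonoidAlgebra.one_def, MonoidAlgebra.smul_single, smul_eq_mul, mul_one]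

/-- The eigenvector. -/
theorem exists_eigen {e : ℕ} (hn2 : 2 ≤ n) (he : (e : k) ≠ 0) {r : ℕ}
    (hre : (r : ZMod n) ^ e = 1) (hζ : (r : k) ≠ 0) :
    ∃ t : Cyc k n, t ^ n = 0 ∧ t ^ (n - 1) ≠ 0 ∧ twist (r : ZMod n) t = (r : k) • t := by
  classical
  haveI : NeZero n := ⟨by omega⟩
  set X : Cyc k n := single (Multiplicative.ofAdd 1) 1 with hX
  have hXpow : ∀ m : ℕ, X ^ m = single (Multiplicative.ofAdd (m : ZMod n)) 1 := fun m => by
    rw [hX, MonoidAlgebra.single_pow, one_pow, ← ofAdd_nsmul, nsmul_eq_mul, mul_one]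
  have hXn : X ^ n = 1 := by
    rw [hXpow, ZMod.natCast_self, ofAdd_zero, MonoidAlgebra.one_def]
  set t0 : Cyc k n := X - 1
  have ht0 : t0 ^ n = 0 := by
    rw [frob_eq hn, map_sub, map_one, hX, augm_single, sub_self, zero_pow (by omega), map_zero]
  have ht0' : t0 ^ (n - 1) = ∑ m ∈ Finset.range n, X ^ m := by
    have hP : ((Polynomial.X : Polynomial k) - 1) ^ (n - 1) =
        ∑ m ∈ Finset.range n, Polynomial.X ^ m := by
      refine mul_right_cancel₀ (b := (Polynomial.X : Polynomial k) - 1)
        (Polynomial.X_sub_C_ne_zero 1) ?_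
      rw [← pow_succ, Nat.sub_add_cancel (by omega), geom_sum_mul, hn, sub_pow_char_pow,
        one_pow]
    have := congrArg (Polynomial.aeval X) hP
    simpa [map_sum] using this
  have ht0ne : t0 ^ (n - 1) ≠ 0 := by
    rw [ht0']
    intro h
    have h1 := congrArg (fun z : Cyc k n => z.coeff 1) h
    simp only [hXpow, MonoidAlgebra.coeff_sum, Finsupp.finsetSum_apply,
      MonoidAlgebra.coeff_zero, Finsupp.zero_apply] at h1
    rw [Finset.sum_eq_single 0] at h1
    · simp at h1
    · intro m hm hm0
      rw [MonoidAlgebra.coeff_single, Finsupp.single_eq_of_ne]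
      intro hc
      refine hm0 (Nat.eq_zero_of_dvd_of_lt ((ZMod.natCast_eq_zero_iff m n).1 ?_)
        (Finset.mem_range.1 hm))
      exact (congrArg Multiplicative.toAdd hc).symm
    · intro hc
      exact absurd (Finset.mem_range.2 (by omega)) hc
  set g : ℕ → Cyc k n := fun s => ∑ m ∈ Finset.range (r ^ s), X ^ m
  have hΓs : ∀ s : ℕ, twist ((r : ZMod n) ^ s) t0 = t0 * g s := fun s => by
    rw [show t0 * g s = g s * t0 from mul_comm _ _, geom_sum_mul, hXpow, Nat.cast_pow, map_sub,
      map_one, hX, twist_single, mul_one]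
  have haug : ∀ s, augm (g s) = (r : k) ^ s := fun s => by
    simp [g, hXpow, augm_single]
  set t := (e : k)⁻¹ • ∑ s ∈ Finset.range e, ((r : k)⁻¹) ^ s • twist ((r : ZMod n) ^ s) t0
  set w := (e : k)⁻¹ • ∑ s ∈ Finset.range e, ((r : k)⁻¹) ^ s • g s
  have htw : t = t0 * w := by
    simp only [t, w, hΓs, mul_smul_comm, Finset.mul_sum]
  have hw : augm w = 1 := by
    simp only [w, map_smul, map_sum, haug, smul_eq_mul, ← mul_pow, inv_mul_cancel₀ hζ, one_pow,
      Finset.sum_const, Finset.card_range, nsmul_eq_mul, mul_one, inv_mul_cancel₀ he]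
  have hwn : w ^ n = 1 := by rw [frob_eq hn, hw, one_pow, map_one]
  refine ⟨t, by rw [htw, mul_pow, ht0, zero_mul], fun h => ?_, ?_⟩
  · rw [htw, mul_pow] at h
    have h1 := congrArg (· * w) h
    simp only [mul_assoc, ← pow_succ, Nat.sub_add_cancel (by omega : 1 ≤ n), hwn, mul_one,
      zero_mul] at h1
    exact ht0ne h1
  · have hrek : (r : k) ^ e = 1 := by
      have ha : 1 ≤ a := by
        rcases a with _ | a
        · rw [pow_zero] at hn; omega
        · omega
      have h1 : ((r ^ e : ℕ) : ZMod n) = ((1 : ℕ) : ZMod n) := by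
        rw [Nat.cast_pow, hre, Nat.cast_one]
      have h2 : r ^ e ≡ 1 [MOD p] :=
        ((ZMod.natCast_eq_natCast_iff _ _ _).1 h1).of_dvd (hn ▸ dvd_pow_self p (by omega))
      rw [← Nat.cast_pow, ← Nat.cast_one, CharP.natCast_eq_natCast k p]
      exact h2
    simp only [t, twist_smul, map_sum, twist_twist, Finset.smul_sum, smul_smul, ← pow_succ']
    have hterm : ∀ s : ℕ, ((e : k)⁻¹ * ((r : k)⁻¹) ^ s) • twist ((r : ZMod n) ^ (s + 1)) t0 =
        (r : k) • (((e : k)⁻¹ * ((r : k)⁻¹) ^ (s + 1)) • twist ((r : ZMod n) ^ (s + 1)) t0) :=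
      fun s => by
        rw [smul_smul]
        congr 1
        rw [pow_succ]
        field_simp
    rw [Finset.sum_congr rfl fun s _ => hterm s, ← Finset.smul_sum]
    conv_rhs => simp only [← smul_smul (r : k), ← Finset.smul_sum]
    congr 1
    set F : ℕ → Cyc k n := fun s =>
      ((e : k)⁻¹ * ((r : k)⁻¹) ^ s) • twist ((r : ZMod n) ^ s) t0
    show ∑ s ∈ Finset.range e, F (s + 1) = ∑ s ∈ Finset.range e, F s
    have hF : F e = F 0 := by
      simp only [F, hre, pow_zero, inv_pow, hrek, inv_one]
    have h2 := Finset.sum_range_succ F e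
    rw [Finset.sum_range_succ', hF] at h2
    exact add_right_cancel h2

end CfsgLib.CyclicDefect
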