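import Cfsg.Agent.CyclicDefect.Rank
import Cfsg.Agent.CyclicDefect.CycAlg

/-!
# The corner of a nilpotent block with cyclic defect group

`Nil.phi` reads the reduced Fourier coefficients of the members; it maps the corner of a primitive
idempotent isomorphically to the group algebra of the defect group, and carries an automorphism
fixing the base member to `X ↦ X ^ r`.
-/

set_option autoImplicit false
set_option linter.unusedSectionVars false
set_option linter.style.haveILetI false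

namespace CfsgLib.CyclicDefect

open Cfsg CfsgLib.BlockPairs CfsgLib.Star
open CfsgLib.Blocks (localRing red Res idemBar setIdemO isBlockUnion_of_isPBlock
  memLocalRing_blockCoeff)
open scoped ComplexConjugate

universe u

theorem cyc_coeff_sum {k : Type*} [Field k] {n : ℕ} [NeZero n] (F : ZMod n → k) (m : ZMod n) :
    (∑ l, MonoidAlgebra.single (Multiplicative.ofAdd l) (F l) : Cyc k n).coeff
      (Multiplicative.ofAdd m) = F m := by
  classical
  rw [MonoidAlgebra.coeff_sum, Finsupp.finsetSum_apply, Finset.sum_eq_single m]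
  · simp
  · intro l _ hl
    rw [MonoidAlgebra.coeff_single, Finsupp.single_eq_of_ne]
    exact fun h => hl (Multiplicative.ofAdd.injective h).symm
  · simp

theorem cyc_ext {k : Type*} [Field k] {n : ℕ} {x y : Cyc k n}
    (h : ∀ m : ZMod n, x.coeff (Multiplicative.ofAdd m) = y.coeff (Multiplicative.ofAdd m)) :
    x = y := ga_ext fun g => h g.toAdd

namespace Nil

variable {p : ℕ} [hp : Fact p.Prime] {M : Ideal AlgInt} [M.IsPrime] {G : Type u} [Group G]
  [Fintype G] [CharP (Res M) p] [IsAlgClosed (Res M)] (𝒩 : Nil p M G)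

/-- The reduced Fourier coefficient. -/
noncomputable def redPart (l : ZMod 𝒩.n) (g : G) : Res M :=
  red M ⟨𝒩.part l g, 𝒩.part_mem l g⟩

/-- The map to the group algebra of the defect group. -/
noncomputable def phi : GA (Res M) G →ₗ[Res M] Cyc (Res M) 𝒩.n where
  toFun x := ∑ l, MonoidAlgebra.single (Multiplicative.ofAdd l)
    (∑ g, x.coeff g * 𝒩.redPart l g)
  map_add' x y := by
    rw [← Finset.sum_add_distrib]
    refine Finset.sum_congr rfl fun l _ => ?_
    rw [← MonoidAlgebra.single_add, ← Finset.sum_add_distrib]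
    simp [add_mul]
  map_smul' c x := by
    rw [RingHom.id_apply, Finset.smul_sum]
    refine Finset.sum_congr rfl fun l _ => ?_
    rw [MonoidAlgebra.smul_single, smul_eq_mul, Finset.mul_sum]
    simp [mul_assoc]

theorem phi_coeff (x : GA (Res M) G) (l : ZMod 𝒩.n) :
    (𝒩.phi x).coeff (Multiplicative.ofAdd l) = ∑ g, x.coeff g * 𝒩.redPart l g :=
  cyc_coeff_sum _ l

theorem tau_mem {f : G → ℂ} (hf : ∀ g, Cfsg.MemLocalRing M (f g))
    (A : MonoidAlgebra (localRing M) G) : Cfsg.MemLocalRing M (tau M f A) := by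
  rw [tau_apply]
  exact Subring.sum_mem (localRing M) fun x _ =>
    Subring.mul_mem (localRing M) (Subtype.prop _) (hf x)

theorem phi_rho (A : MonoidAlgebra (localRing M) G) (l : ZMod 𝒩.n) :
    (𝒩.phi (rho M G A)).coeff (Multiplicative.ofAdd l) =
      red M ⟨tau M (𝒩.part l) A, tau_mem (𝒩.part_mem l) A⟩ := by
  rw [phi_coeff]
  have h : (⟨tau M (𝒩.part l) A, tau_mem (𝒩.part_mem l) A⟩ : localRing M) =
      ∑ g, A.coeff g * ⟨𝒩.part l g, 𝒩.part_mem l g⟩ :=
    Subtype.ext (by simp [tau_apply, AddSubmonoidClass.coe_finsetSum])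
  rw [h, map_sum]
  exact Finset.sum_congr rfl fun g _ => by rw [map_mul, rho_coeff]; rfl

theorem tau_part (A : MonoidAlgebra (localRing M) G) (l : ZMod 𝒩.n) :
    (𝒩.n : ℂ) * tau M (𝒩.part l) A =
      ∑ j, ZMod.stdAddChar (-(j * l)) * tau M (𝒩.xi j : G → ℂ) A := by
  simp only [tau_apply, Finset.mul_sum]
  rw [Finset.sum_comm]
  refine Finset.sum_congr rfl fun g _ => ?_
  rw [mul_left_comm, 𝒩.part_eq_sum, Finset.mul_sum]
  exact Finset.sum_congr rfl fun j _ => by ring

theorem tau_xi (A : MonoidAlgebra (localRing M) G) (j : ZMod 𝒩.n) :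
    tau M (𝒩.xi j : G → ℂ) A = ∑ l, ZMod.stdAddChar (j * l) * tau M (𝒩.part l) A := by
  simp only [tau_apply, Finset.mul_sum]
  rw [Finset.sum_comm]
  refine Finset.sum_congr rfl fun g _ => ?_
  rw [𝒩.xi_eq_sum, Finset.mul_sum]
  exact Finset.sum_congr rfl fun j _ => by ring

theorem n_ne : (𝒩.n : ℂ) ≠ 0 := Nat.cast_ne_zero.2 (NeZero.ne _)

theorem phi_comm (x y : GA (Res M) G) : 𝒩.phi (x * y) = 𝒩.phi (y * x) := by
  induction x using MonoidAlgebra.induction_linear with
  | zero => simp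
  | add a b ha hb => rw [add_mul, mul_add, map_add, map_add, ha, hb]
  | single g c =>
    induction y using MonoidAlgebra.induction_linear with
    | zero => simp
    | add a b ha hb => rw [add_mul, mul_add, map_add, map_add, ha, hb]
    | single h d =>
      rw [MonoidAlgebra.single_mul_single, MonoidAlgebra.single_mul_single]
      refine cyc_ext fun l => ?_
      rw [phi_coeff, phi_coeff, Finset.sum_eq_single (g * h) (fun b _ hb => by simp [Ne.symm hb])
        (by simp), Finset.sum_eq_single (h * g) (fun b _ hb => by simp [Ne.symm hb]) (by simp)]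
      have hcl : 𝒩.redPart l (g * h) = 𝒩.redPart l (h * g) := by
        unfold redPart
        exact congrArg _ (Subtype.ext (Characters.classFunction_mul_comm (𝒩.part_classFun l) g h))
      simp [hcl, mul_comm c d]

variable {s : Finset (GA (Res M) G)}
  (hs : Star.IsDecomp (⊤ : Subalgebra (Res M) (GA (Res M) G)) (gblk M 𝒩.B) s)
  {i : GA (Res M) G} (hi : i ∈ s)

include hs hi

theorem i_idem : i * i = i := (hs.1 i hi).2.1

theorem exists_lift_corner :
    ∃ E : MonoidAlgebra (localRing M) G, E * E = E ∧ rho M G E = i ∧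
      ∀ j, tau M (𝒩.xi j : G → ℂ) E = 1 := by
  obtain ⟨E, hE, hEz⟩ := exists_lift (M := M) i (hs.1 i hi).2.1
  have h1 := hEz 1 (conjA_one_left i)
  refine ⟨E, hE, h1.2, fun j => ?_⟩
  have h2 := T_eq (Characters.isClassFunction_of_isIrr (𝒩.xi j).2) hE h1
  rw [← MonoidAlgebra.one_def, one_mul, 𝒩.T_xi_one hs hi j] at h2
  exact h2.symm

theorem phi_i : 𝒩.phi i = 1 := by
  classical
  obtain ⟨E, -, hr, htau⟩ := 𝒩.exists_lift_corner hs hi
  refine cyc_ext fun l => ?_
  rw [← hr, phi_rho]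
  have h := 𝒩.tau_part E l
  simp only [htau, mul_one] at h
  rw [Finset.sum_congr rfl fun j _ => by rw [show -(j * l) = j * (-l) by ring],
    AddChar.sum_mulShift _ (ZMod.isPrimitive_stdAddChar _)] at h
  rw [MonoidAlgebra.one_def, MonoidAlgebra.coeff_single, Finsupp.single_apply]
  by_cases hl : l = 0
  · rw [if_pos (neg_eq_zero.2 hl), ZMod.card, mul_eq_left₀ 𝒩.n_ne] at h
    rw [if_pos (by rw [hl, ofAdd_zero]), show (⟨tau M (𝒩.part l) E, tau_mem (𝒩.part_mem l) E⟩ :
      localRing M) = 1 from Subtype.ext h, map_one]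
  · rw [if_neg fun h => hl (neg_eq_zero.1 h), Nat.cast_zero, mul_eq_zero, or_iff_right 𝒩.n_ne]
      at h
    rw [if_neg fun h => hl (Multiplicative.ofAdd.injective (h.symm.trans ofAdd_zero.symm)),
      show (⟨tau M (𝒩.part l) E, tau_mem (𝒩.part_mem l) E⟩ : localRing M) = 0 from Subtype.ext h,
      map_zero]

theorem phi_mul {x y : GA (Res M) G} (hx : i * x * i = x) (hy : i * y * i = y) :
    𝒩.phi (x * y) = 𝒩.phi x * 𝒩.phi y := by
  classical
  obtain ⟨E, hE, hr, htau⟩ := 𝒩.exists_lift_corner hs hi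
  obtain ⟨X0, hX0⟩ := rho_surjective (M := M) (G := G) x
  obtain ⟨Y0, hY0⟩ := rho_surjective (M := M) (G := G) y
  have hrx : rho M G (E * X0 * E) = x := by rw [map_mul, map_mul, hr, hX0, hx]
  have hry : rho M G (E * Y0 * E) = y := by rw [map_mul, map_mul, hr, hY0, hy]
  set A := fun l => tau M (𝒩.part l) (E * X0 * E)
  set B := fun l => tau M (𝒩.part l) (E * Y0 * E)
  have key : ∀ l, tau M (𝒩.part l) (E * X0 * E * (E * Y0 * E)) = ∑ m, A m * B (l - m) := by
    intro l
    refine mul_left_cancel₀ 𝒩.n_ne ?_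
    rw [𝒩.tau_part]
    have hprod : ∀ j, tau M (𝒩.xi j : G → ℂ) (E * X0 * E * (E * Y0 * E)) =
        ∑ a, ∑ b, ZMod.stdAddChar (j * a) * A a * (ZMod.stdAddChar (j * b) * B b) := fun j => by
      obtain ⟨m, hm, hmul⟩ := exists_rank (Characters.isCharacter_of_isIrr (𝒩.xi j).2) hE
      rw [htau] at hm
      rw [hmul (Nat.cast_eq_one.1 hm.symm), tau_xi, tau_xi, Finset.sum_mul_sum]
    simp only [hprod, Finset.mul_sum]
    rw [Finset.sum_comm]
    refine Finset.sum_congr rfl fun a _ => ?_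
    rw [Finset.sum_comm, Finset.sum_eq_single (l - a)]
    · rw [Finset.sum_congr rfl (g := fun _ => A a * B (l - a)), Finset.sum_const,
        Finset.card_univ, ZMod.card, nsmul_eq_mul]
      intro j _
      have : ZMod.stdAddChar (-(j * l)) * (ZMod.stdAddChar (j * a) *
          ZMod.stdAddChar (j * (l - a))) = 1 := by
        rw [← AddChar.map_add_eq_mul, ← AddChar.map_add_eq_mul,
          show -(j * l) + (j * a + j * (l - a)) = 0 by ring, AddChar.map_zero_eq_one]
      linear_combination (A a * B (l - a)) * this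
    · intro b _ hb
      have : ∑ j, ZMod.stdAddChar (-(j * l)) * (ZMod.stdAddChar (j * a) *
          ZMod.stdAddChar (j * b)) = 0 := by
        rw [Finset.sum_congr rfl fun j _ => by
          rw [← AddChar.map_add_eq_mul, ← AddChar.map_add_eq_mul,
            show -(j * l) + (j * a + j * b) = j * (b - (l - a)) by ring],
          AddChar.sum_mulShift _ (ZMod.isPrimitive_stdAddChar _), if_neg (sub_ne_zero.2 hb),
          Nat.cast_zero]
      calc _ = (∑ j, ZMod.stdAddChar (-(j * l)) * (ZMod.stdAddChar (j * a) *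
            ZMod.stdAddChar (j * b))) * (A a * B b) := by
            rw [Finset.sum_mul]
            exact Finset.sum_congr rfl fun j _ => by ring
        _ = 0 := by rw [this, zero_mul]
    · simp
  refine cyc_ext fun l => ?_
  rw [← hrx, ← hry, ← map_mul, phi_rho, coeff_mul_sum,
    show (⟨tau M (𝒩.part l) (E * X0 * E * (E * Y0 * E)),
      tau_mem (𝒩.part_mem l) _⟩ : localRing M) =
      ∑ m, ⟨A m, tau_mem (𝒩.part_mem m) _⟩ * ⟨B (l - m), tau_mem (𝒩.part_mem (l - m)) _⟩ from
      Subtype.ext (by simp [key, AddSubmonoidClass.coe_finsetSum]), map_sum]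
  refine Fintype.sum_equiv Multiplicative.ofAdd _ _ fun m => ?_
  rw [map_mul, phi_rho, show (Multiplicative.ofAdd m)⁻¹ * Multiplicative.ofAdd l =
    Multiplicative.ofAdd (l - m) by rw [← ofAdd_neg, ← ofAdd_add, neg_add_eq_sub], phi_rho]

theorem b_i : gblk M 𝒩.B * i = i := (hs.mul_mem_eq hi).1

/-- The map is injective on the corner. -/
theorem phi_injective {x : GA (Res M) G} (hx : i * x * i = x) (h : 𝒩.phi x = 0) : x = 0 := by
  classical
  have hBu := isBlockUnion_of_isPBlock 𝒩.block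
  set F : MonoidAlgebra (localRing M) G :=
    (setIdemO M 𝒩.B (memLocalRing_blockCoeff hBu) : MonoidAlgebra (localRing M) G) with hF
  obtain ⟨X0, hX0⟩ := rho_surjective (M := M) (G := G) x
  have hbx : gblk M 𝒩.B * x = x := by
    rw [← hx, ← mul_assoc, ← mul_assoc, 𝒩.b_i hs hi]
  have hrx : rho M G (F * X0) = x := by rw [map_mul, hF, gblk_eq hBu, hX0, hbx]
  obtain ⟨D, hDd⟩ := Blocks.exists_isDefectGroup (p := p) 𝒩.block
  have hPd : Cfsg.IsDefectGroup p M 𝒩.B 𝒩.P := (isDefectGroup_gblk_iff 𝒩.block _).2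
    (IsMaxPair.isDefectGrp (isBlock_gblk 𝒩.block) 𝒩.max).1
  have hh := Blocks.blockHeight_eq 𝒩.mod 𝒩.block hPd 𝒩.mem
  rw [𝒩.height, zero_add] at hh
  have hu : Cfsg.MemLocalRing M
      (((Cfsg.charDegree (𝒩.χ : G → ℂ) * 𝒩.n : ℕ) : ℂ) / (Nat.card G : ℂ)) := by
    refine Blocks.memLocalRing_div_of_eq 𝒩.mod Nat.card_pos.ne' ?_
    rw [Nat.factorization_mul (Blocks.charDegree_ne_zero 𝒩.χ) (NeZero.ne _), Finsupp.add_apply, hh]
    rfl
  refine ga_ext fun g => ?_
  rw [MonoidAlgebra.coeff_zero, Finsupp.zero_apply, ← hrx, rho_coeff]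
  have hcoeff : (F * X0).coeff g = ⟨_, hu⟩ *
      ⟨tau M (𝒩.part 0) (X0 * MonoidAlgebra.single g⁻¹ 1), tau_mem (𝒩.part_mem 0) _⟩ := by
    refine Subtype.ext ?_
    rw [MonoidAlgebra.coeff_mul_apply_right, Finsupp.sum_fintype _ _ (fun _ => by simp),
      AddSubmonoidClass.coe_finsetSum, Subring.coe_mul]
    have h1 : tau M (𝒩.part 0) (X0 * MonoidAlgebra.single g⁻¹ 1) =
        ∑ m, (X0.coeff m : ℂ) * 𝒩.part 0 (m * g⁻¹) := by
      rw [tau_apply]
      exact Fintype.sum_equiv (Equiv.mulRight g) _ _ fun m => by simp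
    have h2 : ∀ m, 𝒩.part 0 m = (𝒩.n : ℂ)⁻¹ * ∑ j, (𝒩.xi j : G → ℂ) m := fun m => by
      rw [eq_inv_mul_iff_mul_eq₀ 𝒩.n_ne, 𝒩.part_eq_sum]
      simp
    have h3 : ∀ k, Cfsg.blockCoeff 𝒩.B k = (Nat.card G : ℂ)⁻¹ * (𝒩.χ : G → ℂ) 1 *
        ∑ j, (𝒩.xi j : G → ℂ) k⁻¹ := fun k => by
      rw [CfsgLib.Blocks.blockCoeff_eq_sum, ← Finset.sum_filter, mul_assoc,
        Finset.mul_sum _ _ ((𝒩.χ : G → ℂ) 1)]
      congr 1
      symm
      refine Finset.sum_bij (fun j _ => 𝒩.xi j) (fun j _ => Finset.mem_filter.2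
        ⟨Finset.mem_univ _, 𝒩.xi_mem j⟩) (fun a _ b _ h => 𝒩.xi_injective h) (fun φ hφ => ?_)
        fun j _ => ?_
      · obtain ⟨j, hj⟩ := 𝒩.exists_xi (Finset.mem_filter.1 hφ).2
        exact ⟨j, Finset.mem_univ _, hj⟩
      · rw [𝒩.xi_degree j, Characters.character_inv (Characters.isCharacter_of_isIrr (𝒩.xi j).2)]
    simp only [Subring.coe_mul]
    rw [h1, Finset.mul_sum]
    refine Finset.sum_congr rfl fun m _ => ?_
    rw [show ((F.coeff (g * m⁻¹) : localRing M) : ℂ) = Cfsg.blockCoeff 𝒩.B (g * m⁻¹) by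
      simp [hF, setIdemO], h2, h3, mul_inv_rev, inv_inv]
    rw [Nat.cast_mul, CfsgLib.Blocks.charDegree_cast]
    have hn := 𝒩.n_ne
    field_simp
  rw [hcoeff, map_mul]
  refine mul_eq_zero_of_right _ ?_
  rw [← phi_rho, map_mul, hX0, show rho M G (MonoidAlgebra.single g⁻¹ 1) =
    MonoidAlgebra.single g⁻¹ 1 by simp [rho]]
  have hxi : x * i = x := by rw [← hx, mul_assoc, 𝒩.i_idem hs hi]
  have hix : i * x = x := by rw [← hx, ← mul_assoc, ← mul_assoc, 𝒩.i_idem hs hi]
  have : 𝒩.phi (x * MonoidAlgebra.single g⁻¹ 1) =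
      𝒩.phi x * 𝒩.phi (i * MonoidAlgebra.single g⁻¹ 1 * i) := by
    rw [← 𝒩.phi_mul hs hi hx (by
      simp only [← mul_assoc, 𝒩.i_idem hs hi]
      rw [mul_assoc _ i i, 𝒩.i_idem hs hi])]
    rw [← mul_assoc, ← mul_assoc, hxi, phi_comm _ _ i, ← mul_assoc, hix]
  rw [this, h, zero_mul, MonoidAlgebra.coeff_zero, Finsupp.zero_apply]

/-- The primitive idempotents of the block give a frame. -/
theorem exists_frame : ∃ (r : ℕ) (x y : Fin r → GA (Res M) G),
    ∑ l, x l * i * y l = gblk M 𝒩.B ∧ ∀ l, x l * i = x l ∧ i * y l = y l := by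
  classical
  have h : ∀ a : s, ∃ x y, x * i = x ∧ i * y = y ∧ x * y = (a : GA (Res M) G) := fun a => by
    obtain ⟨x, y, hx, hy, hxy, -⟩ :=
      (𝒩.eqv hs a a.2 i hi).exists_corner (hs.1 a a.2).2.1 (hs.1 i hi).2.1
    exact ⟨x, y, hx.2.2, hy.2.1, hxy⟩
  choose x y hx hy hxy using h
  refine ⟨s.card, fun l => x (s.equivFin.symm l), fun l => y (s.equivFin.symm l), ?_,
    fun l => ⟨hx _, hy _⟩⟩
  rw [← hs.2.2, ← Finset.sum_coe_sort s]
  exact Fintype.sum_equiv s.equivFin.symm _ _ fun l => by rw [hx, hxy]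

/-- The map is onto on the corner. -/
theorem phi_surjective (t : Cyc (Res M) 𝒩.n) : ∃ x, i * x * i = x ∧ 𝒩.phi x = t := by
  classical
  haveI : Module.Finite (Res M) (GA (Res M) G) :=
    Module.Finite.of_basis (MonoidAlgebra.basis G (Res M))
  set R : Submodule (Res M) (GA (Res M) G) :=
    LinearMap.range (LinearMap.mulLeft (Res M) i ∘ₗ LinearMap.mulRight (Res M) i) with hR
  have hmem : ∀ {x}, x ∈ R → i * x * i = x := fun {x} ⟨z, hz⟩ => by
    rw [← hz]
    show i * (i * (z * i)) * i = i * (z * i)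
    rw [← mul_assoc i i, 𝒩.i_idem hs hi, mul_assoc, mul_assoc z, 𝒩.i_idem hs hi]
  have hle : (LinearMap.range (LinearMap.mulLeft (Res M) (gblk M 𝒩.B))).map
      (BlocksLocal.classTrace (Res M) G) ≤ R.map (BlocksLocal.classTrace (Res M) G) := by
    obtain ⟨r, x, y, hframe, hxy⟩ := 𝒩.exists_frame hs hi
    rintro _ ⟨_, ⟨z, rfl⟩, rfl⟩
    rw [LinearMap.mulLeft_apply, ← hframe, Finset.sum_mul, map_sum]
    refine Submodule.sum_mem _ fun l _ => ⟨_, ⟨y l * z * x l, rfl⟩, ?_⟩
    show BlocksLocal.classTrace (Res M) G (i * (y l * z * x l * i)) = _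
    rw [show x l * i * y l * z = x l * (i * (y l * z)) by simp only [mul_assoc],
      BlocksLocal.classTrace_comm (x l)]
    congr 1
    rw [mul_assoc (y l * z), (hxy l).1, mul_assoc i (y l * z)]
  have hcard := BlocksLocal.finrank_map_classTrace (M := M) (isBlockUnion_of_isPBlock 𝒩.block)
  rw [← gblk_eq_idemBar 𝒩.block, 𝒩.card_B] at hcard
  have h1 : 𝒩.n ≤ Module.finrank (Res M) R := hcard.symm.le.trans
    ((Submodule.finrank_mono hle).trans (Submodule.finrank_map_le _ _))
  set f : R →ₗ[Res M] Cyc (Res M) 𝒩.n := 𝒩.phi.comp R.subtype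
  have hinj : Function.Injective f := by
    refine (injective_iff_map_eq_zero f).2 fun x hx => Subtype.ext ?_
    exact 𝒩.phi_injective hs hi (hmem x.2) hx
  have h2 : Module.finrank (Res M) (Cyc (Res M) 𝒩.n) = 𝒩.n := by
    rw [Module.finrank_eq_card_basis (MonoidAlgebra.basis _ (Res M)), Fintype.card_multiplicative,
      ZMod.card]
  haveI : Module.Finite (Res M) (Cyc (Res M) 𝒩.n) :=
    Module.Finite.of_basis (MonoidAlgebra.basis _ (Res M))
  obtain ⟨x, hx⟩ := (LinearMap.injective_iff_surjective_of_finrank_eq_finrank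
    (le_antisymm (LinearMap.finrank_le_finrank_of_injective hinj) (h2.le.trans h1))).1 hinj t
  exact ⟨x, hmem x.2, hx⟩

omit hs hi in
/-- The automorphism becomes the twist. -/
theorem phi_aut (α : G ≃* G) {r : ℕ} (hr : IsUnit (r : ZMod 𝒩.n))
    (hα : ∀ j, (𝒩.xi j : G → ℂ) ∘ α = (𝒩.xi (r * j) : G → ℂ)) (x : GA (Res M) G) :
    𝒩.phi (emb α.toMonoidHom x) = twist (r : ZMod 𝒩.n) (𝒩.phi x) := by
  classical
  have hpart : ∀ l g, 𝒩.part (r * l) (α g) = 𝒩.part l g := fun l g => by
    refine mul_left_cancel₀ 𝒩.n_ne ?_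
    rw [part_eq_sum, part_eq_sum]
    have hb : Function.Bijective fun j : ZMod 𝒩.n => (r : ZMod 𝒩.n) * j := by
      obtain ⟨w, hw⟩ := hr
      rw [← hw]
      exact (Units.mulLeft_bijective w)
    refine Fintype.sum_bijective _ hb _ _ fun j => ?_
    rw [show (𝒩.xi j : G → ℂ) (α g) = (𝒩.xi (r * j) : G → ℂ) g from congrFun (hα j) g,
      show -(j * ((r : ZMod 𝒩.n) * l)) = -((r : ZMod 𝒩.n) * j * l) by ring]
  induction x using MonoidAlgebra.induction_linear with
  | zero => simp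
  | add a b ha hb => simp only [map_add, ha, hb]
  | single g c =>
    rw [emb_aut_single]
    show ∑ l, _ = twist _ (∑ l, _)
    rw [map_sum]
    simp only [twist_single]
    obtain ⟨w, hw⟩ := hr
    refine (Fintype.sum_bijective (fun l : ZMod 𝒩.n => (r : ZMod 𝒩.n) * l)
      (hw ▸ Units.mulLeft_bijective w) _ _ fun l => ?_).symm
    congr 1
    rw [Finset.sum_eq_single g (fun b _ hb => by simp [Ne.symm hb]) (by simp),
      Finset.sum_eq_single (α g) (fun b _ hb => by simp [Ne.symm hb]) (by simp)]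
    simp [redPart, hpart]

end Nil

end CfsgLib.CyclicDefect
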