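import Cfsg.Agent.CyclicDefect.Corner

/-!
# An eigenvector in the corner of a nilpotent block
-/

set_option autoImplicit false
set_option linter.unusedSectionVars false
set_option linter.style.haveILetI false

namespace CfsgLib.CyclicDefect

open Cfsg CfsgLib.BlockPairs CfsgLib.Star
open CfsgLib.Blocks (localRing red Res)

universe u

/-- Powers of a nilpotent element of exact index are independent. -/
theorem linearIndependent_nil_pow {k A : Type*} [Field k] [Ring A] [Algebra k A] {t : A} {n : ℕ}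
    (h0 : t ^ n = 0) (h1 : t ^ (n - 1) ≠ 0) :
    LinearIndependent k fun l : Fin n => t ^ (l : ℕ) := by
  classical
  rw [Fintype.linearIndependent_iff]
  intro c hc
  suffices h : ∀ l : ℕ, ∀ hl : l < n, c ⟨l, hl⟩ = 0 from fun l => h l l.2
  intro l
  induction l using Nat.strong_induction_on with
  | _ l ih =>
    intro hl
    have := congrArg (t ^ (n - 1 - l) * ·) hc
    simp only [Finset.mul_sum, mul_smul_comm, ← pow_add, mul_zero] at this
    rw [Finset.sum_eq_single ⟨l, hl⟩ (fun j _ hne => ?_) (by simp),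
      show n - 1 - l + l = n - 1 by omega] at this
    · exact (smul_eq_zero.1 this).resolve_right h1
    · rcases lt_trichotomy (j : ℕ) l with hlt | heq | hgt
      · rw [show c j = 0 from ih j hlt j.2, zero_smul]
      · exact absurd (Fin.ext heq) hne
      · rw [show n - 1 - l + (j : ℕ) = n + ((j : ℕ) - l - 1) by omega, pow_add, h0, zero_mul,
          smul_zero]

namespace Nil

variable {p : ℕ} [hp : Fact p.Prime] {M : Ideal AlgInt} [M.IsPrime] {G : Type u} [Group G]
  [Fintype G] [CharP (Res M) p] [IsAlgClosed (Res M)] (𝒩 : Nil p M G)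

/-- The corner, its generator and an intertwiner for an automorphism fixing the base member. -/
theorem exists_corner (α : G ≃* G) {r e : ℕ} (hn2 : 2 ≤ 𝒩.n) (he : (e : Res M) ≠ 0)
    (hre : (r : ZMod 𝒩.n) ^ e = 1) (hζ : (r : Res M) ≠ 0)
    (hα : ∀ j, (𝒩.xi j : G → ℂ) ∘ α = (𝒩.xi (r * j) : G → ℂ))
    (hb : emb α.toMonoidHom (gblk M 𝒩.B) = gblk M 𝒩.B) :
    ∃ (i : GA (Res M) G) (m : ℕ) (x y : Fin m → GA (Res M) G) (T y' x' : GA (Res M) G),
      i * i = i ∧ gblk M 𝒩.B * i = i ∧ ∑ l, x l * i * y l = gblk M 𝒩.B ∧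
      i * T = T ∧ T * i = T ∧ T ^ 𝒩.n * i = 0 ∧ T ^ (𝒩.n - 1) * i ≠ 0 ∧
      (∀ z, i * z * i ∈ Submodule.span (Res M)
        (Set.range fun l : Fin 𝒩.n => T ^ (l : ℕ) * i)) ∧
      (i * y' = y' ∧ y' * emb α.toMonoidHom i = y') ∧
      (emb α.toMonoidHom i * x' = x' ∧ x' * i = x') ∧
      x' * y' = emb α.toMonoidHom i ∧ y' * x' = i ∧
      y' * emb α.toMonoidHom T * x' = (r : Res M) • T := by
  classical
  haveI : Module.Finite (Res M) (GA (Res M) G) :=
    Module.Finite.of_basis (MonoidAlgebra.basis G (Res M))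
  have he0 : e ≠ 0 := by rintro rfl; exact he Nat.cast_zero
  have hr : IsUnit (r : ZMod 𝒩.n) := IsUnit.of_pow_eq_one hre he0
  set b := gblk M 𝒩.B
  have hbi : b * b = b := (isBlock_gblk 𝒩.block).idem
  obtain ⟨s, hs⟩ := Star.exists_decomp (A := (⊤ : Subalgebra (Res M) (GA (Res M) G))) trivial hbi
  obtain ⟨i, hi⟩ : s.Nonempty := by
    rw [Finset.nonempty_iff_ne_empty]
    rintro rfl
    exact (isBlock_gblk 𝒩.block).ne_zero (hs.2.2.symm.trans Finset.sum_empty)
  have hii := 𝒩.i_idem hs hi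
  obtain ⟨m, x, y, hframe, -⟩ := 𝒩.exists_frame hs hi
  -- the image of `i`
  set σ := emb (k := Res M) α.toMonoidHom
  have hσi : σ i * σ i = σ i := by rw [← map_mul, hii]
  have hbσ : b * σ i = σ i := by rw [← hb, ← map_mul, 𝒩.b_i hs hi]
  obtain ⟨t, ht⟩ := Star.exists_decomp (A := (⊤ : Subalgebra (Res M) (GA (Res M) G))) trivial hσi
  have heq : ∀ a ∈ t, Star.Eqv (⊤ : Subalgebra (Res M) (GA (Res M) G)) a i := by
    intro a ha
    have hba : b * a = a := by rw [← (ht.mul_mem_eq ha).1, ← mul_assoc, hbσ]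
    obtain ⟨a', ha', hea⟩ := Star.exists_eqv_mem hs (ht.1 a ha) hba
    exact hea.trans (𝒩.eqv hs a' ha' i hi) (ht.1 a ha).2.1 hii
  have hχc := Characters.isClassFunction_of_isIrr 𝒩.χ.2
  have hT1 : T M (𝒩.χ : G → ℂ) 1 (σ i) = 1 := by
    have h := T_comp (M := M) α hχc (z := 1) hii (conjA_one_left i)
    rw [show (𝒩.χ : G → ℂ) ∘ α = (𝒩.χ : G → ℂ) by
      rw [← 𝒩.xi_zero, hα, mul_zero], map_one, 𝒩.T_one_eq hs hi] at h
    exact h.symm
  have hcard : t.card = 1 := by
    refine Nat.cast_injective (R := ℂ) ?_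
    rw [Nat.cast_one, ← hT1, ← ht.2.2, T_sum hχc 1 t (fun a => a) (fun a ha => (ht.1 a ha).2.1)
      (fun a ha b hb hab => ht.2.1 a ha b hb hab) (fun a _ => conjA_one_left a),
      Finset.sum_congr rfl (g := fun _ => (1 : ℂ)), Finset.sum_const, nsmul_one]
    intro a ha
    obtain ⟨u, -, w, -, h1, h2⟩ := heq a ha
    rw [T_equiv hχc (ht.1 a ha).2.1 hii h1 h2 (conjA_one_left u) (conjA_one_left w),
      𝒩.T_one_eq hs hi]
  obtain ⟨a, rfl⟩ := Finset.card_eq_one.1 hcard
  have ha : a = σ i := by rw [← ht.2.2, Finset.sum_singleton]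
  obtain ⟨x', y', hx', hy', hxy, hyx⟩ :=
    (heq a (Finset.mem_singleton_self a)).exists_corner (ht.1 a (Finset.mem_singleton_self a)).2.1 hii
  rw [ha] at hx' hy' hxy
  -- the generator
  obtain ⟨j, hj⟩ := IsPGroup.iff_card.1 𝒩.max.1.1.2.1
  obtain ⟨τ, hτ0, hτ1, hτr⟩ := exists_eigen (k := Res M) (p := p) (a := j) (n := 𝒩.n) hj hn2 he hre hζ
  obtain ⟨T, hTc, hTphi⟩ := 𝒩.phi_surjective hs hi τ
  have hiT : i * T = T := by rw [← hTc, ← mul_assoc, ← mul_assoc, hii]
  have hTi : T * i = T := by rw [← hTc, mul_assoc _ i i, hii]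
  have hcomm : Commute i T := by
    show i * T = T * i
    rw [hiT, hTi]
  have hpow : ∀ l, i * (T ^ l * i) * i = T ^ l * i := fun l => by
    rw [← mul_assoc, (hcomm.pow_right l).eq, mul_assoc (T ^ l), hii, mul_assoc, hii]
  have hphi : ∀ l, 𝒩.phi (T ^ l * i) = τ ^ l := by
    intro l
    induction l with
    | zero => rw [pow_zero, one_mul, pow_zero, 𝒩.phi_i hs hi]
    | succ l ih =>
      rw [pow_succ', mul_assoc, 𝒩.phi_mul hs hi hTc (hpow l), ih, hTphi, pow_succ']
  refine ⟨i, m, x, y, T, y', x', hii, 𝒩.b_i hs hi, hframe, hiT, hTi, ?_, ?_, fun z => ?_,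
    hy'.2, hx'.2, hxy, hyx, ?_⟩
  · exact 𝒩.phi_injective hs hi (hpow _) (by rw [hphi, hτ0])
  · exact fun h => hτ1 (by rw [← hphi, h, map_zero])
  · have hz : i * (i * z * i) * i = i * z * i := by
      rw [← mul_assoc, ← mul_assoc, hii, mul_assoc _ i i, hii]
    have hspan : Submodule.span (Res M) (Set.range fun l : Fin 𝒩.n => τ ^ (l : ℕ)) = ⊤ := by
      haveI : Nonempty (Fin 𝒩.n) := ⟨⟨0, by omega⟩⟩
      exact (linearIndependent_nil_pow hτ0 hτ1).span_eq_top_of_card_eq_finrank (by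
        rw [Fintype.card_fin, Module.finrank_eq_card_basis (MonoidAlgebra.basis _ (Res M)),
          Fintype.card_multiplicative, ZMod.card])
    obtain ⟨c, hc⟩ := (Submodule.mem_span_range_iff_exists_fun (Res M)).1
      (hspan.ge (Submodule.mem_top : 𝒩.phi (i * z * i) ∈ ⊤))
    rw [Submodule.mem_span_range_iff_exists_fun]
    refine ⟨c, ?_⟩
    refine (sub_eq_zero.1 (𝒩.phi_injective hs hi ?_ ?_)).symm
    · rw [mul_sub, sub_mul, hz, Finset.mul_sum, Finset.sum_mul]
      exact congrArg _ (Finset.sum_congr rfl fun l _ => by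
        rw [mul_smul_comm, smul_mul_assoc, hpow])
    · rw [map_sub, map_sum, ← hc, sub_eq_zero]
      exact Finset.sum_congr rfl fun l _ => by rw [map_smul, hphi]
  · refine sub_eq_zero.1 (𝒩.phi_injective hs hi ?_ ?_)
    · rw [mul_sub, sub_mul, ← mul_assoc, ← mul_assoc, hy'.2.1, mul_assoc _ x', hx'.2.2,
        mul_smul_comm, smul_mul_assoc, hiT, hTi]
    · rw [map_sub, sub_eq_zero, phi_comm, ← mul_assoc, hxy, phi_comm, ← map_mul, hTi,
        𝒩.phi_aut α hr hα, hTphi, hτr, map_smul, hTphi]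

end Nil

end CfsgLib.CyclicDefect
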