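import Cfsg.Agent.BlockPairs.Model
import Cfsg.Agent.BlocksCyclic.Invariant

/-!
# Supports in cosets and restrictions to a subgroup

`InCos X g z`: the group algebra element `z` lives in the coset `g X`.  `restr N z` is the
truncation of `z` to the subgroup `N`; it commutes with multiplication by elements supported on `N`.
-/

set_option autoImplicit false
set_option linter.unusedSectionVars false
set_option linter.style.haveILetI false

namespace CfsgLib.CyclicDefect

open CfsgLib.BlockPairs CfsgLib.BlocksCyclic

variable {k : Type*} [Field k] {G : Type*} [Group G]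

/-- Support in the coset `g X`. -/
def InCos (X : Subgroup G) (g : G) (z : GA k G) : Prop := ∀ h, z.coeff h ≠ 0 → g⁻¹ * h ∈ X

theorem inCos_one {X : Subgroup G} {z : GA k G} : InCos X 1 z ↔ IsSupp X z := by
  simp [InCos, IsSupp]

theorem inCos_congr {X : Subgroup G} {g g' : G} {z : GA k G} (h : g⁻¹ * g' ∈ X) (hz : InCos X g z) :
    InCos X g' z := fun x hx => by
  have := X.mul_mem (X.inv_mem h) (hz x hx)
  simpa [mul_assoc] using this

theorem inCos_single {X : Subgroup G} (g : G) (r : k) :
    InCos X g (MonoidAlgebra.single g r : GA k G) := fun h hh => by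
  have : h = g := by
    by_contra hne
    simp [Ne.symm hne] at hh
  subst this
  simp

theorem InCos.mul {X : Subgroup G} {g h : G} {y z : GA k G} (hy : InCos X g y) (hz : InCos X h z)
    (hh : ∀ x ∈ X, h⁻¹ * x * h ∈ X) : InCos X (g * h) (y * z) := by
  intro q hq
  by_contra hqX
  apply hq
  rw [MonoidAlgebra.coeff_mul_apply_left]
  refine Finset.sum_eq_zero fun a ha => ?_
  show y.coeff a * z.coeff (a⁻¹ * q) = 0
  rw [mul_eq_zero]
  right
  by_contra hz'
  refine hqX ?_
  have h1 := hy a (Finsupp.mem_support_iff.1 ha)
  have h2 := hz (a⁻¹ * q) hz'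
  have := X.mul_mem (hh _ h1) h2
  simpa [mul_assoc] using this

theorem IsSupp.single_mem {X : Subgroup G} {g : G} (hg : g ∈ X) (r : k) :
    IsSupp X (MonoidAlgebra.single g r : GA k G) := inCos_one.1 (inCos_congr (by simpa using hg)
      (inCos_congr (by simpa using X.inv_mem hg) (inCos_single (X := X) g r)))

theorem InCos.smul {X : Subgroup G} {g : G} {z : GA k G} (hz : InCos X g z) (c : k) :
    InCos X g (c • z) := fun h hh => hz h fun h0 => hh (by simp [h0])

/-- The truncation to a subgroup. -/
noncomputable def restr (N : Subgroup G) : GA k G →ₗ[k] GA k G := by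
  classical
  exact (MonoidAlgebra.coeffLinearEquiv k).symm.toLinearMap.comp
    ((Finsupp.lsum k fun g => if g ∈ N then Finsupp.lsingle g else 0).comp
      (MonoidAlgebra.coeffLinearEquiv k).toLinearMap)

theorem restr_single (N : Subgroup G) [DecidablePred (· ∈ N)] (g : G) (r : k) :
    restr N (MonoidAlgebra.single g r : GA k G) =
      if g ∈ N then MonoidAlgebra.single g r else 0 := by
  classical
  refine ga_ext fun x => ?_
  simp only [restr, LinearMap.comp_apply, LinearEquiv.coe_coe,
    MonoidAlgebra.coeffLinearEquiv_apply, MonoidAlgebra.coeff_single, Finsupp.lsum_single]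
  split_ifs <;> simp

theorem restr_eq_self {N : Subgroup G} {z : GA k G} (hz : IsSupp N z) : restr N z = z := by
  classical
  rw [← MonoidAlgebra.sum_coeff_single z, Finsupp.sum, map_sum]
  exact Finset.sum_congr rfl fun g hg => by
    rw [restr_single, if_pos (hz g (Finsupp.mem_support_iff.1 hg))]

theorem isSupp_restr (N : Subgroup G) (z : GA k G) : IsSupp N (restr N z) := by
  classical
  induction z using MonoidAlgebra.induction_linear with
  | zero => intro g hg; simp at hg
  | add x y hx hy =>
    intro g hg
    by_contra hgN
    apply hg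
    rw [map_add, MonoidAlgebra.coeff_add, Finsupp.add_apply, hx.coeff_eq_zero hgN,
      hy.coeff_eq_zero hgN, add_zero]
  | single g r =>
    rw [restr_single]
    split_ifs with h
    · exact IsSupp.single_mem h r
    · intro x hx; simp at hx

theorem restr_mul_right {N : Subgroup G} (z : GA k G) {y : GA k G} (hy : IsSupp N y) :
    restr N (z * y) = restr N z * y := by
  classical
  induction z using MonoidAlgebra.induction_linear with
  | zero => simp
  | add a c ha hc => rw [add_mul, map_add, map_add, add_mul, ha, hc]
  | single g r =>
    rw [← MonoidAlgebra.sum_coeff_single y, Finsupp.sum, Finset.mul_sum, map_sum, restr_single,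
      Finset.mul_sum]
    refine Finset.sum_congr rfl fun h hh => ?_
    have hN := hy h (Finsupp.mem_support_iff.1 hh)
    rw [MonoidAlgebra.single_mul_single, restr_single]
    simp only [N.mul_mem_cancel_right hN]
    split_ifs
    · rw [MonoidAlgebra.single_mul_single]
    · rw [zero_mul]

theorem restr_mul_left {N : Subgroup G} {y : GA k G} (hy : IsSupp N y) (z : GA k G) :
    restr N (y * z) = y * restr N z := by
  classical
  induction z using MonoidAlgebra.induction_linear with
  | zero => simp
  | add a c ha hc => rw [mul_add, map_add, map_add, mul_add, ha, hc]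
  | single g r =>
    rw [← MonoidAlgebra.sum_coeff_single y, Finsupp.sum, Finset.sum_mul, map_sum, restr_single,
      Finset.sum_mul]
    refine Finset.sum_congr rfl fun h hh => ?_
    have hN := hy h (Finsupp.mem_support_iff.1 hh)
    rw [MonoidAlgebra.single_mul_single, restr_single]
    simp only [N.mul_mem_cancel_left hN]
    split_ifs
    · rw [MonoidAlgebra.single_mul_single]
    · rw [mul_zero]

theorem coeff_restr_mem {N : Subgroup G} (z : GA k G) {g : G} (hg : g ∈ N) :
    (restr N z).coeff g = z.coeff g := by
  classical
  induction z using MonoidAlgebra.induction_linear with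
  | zero => simp
  | add a c ha hc => simp [map_add, ha, hc]
  | single h r =>
    rw [restr_single]
    split_ifs with hh
    · rfl
    · have : h ≠ g := fun e => hh (e ▸ hg)
      simp [this.symm]

theorem conjA_restr {N : Subgroup G} {u : G} (hu : u ∈ N) (z : GA k G) :
    conjA k u (restr N z) = restr N (conjA k u z) := by
  rw [conjA, conjA, restr_mul_right _ (IsSupp.single_mem (N.inv_mem hu) 1),
    restr_mul_left (IsSupp.single_mem hu 1)]

theorem conjA_eq_mul (g : G) (z : GA k G) :
    MonoidAlgebra.single g (1 : k) * z = conjA k g z * MonoidAlgebra.single g 1 := by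
  rw [conjA, mul_assoc _ (MonoidAlgebra.single g⁻¹ (1 : k)), MonoidAlgebra.single_mul_single,
    inv_mul_cancel, mul_one, ← MonoidAlgebra.one_def, mul_one]

end CfsgLib.CyclicDefect
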