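import Cfsg.Agent.CyclicDefect.Setup
import Cfsg.Agent.InertialQuotient.Setup

/-!
# The stabilizer as the statements give it
-/

set_option autoImplicit false
set_option linter.unusedSectionVars false
set_option linter.style.haveILetI false

namespace CfsgLib.CyclicDefect

open Cfsg CfsgLib.BlockPairs

universe u

variable {G : Type u} [Group G] [Finite G] {D : Subgroup G}

/-- The two forms of the stabilizer condition. -/
theorem stabilizesBlock_iff_forall {b : Set (IrrCharacter (Subgroup.centralizer (D : Set G)))}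
    {g : G} (hg : g ∈ Subgroup.normalizer (D : Set G)) :
    (∀ θ ∈ b, ∀ θ' : IrrCharacter (Subgroup.centralizer (D : Set G)),
      (∀ h h' : Subgroup.centralizer (D : Set G), (h' : G) = g * h * g⁻¹ →
        (θ' : Subgroup.centralizer (D : Set G) → ℂ) h' =
          (θ : Subgroup.centralizer (D : Set G) → ℂ) h) → θ' ∈ b) ↔
      Cfsg.StabilizesBlock (Subgroup.centralizer (D : Set G)) b g := by
  have hC := normalizer_le_normalizer_centralizer D hg
  set α := cjAut hC with hα
  constructor
  · intro h
    refine ⟨hC, fun θ hθ => ?_⟩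
    have hrel : ∀ k k' : Subgroup.centralizer (D : Set G), (k' : G) = g * (k : G) * g⁻¹ →
        (irrComp α.symm θ : Subgroup.centralizer (D : Set G) → ℂ) k' =
          (θ : Subgroup.centralizer (D : Set G) → ℂ) k := by
      intro k k' hk
      rw [irrComp_apply, show k' = α k from Subtype.ext (hk.trans (cjAut_coe hC k).symm),
        α.symm_apply_apply]
    exact ⟨irrComp α.symm θ, h θ hθ _ hrel, hrel⟩
  · rintro ⟨-, h⟩ θ hθ θ' hθ'
    obtain ⟨χ, hχ, hrel⟩ := h θ hθ
    rwa [show θ' = χ from Subtype.ext (funext fun k' => by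
      obtain ⟨k, rfl⟩ := α.surjective k'
      rw [hθ' k (α k) (cjAut_coe hC k), hrel k (α k) (cjAut_coe hC k)])]

variable {M : Ideal AlgInt} [M.IsPrime]

/-- The stabilizer in the model. -/
theorem stab_eq_forall {b : Set (IrrCharacter (Subgroup.centralizer (D : Set G)))}
    (hb : Cfsg.IsPBlock M b) [IsAlgClosed (CfsgLib.Blocks.Res M)]
    {T : Subgroup G}
    (hT : ∀ g : G, g ∈ T ↔ (g ∈ Subgroup.normalizer (D : Set G) ∧ ∀ θ ∈ b,
      ∀ θ' : IrrCharacter (Subgroup.centralizer (D : Set G)),
      (∀ h h' : Subgroup.centralizer (D : Set G), (h' : G) = g * h * g⁻¹ →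
        (θ' : Subgroup.centralizer (D : Set G) → ℂ) h' =
          (θ : Subgroup.centralizer (D : Set G) → ℂ) h) → θ' ∈ b)) :
    T = stab ⊤ D (sblk M (Subgroup.centralizer (D : Set G)) b) :=
  InertialQuotient.stab_eq hb fun g =>
    (hT g).trans (and_congr_right fun hg => stabilizesBlock_iff_forall hg)

end CfsgLib.CyclicDefect
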