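import Cfsg.Agent.CyclicDefect.Transport
import Cfsg.Agent.Star.Nilpotent
import Cfsg.Agent.InertialQuotient.NilpotentRank
import Mathlib.Analysis.SpecialFunctions.Complex.CircleAddChar

/-!
# The members of a nilpotent block with cyclic defect group

`Nil` records a nilpotent block with maximal pair on a cyclic group generated by `v` and a member
`χ` of height zero.  `Nil.xi j` is the star of `χ` by the linear character `v ↦ ψ j`; these are all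
members, and `Nil.part l` are their discrete Fourier coefficients.
-/

set_option autoImplicit false
set_option linter.unusedSectionVars false
set_option linter.style.haveILetI false

namespace CfsgLib.CyclicDefect

open Cfsg CfsgLib.BlockPairs CfsgLib.Star
open CfsgLib.Blocks (localRing red Res)
open scoped ComplexConjugate

universe u

/-- A nilpotent block with cyclic defect group, with a member of height zero. -/
structure Nil (p : ℕ) [Fact p.Prime] (M : Ideal AlgInt) [M.IsPrime] (G : Type u) [Group G]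
    [Fintype G] where
  mod : Cfsg.IsPModular p M
  B : Set (IrrCharacter G)
  block : Cfsg.IsPBlock M B
  P : Subgroup G
  eP : GA (Res M) G
  max : IsMaxPair p (⊤ : Subgroup G) (gblk M B) P eP
  nilp : Nilp p ⊤ (gblk M B)
  v : G
  gen : Subgroup.zpowers v = P
  χ : IrrCharacter G
  mem : χ ∈ B
  height : Cfsg.blockHeight p B (χ : G → ℂ) = 0

namespace Nil

variable {p : ℕ} [hp : Fact p.Prime] {M : Ideal AlgInt} [M.IsPrime] {G : Type u} [Group G]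
  [Fintype G] [CharP (Res M) p] [IsAlgClosed (Res M)] (𝒩 : Nil p M G)

/-- The order of the defect group. -/
noncomputable def n : ℕ := Nat.card 𝒩.P

instance : NeZero 𝒩.n := ⟨Nat.card_pos.ne'⟩

theorem orderOf_v : orderOf 𝒩.v = 𝒩.n := by rw [n, ← 𝒩.gen, Nat.card_zpowers]

theorem v_mem : 𝒩.v ∈ 𝒩.P := 𝒩.gen ▸ Subgroup.mem_zpowers _

theorem comm : 𝒩.P ≤ Subgroup.centralizer (𝒩.P : Set G) :=
  InertialQuotient.le_centralizer_of_cyclic (by
    rw [← 𝒩.gen]; infer_instance)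

theorem exists_log (w : 𝒩.P) : ∃ l : ℤ, 𝒩.v ^ l = w := Subgroup.mem_zpowers_iff.1 (by
  rw [𝒩.gen]; exact w.2)

theorem zpow_v_inj {a b : ℤ} : 𝒩.v ^ a = 𝒩.v ^ b ↔ (a : ZMod 𝒩.n) = b := by
  rw [zpow_eq_zpow_iff_modEq, orderOf_v, ZMod.intCast_eq_intCast_iff]

/-- The exponent of an element of the defect group. -/
noncomputable def log : 𝒩.P →* Multiplicative (ZMod 𝒩.n) :=
  MonoidHom.mk' (fun w => Multiplicative.ofAdd (((𝒩.exists_log w).choose : ℤ) : ZMod 𝒩.n))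
    fun a b => by
      rw [← ofAdd_add, ← Int.cast_add]
      congr 1
      rw [← zpow_v_inj, zpow_add, (𝒩.exists_log a).choose_spec, (𝒩.exists_log b).choose_spec,
        (𝒩.exists_log (a * b)).choose_spec, Subgroup.coe_mul]

theorem log_zpow (w : 𝒩.P) (l : ℤ) (h : 𝒩.v ^ l = w) : (𝒩.log w).toAdd = l := by
  show (((𝒩.exists_log w).choose : ℤ) : ZMod 𝒩.n) = l
  rw [← zpow_v_inj, (𝒩.exists_log w).choose_spec, h]

theorem log_v : (𝒩.log ⟨𝒩.v, 𝒩.v_mem⟩).toAdd = 1 := by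
  rw [log_zpow _ _ 1 (zpow_one _), Int.cast_one]

theorem log_injective : Function.Injective fun w : 𝒩.P => (𝒩.log w).toAdd := fun a b h => by
  obtain ⟨x, hx⟩ := 𝒩.exists_log a
  obtain ⟨y, hy⟩ := 𝒩.exists_log b
  simp only [log_zpow _ _ x hx, log_zpow _ _ y hy, ← zpow_v_inj, hx, hy] at h
  exact Subtype.ext h

theorem log_bijective : Function.Bijective fun w : 𝒩.P => (𝒩.log w).toAdd :=
  (Nat.bijective_iff_injective_and_card _).2 ⟨𝒩.log_injective, by simp [n]⟩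

/-- The linear character `v ↦ ψ j`. -/
noncomputable def lin (j : ZMod 𝒩.n) : 𝒩.P →* ℂˣ :=
  (((ZMod.stdAddChar (N := 𝒩.n)).mulShift j).toMonoidHom.comp 𝒩.log).toHomUnits

theorem lin_apply (j : ZMod 𝒩.n) (w : 𝒩.P) :
    (𝒩.lin j w : ℂ) = ZMod.stdAddChar (j * (𝒩.log w).toAdd) := rfl

theorem invariant {ζ : G → ℂ} : IsInvariant p 𝒩.P 𝒩.eP ζ := fun w g hm => by
  obtain ⟨y, hy, hyw⟩ := exists_conj_of_mor 𝒩.block 𝒩.max 𝒩.nilp hm
  rw [hyw, ← Subgroup.mem_centralizer_iff.1 (𝒩.comm hy) w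
    (hm.source_le (Subgroup.mem_zpowers w)), mul_inv_cancel_right]

/-- The members. -/
noncomputable def xiFun (j : ZMod 𝒩.n) : G → ℂ :=
  star p 𝒩.P 𝒩.eP (lext (𝒩.lin j)) (𝒩.χ : G → ℂ)

theorem exists_irr (j : ZMod 𝒩.n) :
    ∃ h : Cfsg.IsIrrCharacter G (𝒩.xiFun j), (⟨_, h⟩ : IrrCharacter G) ∈ 𝒩.B :=
  star_mem 𝒩.mod 𝒩.block 𝒩.max 𝒩.invariant (isGen_lext _) (fun _ hw => lext_norm _ hw)
    (lext_one _) 𝒩.mem

/-- The members, as characters. -/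
noncomputable def xi (j : ZMod 𝒩.n) : IrrCharacter G := ⟨𝒩.xiFun j, (𝒩.exists_irr j).choose⟩

theorem xi_mem (j : ZMod 𝒩.n) : 𝒩.xi j ∈ 𝒩.B := (𝒩.exists_irr j).choose_spec

theorem xi_zero : 𝒩.xi 0 = 𝒩.χ := Subtype.ext
  (star_of_eq_one 𝒩.mod 𝒩.block 𝒩.max (fun w hw => by
    rw [show lext (𝒩.lin 0) w = (𝒩.lin 0 ⟨w, hw⟩ : ℂ) from dif_pos hw, lin_apply, zero_mul,
      AddChar.map_zero_eq_one]) 𝒩.invariant 𝒩.mem)

theorem xi_regular (j : ZMod 𝒩.n) {g : G} (hg : ¬ p ∣ orderOf g) :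
    (𝒩.xi j : G → ℂ) g = (𝒩.χ : G → ℂ) g := by
  show 𝒩.xiFun j g = _
  rw [xiFun, star_regular 𝒩.mod 𝒩.block 𝒩.max 𝒩.invariant 𝒩.mem hg, lext_one, one_mul]

theorem xi_degree (j : ZMod 𝒩.n) : (𝒩.xi j : G → ℂ) 1 = (𝒩.χ : G → ℂ) 1 :=
  𝒩.xi_regular j (by rw [orderOf_one]; exact hp.out.not_dvd_one)

theorem xi_height (j : ZMod 𝒩.n) : Cfsg.blockHeight p 𝒩.B (𝒩.xi j : G → ℂ) = 0 := by
  refine Eq.trans ?_ 𝒩.height
  simp only [Cfsg.blockHeight, Cfsg.charDegree, 𝒩.xi_degree j]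

open Classical in
theorem xi_injective : Function.Injective 𝒩.xi := by
  intro i j h
  by_contra hne
  have h1 := classInner_star_eq 𝒩.mod 𝒩.block 𝒩.max 𝒩.nilp 𝒩.mem
    (𝒩.invariant (ζ := lext (𝒩.lin i))) (𝒩.invariant (ζ := lext (𝒩.lin j)))
  change Cfsg.classInner (𝒩.xi i : G → ℂ) (𝒩.xi j : G → ℂ) = _ at h1
  rw [← h, Characters.classInner_irr, if_pos rfl] at h1
  refine one_ne_zero (h1.trans (mul_eq_zero_of_right _ ?_))
  calc _ = ∑ w : 𝒩.P, ZMod.stdAddChar ((𝒩.log w).toAdd * (i - j)) := by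
        refine Finset.sum_congr rfl fun w _ => ?_
        rw [lext_coe, lext_coe, aval_eq_one 𝒩.mod 𝒩.block 𝒩.max 𝒩.nilp 𝒩.mem 𝒩.height, mul_one,
          lin_apply, lin_apply, ← AddChar.map_neg_eq_conj, ← AddChar.map_add_eq_mul]
        congr 1
        ring
    _ = ∑ x : ZMod 𝒩.n, ZMod.stdAddChar (x * (i - j)) := 𝒩.log_bijective.sum_comp
          fun x => ZMod.stdAddChar (x * (i - j))
    _ = 0 := by
      rw [AddChar.sum_mulShift _ (ZMod.isPrimitive_stdAddChar _), if_neg (sub_ne_zero.2 hne),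
        Nat.cast_zero]

theorem card_block : Nat.card 𝒩.B ≤ 𝒩.n :=
  InertialQuotient.card_le_of_cyclic 𝒩.mod 𝒩.block ((isDefectGroup_gblk_iff 𝒩.block _).2
    (IsMaxPair.isDefectGrp (isBlock_gblk 𝒩.block) 𝒩.max).1) (by rw [← 𝒩.gen]; infer_instance)

theorem exists_xi {φ : IrrCharacter G} (h : φ ∈ 𝒩.B) : ∃ j, 𝒩.xi j = φ := by
  classical
  have hc := 𝒩.card_block
  rw [Nat.card_coe_set_eq] at hc
  have hsub : (Finset.univ.image 𝒩.xi : Finset (IrrCharacter G)) = 𝒩.B.toFinset :=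
    Finset.eq_of_subset_of_card_le (fun φ hφ => by
      obtain ⟨j, -, rfl⟩ := Finset.mem_image.1 hφ
      exact Set.mem_toFinset.2 (𝒩.xi_mem j))
      (by rw [Finset.card_image_of_injective _ 𝒩.xi_injective, Finset.card_univ, ZMod.card,
        ← Set.ncard_eq_toFinset_card']; exact hc)
  have h' : φ ∈ 𝒩.B.toFinset := Set.mem_toFinset.2 h
  rw [← hsub, Finset.mem_image] at h'
  exact h'.imp fun j hj => hj.2

theorem card_B : Nat.card 𝒩.B = 𝒩.n := by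
  refine le_antisymm 𝒩.card_block ?_
  have := Nat.card_le_card_of_injective (fun j => (⟨𝒩.xi j, 𝒩.xi_mem j⟩ : 𝒩.B))
    fun a b h => 𝒩.xi_injective (congrArg Subtype.val h)
  simpa using this

open Classical in
/-- The indicator of `v ^ l`. -/
noncomputable def ind (l : ZMod 𝒩.n) (g : G) : ℂ :=
  if h : g ∈ 𝒩.P then if (𝒩.log ⟨g, h⟩).toAdd = l then 1 else 0 else 0

/-- The Fourier coefficients of the members. -/
noncomputable def part (l : ZMod 𝒩.n) : G → ℂ :=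
  star p 𝒩.P 𝒩.eP (𝒩.ind l) (𝒩.χ : G → ℂ)

theorem xi_eq_sum (j : ZMod 𝒩.n) (g : G) :
    (𝒩.xi j : G → ℂ) g = ∑ l, ZMod.stdAddChar (j * l) * 𝒩.part l g := by
  classical
  show 𝒩.xiFun j g = _
  simp only [xiFun, part, star_apply, Finset.mul_sum]
  rw [Finset.sum_comm]
  refine Finset.sum_congr rfl fun e _ => ?_
  simp only [← mul_assoc, ← Finset.sum_mul]
  congr 1
  unfold zt
  split_ifs with h
  · set w := h.choose * pPart p g * h.choose⁻¹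
    have hw : w ∈ 𝒩.P := h.choose_spec.subgroup_le (mem_cj.2 (by simp [w, mul_assoc]))
    rw [Finset.sum_eq_single ((𝒩.log ⟨w, hw⟩).toAdd)]
    · rw [show lext (𝒩.lin j) w = (𝒩.lin j ⟨w, hw⟩ : ℂ) from dif_pos hw, lin_apply, ind,
        dif_pos hw, if_pos rfl, mul_one]
    · intro l _ hl
      rw [ind, dif_pos hw, if_neg fun h => hl h.symm, mul_zero]
    · exact fun h => absurd (Finset.mem_univ _) h
  · simp

theorem part_classFun (l : ZMod 𝒩.n) : Cfsg.IsClassFunction G (𝒩.part l) :=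
  isClassFunction_star 𝒩.mod 𝒩.invariant (Characters.isClassFunction_of_isIrr 𝒩.χ.2)

theorem part_mem (l : ZMod 𝒩.n) (g : G) : Cfsg.MemLocalRing M (𝒩.part l g) := by
  classical
  rw [part, star_apply]
  refine Subring.sum_mem (localRing M) fun e _ => ?_
  by_cases hT : ∃ E, E * E = E ∧ Above M g E e
  · refine Subring.mul_mem (localRing M) ?_ ?_
    · unfold zt
      split_ifs with h
      · unfold ind
        split_ifs
        · exact Subring.one_mem _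
        · exact Subring.zero_mem _
        · exact Subring.zero_mem _
      · exact Subring.zero_mem _
    · rw [T, dif_pos hT, tau_apply]
      exact Subring.sum_mem (localRing M) fun x _ => Subring.mul_mem (localRing M)
        (Subtype.prop _) (Blocks.memLocalRing_char 𝒩.χ x)
  · rw [show T M (𝒩.χ : G → ℂ) g e = 0 from dif_neg hT, mul_zero]
    exact Subring.zero_mem _

theorem part_eq_sum (l : ZMod 𝒩.n) (g : G) :
    (𝒩.n : ℂ) * 𝒩.part l g = ∑ j, ZMod.stdAddChar (-(j * l)) * (𝒩.xi j : G → ℂ) g := by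
  simp only [xi_eq_sum, Finset.mul_sum]
  rw [Finset.sum_comm, Finset.sum_eq_single l]
  · simp only [← mul_assoc, ← AddChar.map_add_eq_mul, neg_add_cancel, AddChar.map_zero_eq_one,
      one_mul, Finset.sum_const, Finset.card_univ, ZMod.card, nsmul_eq_mul]
  · intro m _ hm
    simp only [← mul_assoc, ← AddChar.map_add_eq_mul, ← Finset.sum_mul]
    refine mul_eq_zero_of_left ?_ _
    rw [Finset.sum_congr rfl fun j _ => by rw [show -(j * l) + j * m = j * (m - l) by ring],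
      AddChar.sum_mulShift _ (ZMod.isPrimitive_stdAddChar _), if_neg (sub_ne_zero.2 hm),
      Nat.cast_zero]
  · exact fun h => absurd (Finset.mem_univ _) h

/-- The trace at a generator of the defect group. -/
theorem T_xi {c : ℕ} (hc : Subgroup.zpowers (𝒩.v ^ c) = 𝒩.P) (j : ZMod 𝒩.n) {y : G}
    (hy : y ∈ Subgroup.centralizer ({𝒩.v ^ c} : Set G)) (hyp : ¬ p ∣ orderOf y) :
    T M (𝒩.xi j : G → ℂ) (𝒩.v ^ c * y) 𝒩.eP =
      ZMod.stdAddChar (j * (c : ZMod 𝒩.n)) * T M (𝒩.χ : G → ℂ) (𝒩.v ^ c * y) 𝒩.eP := by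
  have hw : 𝒩.v ^ c ∈ 𝒩.P := pow_mem 𝒩.v_mem c
  have hk : ∃ k, orderOf (𝒩.v ^ c) = p ^ k := by
    obtain ⟨k, hk⟩ := 𝒩.max.1.1.2.1 ⟨_, hw⟩
    obtain ⟨i, -, hi⟩ := (Nat.dvd_prime_pow hp.out).1
      (orderOf_dvd_of_pow_eq_one (congrArg Subtype.val hk : (𝒩.v ^ c) ^ p ^ k = 1))
    exact ⟨i, hi⟩
  have hpp : pPart p (𝒩.v ^ c * y) = 𝒩.v ^ c :=
    pPart_mul_regular hk (s := ⟨y, hy⟩) (by rwa [← Subgroup.orderOf_coe])
  have heP : 𝒩.eP ∈ blocks (Res M) (cent ⊤ (Subgroup.zpowers (pPart p (𝒩.v ^ c * y)))) := by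
    rw [hpp, hc]; exact mem_blocks.2 𝒩.max.1.1.2.2
  show T M (𝒩.xiFun j) _ _ = _
  rw [xiFun, T_star 𝒩.mod 𝒩.invariant (Characters.isClassFunction_of_isIrr 𝒩.χ.2) heP, hpp,
    zt_eq 𝒩.invariant (x := 1) (by rw [conjA_one_left, cj_one, hc]; exact Le.refl'), one_mul,
    inv_one, mul_one, show lext (𝒩.lin j) (𝒩.v ^ c) = (𝒩.lin j ⟨_, hw⟩ : ℂ) from dif_pos hw,
    lin_apply, log_zpow _ _ (c : ℤ) (zpow_natCast _ _), Int.cast_natCast]

theorem exists_T_ne_zero : ∃ y ∈ Subgroup.centralizer ({𝒩.v} : Set G), ¬ p ∣ orderOf y ∧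
    T M (𝒩.χ : G → ℂ) (𝒩.v * y) 𝒩.eP ≠ 0 := by
  classical
  by_contra h
  push Not at h
  refine aval_ne_zero 𝒩.mod 𝒩.block 𝒩.max 𝒩.nilp 𝒩.mem 𝒩.height 𝒩.v_mem ?_
  have hb : below p 𝒩.P 𝒩.eP (Subgroup.zpowers 𝒩.v) = 𝒩.eP :=
    below_eq 𝒩.max (by rw [𝒩.gen]; exact Le.refl')
  rw [aval, cval, hb, nsum, Finset.sum_eq_zero fun s hs => ?_, mul_zero]
  obtain ⟨hs1, hs2⟩ := (Finset.mem_filter.1 hs).2
  rw [cent_zpowers] at hs1
  rw [h s hs1 hs2, zero_mul]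

/-- An automorphism fixing the base member permutes the labels linearly. -/
theorem xi_comp (α : G ≃* G) {r : ℕ} (hv : α 𝒩.v = 𝒩.v ^ r)
    (hr : Subgroup.zpowers (𝒩.v ^ r) = 𝒩.P) (he : emb α.toMonoidHom 𝒩.eP = 𝒩.eP)
    (hB : ∀ φ ∈ 𝒩.B, ∃ φ' ∈ 𝒩.B, (φ' : G → ℂ) = (φ : G → ℂ) ∘ α)
    (hχ : (𝒩.χ : G → ℂ) ∘ α = 𝒩.χ) (j : ZMod 𝒩.n) :
    (𝒩.xi j : G → ℂ) ∘ α = (𝒩.xi (r * j) : G → ℂ) := by
  obtain ⟨φ', hφ', heq⟩ := hB _ (𝒩.xi_mem j)
  obtain ⟨i, rfl⟩ := 𝒩.exists_xi hφ'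
  obtain ⟨y, hy, hyp, hne⟩ := 𝒩.exists_T_ne_zero
  rw [← heq]
  congr 2
  have hyP : y ∈ Subgroup.centralizer (𝒩.P : Set G) := by
    rw [← 𝒩.gen, InertialQuotient.centralizer_zpowers]; exact hy
  have hfix : conjA (Res M) (𝒩.v * y) 𝒩.eP = 𝒩.eP := 𝒩.max.1.1.2.2.fixed _
    (by rw [cent_top]; exact mul_mem (𝒩.comm 𝒩.v_mem) hyP)
  have hidem := 𝒩.max.1.1.2.2.idem
  have hαy : α y ∈ Subgroup.centralizer ({𝒩.v ^ r} : Set G) := by
    rw [Subgroup.mem_centralizer_singleton_iff, ← hv, ← map_mul, ← map_mul,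
      Subgroup.mem_centralizer_singleton_iff.1 hy]
  have hαyp : ¬ p ∣ orderOf (α y) := by rwa [MulEquiv.orderOf_eq]
  have h1 := 𝒩.T_xi (c := 1) (by rw [pow_one, 𝒩.gen]) i (y := y) (by rwa [pow_one]) hyp
  rw [pow_one, Nat.cast_one, mul_one, heq,
    T_comp α (Characters.isClassFunction_of_isIrr (𝒩.xi j).2) hidem hfix, map_mul, hv, he,
    𝒩.T_xi hr j hαy hαyp] at h1
  have h2 := T_comp (M := M) α (Characters.isClassFunction_of_isIrr 𝒩.χ.2) hidem hfix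
  rw [hχ, map_mul, hv, he] at h2
  rw [← h2] at h1
  have h3 := mul_right_cancel₀ hne h1
  exact (ZMod.injective_stdAddChar (N := 𝒩.n) h3).symm.trans (mul_comm _ _)

/-- Some member is fixed by the automorphism. -/
theorem exists_fixed (α : G ≃* G) {r : ℕ} (hv : α 𝒩.v = 𝒩.v ^ r)
    (hr : Subgroup.zpowers (𝒩.v ^ r) = 𝒩.P) (he : emb α.toMonoidHom 𝒩.eP = 𝒩.eP)
    (hB : ∀ φ ∈ 𝒩.B, ∃ φ' ∈ 𝒩.B, (φ' : G → ℂ) = (φ : G → ℂ) ∘ α)
    (hu : IsUnit ((r : ZMod 𝒩.n) - 1)) :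
    ∃ j, (𝒩.xi j : G → ℂ) ∘ α = (𝒩.xi j : G → ℂ) := by
  obtain ⟨y, hy, hyp, hne⟩ := 𝒩.exists_T_ne_zero
  have hyP : y ∈ Subgroup.centralizer (𝒩.P : Set G) := by
    rw [← 𝒩.gen, InertialQuotient.centralizer_zpowers]; exact hy
  have hfix : conjA (Res M) (𝒩.v * y) 𝒩.eP = 𝒩.eP := 𝒩.max.1.1.2.2.fixed _
    (by rw [cent_top]; exact mul_mem (𝒩.comm 𝒩.v_mem) hyP)
  have hαy : α y ∈ Subgroup.centralizer ({𝒩.v ^ r} : Set G) := by
    rw [Subgroup.mem_centralizer_singleton_iff, ← hv, ← map_mul, ← map_mul,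
      Subgroup.mem_centralizer_singleton_iff.1 hy]
  have hαyp : ¬ p ∣ orderOf (α y) := by rwa [MulEquiv.orderOf_eq]
  have hidem := 𝒩.max.1.1.2.2.idem
  have key : ∀ j i, (𝒩.xi i : G → ℂ) = (𝒩.xi j : G → ℂ) ∘ α →
      ZMod.stdAddChar i * T M (𝒩.χ : G → ℂ) (𝒩.v * y) 𝒩.eP =
        ZMod.stdAddChar (j * (r : ZMod 𝒩.n)) * T M (𝒩.χ : G → ℂ) (𝒩.v ^ r * α y) 𝒩.eP := by
    intro j i heq
    have h1 := 𝒩.T_xi (c := 1) (by rw [pow_one, 𝒩.gen]) i (y := y) (by rwa [pow_one]) hyp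
    rw [pow_one, Nat.cast_one, mul_one, heq,
      T_comp α (Characters.isClassFunction_of_isIrr (𝒩.xi j).2) hidem hfix, map_mul, hv, he,
      𝒩.T_xi hr j hαy hαyp] at h1
    exact h1.symm
  obtain ⟨φ', hφ', heq⟩ := hB _ (𝒩.xi_mem 0)
  obtain ⟨μ, rfl⟩ := 𝒩.exists_xi hφ'
  obtain ⟨w, hw⟩ := hu
  refine ⟨-(↑w⁻¹ * μ), ?_⟩
  obtain ⟨ψ', hψ', heq'⟩ := hB _ (𝒩.xi_mem (-(↑w⁻¹ * μ)))
  obtain ⟨i, rfl⟩ := 𝒩.exists_xi hψ'
  rw [← heq']
  congr 2
  have h0 := key 0 μ heq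
  rw [zero_mul, AddChar.map_zero_eq_one, one_mul] at h0
  have h1 := key _ i heq'
  rw [← h0, ← mul_assoc, ← AddChar.map_add_eq_mul] at h1
  have h2 := ZMod.injective_stdAddChar (N := 𝒩.n) (mul_right_cancel₀ hne h1)
  have h3 : ((r : ZMod 𝒩.n) - 1) * ↑w⁻¹ = 1 := by rw [← hw, Units.mul_inv]
  linear_combination h2 - μ * h3

end Nil

end CfsgLib.CyclicDefect
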