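import Cfsg.Agent.CyclicDefect.Average
import Cfsg.Agent.BlocksCyclic.Traces
import Cfsg.Agent.BlocksLocal.TwoCharacters

/-!
# As many simple modules as the inertial index

For each `e`-th root of unity `c` some simple module of the block has a vector of type `c`, and a
simple module has vectors of one type only.
-/

set_option autoImplicit false
set_option linter.unusedSectionVars false
set_option linter.style.haveILetI false

namespace CfsgLib.CyclicDefect

open CfsgLib.BlockPairs CfsgLib.BlocksCyclic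

variable {k : Type*} [Field k] {G : Type*} [Group G] [Finite G]

namespace Serial

variable (S : Serial k G)

theorem eps_τ (c : k) : S.eps c * S.τ = S.τ * S.eps c := by
  simp only [eps, smul_mul_assoc, Finset.sum_mul, mul_smul_comm, Finset.mul_sum]
  refine congrArg _ (Finset.sum_congr rfl fun l _ => congrArg _ ?_)
  rw [mul_assoc, S.i_τ, ← mul_assoc, ← pow_succ', pow_succ, mul_assoc, S.τ_i]

/-- A vector of type `c`. -/
def Good {M : Type*} [AddCommGroup M] [Module k M] [Module (GA k G) M] (c : k) (v : M) : Prop :=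
  S.i • v = v ∧ S.T • v = 0 ∧ S.τ • v = c • v ∧ ∀ w : M, S.top • w ≠ v

/-- A simple module has vectors of one type only. -/
theorem good_unique [IsAlgClosed k] {M : Type*} [AddCommGroup M] [Module k M] [Module (GA k G) M]
    [IsScalarTower k (GA k G) M] [IsSimpleModule (GA k G) M] [FiniteDimensional k M]
    {c c' : k} (hc : c ^ S.e = 1) (hc' : c' ^ S.e = 1) {v v' : M} (hv : S.Good c v)
    (hv' : S.Good c' v') : c = c' := by
  classical
  by_contra hne
  obtain ⟨hiv, hTv, hτv, htv⟩ := hv
  obtain ⟨hiv', hTv', hτv', htv'⟩ := hv'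
  have hζ : S.ζ ≠ 0 := S.prim.ne_zero S.e_pos.ne'
  have hroot : ∀ d : ℕ, (S.ζ ^ d) ^ S.e = 1 := fun d => by
    rw [← pow_mul, mul_comm, pow_mul, S.prim.pow_eq_one, one_pow]
  let P : ℕ → Prop := fun d => ∃ y : M, S.T • ((S.T ^ d * S.i) • y) = 0 ∧
    S.τ • ((S.T ^ d * S.i) • y) = c • ((S.T ^ d * S.i) • y) ∧
    ∀ w : M, S.top • w ≠ (S.T ^ d * S.i) • y
  have hP0 : P 0 := ⟨v, by rw [pow_zero, one_mul, hiv]; exact hTv,
    by rw [pow_zero, one_mul, hiv]; exact hτv, by rw [pow_zero, one_mul, hiv]; exact htv⟩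
  obtain ⟨d, ⟨y, hTw, hτw, htw⟩, hmax⟩ : ∃ d, P d ∧ ¬ P (d + 1) := by
    by_contra hcon
    push Not at hcon
    have hall : ∀ d, P d := fun d => Nat.rec hP0 (fun d ih => hcon d ih) d
    obtain ⟨y, -, -, h⟩ := hall S.n
    exact h 0 (by rw [S.T_nil, zero_smul, smul_zero])
  set w := (S.T ^ d * S.i) • y with hw
  have hiw : S.i • w = w := by rw [hw, ← mul_smul, S.i_pow]
  have hεw : S.eps c • w = w := by rw [S.eps_smul_eigen hc hc hiw hτw, if_pos rfl]
  set U : Submodule k M := LinearMap.range (Algebra.lsmul k k M (S.T ^ (d + 1) * S.i)) with hU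
  have hwU : w ∉ U := by
    rintro ⟨z, hz⟩
    have hz' : (S.T ^ (d + 1) * S.i) • z = w := hz
    exact hmax ⟨z, by rw [hz']; exact hTw, by rw [hz']; exact hτw, by rw [hz']; exact htw⟩
  obtain ⟨ψ₀, hψ₀, hψU⟩ := Submodule.exists_dual_map_eq_bot_of_notMem hwU inferInstance
  have hψU' : ∀ z : M, ψ₀ ((S.T ^ (d + 1) * S.i) • z) = 0 := fun z => by
    have : ψ₀ ((S.T ^ (d + 1) * S.i) • z) ∈ U.map ψ₀ := ⟨_, ⟨z, rfl⟩, rfl⟩
    rwa [hψU, Submodule.mem_bot] at this
  set ψ : M →ₗ[k] k := (ψ₀ w)⁻¹ • ψ₀.comp (Algebra.lsmul k k M (S.eps c)) with hψdef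
  have hψa : ∀ x, ψ x = (ψ₀ w)⁻¹ * ψ₀ (S.eps c • x) := fun x => rfl
  have hψw : ψ w = 1 := by rw [hψa, hεw, inv_mul_cancel₀ hψ₀]
  have hψT : ∀ z, ψ ((S.T ^ (d + 1) * S.i) • z) = 0 := fun z => by
    rw [hψa, ← mul_smul]
    have h := S.eps_T_pow (c := c * (S.ζ ^ (d + 1))⁻¹) (d + 1)
    rw [inv_mul_cancel_right₀ (pow_ne_zero _ hζ)] at h
    rw [← h, mul_smul, hψU', mul_zero]
  have hψτ : ∀ x, ψ (S.τ • x) = c * ψ x := fun x => by
    rw [hψa, hψa, ← mul_smul, S.eps_τ, S.τ_eps hc, smul_assoc, map_smul ψ₀ c, smul_eq_mul]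
    ring
  set c₁ := c * (S.ζ ^ d)⁻¹ with hc₁
  have hc₁e : c₁ ^ S.e = 1 := by rw [hc₁, mul_pow, inv_pow, hc, hroot, inv_one, mul_one]
  set y' := S.eps c₁ • y with hy'
  have hiy' : S.i • y' = y' := by rw [hy', ← mul_smul, S.i_eps]
  have hτy' : S.τ • y' = c₁ • y' := by rw [hy', ← mul_smul, S.τ_eps hc₁e, smul_assoc]
  have hTy' : (S.T ^ d * S.i) • y' = w := by
    rw [hy', ← mul_smul, S.eps_T_pow, hc₁, inv_mul_cancel_right₀ (pow_ne_zero _ hζ), mul_smul,
      ← hw, hεw]
  let f : M →ₗ[k] M := ∑ j ∈ Finset.range (d + 1),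
    (ψ.comp (Algebra.lsmul k k M (S.T ^ j * S.i))).smulRight ((S.T ^ (d - j) * S.i) • y')
  have hf : ∀ x, f x = ∑ j ∈ Finset.range (d + 1),
      ψ ((S.T ^ j * S.i) • x) • ((S.T ^ (d - j) * S.i) • y') := fun x => by
    simp only [f, LinearMap.sum_apply, LinearMap.smulRight_apply, LinearMap.comp_apply,
      Algebra.lsmul_coe]
  have hfi : ∀ x : M, S.i • x = x → S.i • f x = f x := fun x _ => by
    rw [hf, Finset.smul_sum]
    exact Finset.sum_congr rfl fun j _ => by
      rw [smul_comm S.i (ψ _), ← mul_smul, S.i_pow]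
  have hfT : ∀ x : M, S.i • x = x → f (S.T • x) = S.T • f x := fun x _ => by
    rw [hf, hf, Finset.smul_sum, Finset.sum_range_succ, Finset.sum_range_succ']
    congr 1
    · refine Finset.sum_congr rfl fun j hj => ?_
      have hj' := Finset.mem_range.1 hj
      rw [smul_comm S.T (ψ _), ← mul_smul (S.T ^ j * S.i), ← mul_smul S.T,
        mul_assoc (S.T ^ j), S.i_T, ← pow_succ, ← mul_assoc S.T, ← pow_succ',
        show d - (j + 1) + 1 = d - j by omega]
      conv_rhs => rw [pow_succ, mul_assoc, S.T_i]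
      rw [← pow_succ]
    · rw [smul_comm S.T (ψ _), ← mul_smul (S.T ^ d * S.i), mul_assoc (S.T ^ d), S.i_T, ← pow_succ,
        Nat.sub_zero, hTy', hTw, smul_zero]
      rw [show (S.T ^ (d + 1) : GA k G) • x = (S.T ^ (d + 1) * S.i) • x by
        rw [pow_succ, mul_assoc, S.T_i], hψT, zero_smul]
  have hfτ : ∀ x : M, S.i • x = x → f (S.τ • x) = S.τ • f x := fun x _ => by
    rw [hf, hf, Finset.smul_sum]
    refine Finset.sum_congr rfl fun j hj => ?_
    have hj' := Finset.mem_range.1 hj
    have h1 : S.T ^ j * S.i * S.τ = (S.ζ ^ j)⁻¹ • (S.τ * (S.T ^ j * S.i)) := by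
      rw [S.τ_T_pow, smul_smul, inv_mul_cancel₀ (pow_ne_zero _ hζ), one_smul]
    have h2 : S.τ • ((S.T ^ (d - j) * S.i) • y') =
        (S.ζ ^ (d - j) * c₁) • ((S.T ^ (d - j) * S.i) • y') := by
      rw [← mul_smul, S.τ_T_pow, smul_assoc, mul_smul, hτy', smul_comm _ c₁, smul_smul]
    rw [← mul_smul (S.T ^ j * S.i), h1, smul_assoc, map_smul ψ, smul_eq_mul, mul_smul S.τ, hψτ,
      smul_comm S.τ (ψ _), h2, smul_smul, smul_smul]
    congr 1
    rw [hc₁, show S.ζ ^ d = S.ζ ^ (d - j) * S.ζ ^ j by rw [← pow_add, Nat.sub_add_cancel (by omega)],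
      mul_inv]
    have := pow_ne_zero (d - j) hζ
    field_simp
  have hker : ∀ u : M, S.i • u = u → S.T • u = 0 → f u = ψ u • w := fun u hiu hTu => by
    rw [hf, Finset.sum_range_succ', Finset.sum_eq_zero fun j _ => ?_, zero_add, pow_zero, one_mul,
      hiu, Nat.sub_zero, hTy']
    rw [pow_succ, mul_assoc, S.T_i, mul_smul, hTu, smul_zero, map_zero, zero_smul]
  obtain ⟨c₀, hc₀⟩ := S.exists_average f hfi hfT hfτ
  obtain ⟨z', hz'⟩ := hc₀ v' hiv' hTv'
  have hψv' : ψ v' = 0 := by
    rw [hψa, S.eps_smul_eigen hc hc' hiv' hτv', if_neg hne, map_zero, mul_zero]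
  rw [hker v' hiv' hTv', hψv', zero_smul, smul_zero, sub_zero] at hz'
  have hc0 : c₀ = 0 := by
    by_contra h
    exact htv' (c₀⁻¹ • z') (by rw [smul_comm, ← hz', smul_smul, inv_mul_cancel₀ h, one_smul])
  obtain ⟨z, hz⟩ := hc₀ w hiw hTw
  rw [hc0, zero_smul, zero_sub, hker w hiw hTw, hψw, one_smul] at hz
  exact htw ((-(S.e : k))⁻¹ • z) (by
    rw [smul_comm, ← hz, ← neg_smul, smul_smul, inv_mul_cancel₀ (neg_ne_zero.2 S.e_ne), one_smul])

/-- Some simple subquotient of a left ideal has a vector of type `c`, if the ideal has. -/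
theorem exists_simple_good {c : k} (hc : c ^ S.e = 1) :
    ∀ (m : ℕ) (L : Submodule (GA k G) (GA k G)), Module.finrank k L ≤ m →
      (∀ x ∈ L, S.eB * x = x) → ∀ v : L, S.Good c v →
      ∃ (L' : Submodule (GA k G) (GA k G)) (K : Submodule (GA k G) L'),
        IsCoatom K ∧ (∀ x ∈ L', S.eB * x = x) ∧ ∃ v' : L' ⧸ K, S.Good c v' := by
  classical
  haveI := Fintype.ofFinite G
  haveI : Module.Finite k (GA k G) := Module.Finite.of_basis (MonoidAlgebra.basis G k)
  haveI : Module.Finite (GA k G) (GA k G) := Module.Finite.self _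
  haveI : IsNoetherian (GA k G) (GA k G) := isNoetherian_of_tower k inferInstance
  intro m
  induction m with
  | zero =>
    intro L hL _ v hv
    exfalso
    have : Subsingleton L := Module.finrank_zero_iff.1 (Nat.le_zero.1 hL)
    exact hv.2.2.2 0 (Subsingleton.elim _ _)
  | succ m ih =>
    intro L hL heB v hv
    have hv0 : v ≠ 0 := fun h => hv.2.2.2 0 (by rw [smul_zero, h])
    haveI : Nontrivial L := ⟨v, 0, hv0⟩
    haveI : Module.Finite (GA k G) L := Module.Finite.iff_fg.2 (IsNoetherian.noetherian L)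
    haveI : IsCoatomic (Submodule (GA k G) L) := inferInstance
    obtain ⟨K, hK, -⟩ : ∃ K, IsCoatom K ∧ (⊥ : Submodule (GA k G) L) ≤ K :=
      (eq_top_or_exists_le_coatom (⊥ : Submodule (GA k G) L)).resolve_left bot_ne_top
    obtain ⟨hiv, hTv, hτv, htv⟩ := hv
    by_cases hgood : S.Good c (Submodule.Quotient.mk v : L ⧸ K)
    · exact ⟨L, K, hK, heB, _, hgood⟩
    obtain ⟨w, hw⟩ : ∃ w : L ⧸ K, S.top • w = Submodule.Quotient.mk v := by
      by_contra hcon
      push Not at hcon
      exact hgood ⟨by rw [← Submodule.Quotient.mk_smul, hiv],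
        by rw [← Submodule.Quotient.mk_smul, hTv, Submodule.Quotient.mk_zero],
        by rw [← Submodule.Quotient.mk_smul, hτv, Submodule.Quotient.mk_smul], hcon⟩
    obtain ⟨z, rfl⟩ := Submodule.Quotient.mk_surjective K w
    rw [← Submodule.Quotient.mk_smul, eq_comm, Submodule.Quotient.eq] at hw
    set k' : L := S.eps c • (v - S.top • z) with hk'
    have hk'K : k' ∈ K := K.smul_mem _ hw
    have hεv : S.eps c • v = v := by rw [S.eps_smul_eigen hc hc hiv hτv, if_pos rfl]
    have hk'v : k' = v - S.top • (S.eps c • z) := by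
      rw [hk', smul_sub, hεv, ← mul_smul, ← S.eps_top, mul_smul]
    set K' : Submodule (GA k G) (GA k G) := K.map L.subtype
    have hK'L : ∀ x ∈ K', S.eB * x = x := by
      rintro _ ⟨x, -, rfl⟩
      exact heB _ x.2
    have hlt : Module.finrank k K' ≤ m := by
      have h1 : K'.restrictScalars k < L.restrictScalars k := by
        refine lt_of_le_of_ne (fun x hx => by obtain ⟨x, -, rfl⟩ := hx; exact x.2) fun h => hK.1 ?_
        refine eq_top_iff.2 fun x _ => ?_
        have hx : (x : GA k G) ∈ K' := by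
          show (x : GA k G) ∈ K'.restrictScalars k
          rw [h]; exact x.2
        obtain ⟨y, hy, hyx⟩ := hx
        rwa [← Subtype.ext (show (y : GA k G) = x from hyx)]
      have h2 : Module.finrank k (K'.restrictScalars k) < Module.finrank k (L.restrictScalars k) :=
        Submodule.finrank_lt_finrank_of_lt h1
      have h3 : Module.finrank k (L.restrictScalars k) ≤ m + 1 := hL
      exact Nat.lt_succ_iff.1 (lt_of_lt_of_le h2 h3)
    refine ih K' hlt hK'L ⟨(k' : GA k G), k', hk'K, rfl⟩ ⟨?_, ?_, ?_, fun u hu => ?_⟩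
    · refine Subtype.ext ?_
      show S.i * (k' : GA k G) = k'
      have := congrArg (fun x : L => (x : GA k G)) (show S.i • k' = k' by
        rw [hk', ← mul_smul, S.i_eps])
      exact this
    · refine Subtype.ext ?_
      show S.T * (k' : GA k G) = 0
      exact congrArg (fun x : L => (x : GA k G)) (show S.T • k' = 0 by
        rw [hk'v, smul_sub, hTv, ← mul_smul, S.T_mul_top, zero_smul, sub_zero])
    · refine Subtype.ext ?_
      exact congrArg (fun x : L => (x : GA k G)) (show S.τ • k' = c • k' by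
        rw [hk', ← mul_smul, S.τ_eps hc, smul_assoc])
    · obtain ⟨u', hu'⟩ : ∃ u' : L, S.top • u' = k' := by
        obtain ⟨u', -, hu''⟩ := u.2
        exact ⟨u', Subtype.ext (by
          show S.top * (u' : GA k G) = k'
          rw [show (u' : GA k G) = (u : GA k G) from hu'']
          exact congrArg (fun x : K' => (x : GA k G)) hu)⟩
      exact htv (u' + S.eps c • z) (by rw [smul_add, hu', hk'v, sub_add_cancel])

theorem τ_pow_supp (l : ℕ) : IsSupp S.N (S.τ ^ l * S.i) := fun h hh => by
  simpa using S.N.mul_mem (pow_mem S.t_mem l) (S.X_le (S.τ_pow_cos l h hh))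

theorem eps_supp (c : k) : IsSupp S.N (S.eps c) := by
  intro h hh
  by_contra hN
  apply hh
  simp only [eps, MonoidAlgebra.coeff_smul, Finsupp.smul_apply, MonoidAlgebra.coeff_sum,
    Finsupp.finsetSum_apply]
  rw [Finset.sum_eq_zero fun l _ => by rw [(S.τ_pow_supp l).coeff_eq_zero hN, smul_zero],
    smul_zero]

/-- The elements of `N` carry the top of the corner to the left annihilator of the top. -/
theorem top_single_top {g : G} (hg : g ∈ S.N) :
    S.top * MonoidAlgebra.single g (1 : k) * S.top = 0 := by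
  have htt : ∀ {z : GA k G}, IsSupp S.X z → S.top * (S.i * z * S.i) * S.top = 0 := by
    intro z hz
    rw [mul_assoc S.top, show S.i * z * S.i * S.top = S.i * z * S.i * S.T ^ (S.n - 1) * S.i by
        rw [top]; simp only [mul_assoc], ← S.corner_comm hz]
    rw [top, ← mul_assoc, ← mul_assoc, mul_assoc (S.T ^ (S.n - 1) * S.i) (S.T ^ (S.n - 1))]
    have h2 : S.n ≤ S.n - 1 + (S.n - 1) := by have := S.two_le; omega
    rw [show S.T ^ (S.n - 1) * S.i * (S.T ^ (S.n - 1) * (S.i * z * S.i)) =
        S.T ^ (S.n - 1) * S.i * (S.T ^ (S.n - 1) * S.i) * (z * S.i) by simp only [mul_assoc],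
      S.pow_mul_pow, S.pow_eq_zero h2, zero_mul, zero_mul]
  by_cases h : ∀ l : ℕ, (S.t ^ l)⁻¹ * g ∉ S.X
  · have hb := S.b_orth g hg h
    calc S.top * MonoidAlgebra.single g (1 : k) * S.top
        = S.top * (S.b * (MonoidAlgebra.single g (1 : k) * S.b)) * S.top := by
          have htb : S.top * S.b = S.top := by rw [← S.top_mul_i, mul_assoc, S.i_b]
          have hbt : S.b * S.top = S.top := by rw [← S.i_mul_top, ← mul_assoc, S.b_i]
          simp only [mul_assoc]
          rw [hbt, ← mul_assoc S.top S.b, htb]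
      _ = 0 := by rw [conjA_eq_mul, ← mul_assoc S.b, hb, zero_mul, mul_zero, zero_mul]
  · push Not at h
    obtain ⟨l, hl⟩ := h
    have hz : IsSupp S.X (S.τ' ^ l * S.i * MonoidAlgebra.single g (1 : k)) := by
      refine inCos_one.1 (inCos_congr ?_ ((S.τ'_pow_cos l).mul
        (inCos_congr (g' := S.t ^ l) (by simpa using S.X.inv_mem hl) (inCos_single g 1))
        (S.conj_mem (S.pow_t_norm l))))
      simp
    calc S.top * MonoidAlgebra.single g (1 : k) * S.top
        = S.top * (S.τ ^ l * S.i * (S.τ' ^ l * S.i) * MonoidAlgebra.single g 1) * S.top := by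
          rw [S.τ_τ'_pow, ← mul_assoc, S.top_mul_i]
      _ = S.top * (S.τ ^ l * S.i) * (S.i * (S.τ' ^ l * S.i * MonoidAlgebra.single g 1) * S.i) *
            S.top := by
          have h5 : ∀ x, S.i * (S.τ' ^ l * (S.i * x)) = S.τ' ^ l * (S.i * x) := fun x => by
            rw [← mul_assoc, (S.commute_τ'.pow_right l).eq, mul_assoc, ← mul_assoc S.i, S.i_idem]
          simp only [mul_assoc, S.i_mul_top, h5]
      _ = 0 := by
          have h1 : ∀ m, ∃ c : k, S.top * (S.τ ^ m * S.i) = c • (S.τ ^ m * S.i * S.top) := by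
            intro m
            induction m with
            | zero => exact ⟨1, by rw [pow_zero, one_mul, one_smul, S.top_mul_i, S.i_mul_top]⟩
            | succ m ih =>
              obtain ⟨c, hc⟩ := ih
              have h := S.τ_T_pow (S.n - 1)
              rw [S.zeta_pow_pred, one_smul, ← top] at h
              refine ⟨c, ?_⟩
              rw [pow_succ' S.τ, mul_assoc, ← mul_assoc S.top, ← h, mul_assoc, hc, mul_smul_comm]
              simp only [mul_assoc]
          obtain ⟨c, hc⟩ := h1 l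
          rw [hc, smul_mul_assoc, smul_mul_assoc, mul_assoc (S.τ ^ l * S.i), mul_assoc (S.τ ^ l * S.i),
            htt hz, mul_zero, smul_zero]

theorem top_eps_ne {c : k} : S.top * S.eps c ≠ 0 := by
  intro h0
  have h1 := congrArg (restr S.X) h0
  rw [map_zero, restr_mul_left S.top_supp] at h1
  have h2 : restr S.X (S.eps c) = (S.e : k)⁻¹ • S.i := by
    simp only [eps, map_smul, map_sum]
    rw [Finset.sum_eq_single 0]
    · rw [pow_zero, pow_zero, one_mul, restr_eq_self S.i_supp, one_smul]
    · intro l hl hl0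
      have hz : restr S.X (S.τ ^ l * S.i) = 0 := ga_ext fun g => by
        by_cases hg : g ∈ S.X
        · rw [coeff_restr_mem _ hg, MonoidAlgebra.coeff_zero, Finsupp.zero_apply]
          by_contra hne
          have h3 : S.t ^ l ∈ S.X := by
            simpa using S.X.mul_mem hg (S.X.inv_mem (S.τ_pow_cos l g hne))
          exact hl0 (Nat.eq_zero_of_dvd_of_lt ((S.t_pow l).1 h3) (Finset.mem_range.1 hl))
        · rw [(isSupp_restr _ _).coeff_eq_zero hg, MonoidAlgebra.coeff_zero, Finsupp.zero_apply]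
      rw [hz, smul_zero]
    · intro h
      exact absurd (Finset.mem_range.2 S.e_pos) h
  rw [h2, mul_smul_comm, smul_eq_zero, S.top_mul_i] at h1
  exact h1.elim (inv_ne_zero S.e_ne) S.T_top

/-- The type `c` occurs in the left regular module of the block. -/
theorem exists_good_start {c : k} (hc : c ^ S.e = 1) :
    ∃ L : Submodule (GA k G) (GA k G), (∀ x ∈ L, S.eB * x = x) ∧ ∃ v : L, S.Good c v := by
  classical
  haveI := Fintype.ofFinite G
  obtain ⟨p, hp, hch, hU⟩ := S.U_pgroup
  haveI : Fact p.Prime := ⟨hp⟩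
  set w := S.top * S.eps c with hw
  have hiw : S.i * w = w := by rw [hw, ← mul_assoc, S.i_mul_top]
  have hTw : S.T * w = 0 := by rw [hw, ← mul_assoc, S.T_mul_top, zero_mul]
  have hτw : S.τ * w = c • w := by
    rw [hw, S.eps_top, ← mul_assoc, S.τ_eps hc, smul_mul_assoc]
  have hwN : IsSupp S.N w :=
    isSupp_mul (fun g hg => S.X_le (S.top_supp g hg)) (S.eps_supp c)
  have hu : ∀ u ∈ S.U, MonoidAlgebra.single u (1 : k) * w = w := fun u hu => by
    rw [hw, ← mul_assoc]
    show MonoidAlgebra.single u (1 : k) * S.top * S.eps c = _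
    rw [show MonoidAlgebra.single u (1 : k) * S.top = S.top from S.U_top u hu]
  -- the truncation of the block idempotent
  set z := restr S.N S.eB - br S.U S.eB with hz
  have hfix : IsFixed S.U S.eB := fun u _ => by
    rw [conjA, ← S.eB_comm (MonoidAlgebra.single u 1), mul_assoc, MonoidAlgebra.single_mul_single,
      mul_inv_cancel, mul_one, ← MonoidAlgebra.one_def, mul_one]
  have hzN : IsSupp S.N z := fun g hg => by
    by_contra hgN
    apply hg
    rw [hz, MonoidAlgebra.coeff_sub, Finsupp.sub_apply, (isSupp_restr _ _).coeff_eq_zero hgN,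
      show (br S.U S.eB).coeff g = 0 from S.br_supp.coeff_eq_zero fun h => hgN (S.X_le h), sub_zero]
  have hzC : ∀ g ∈ Subgroup.centralizer (S.U : Set G), z.coeff g = 0 := by
    intro g hg
    by_cases hgN : g ∈ S.N
    · rw [hz, MonoidAlgebra.coeff_sub, Finsupp.sub_apply, br_coeff_mem _ _ hg,
        coeff_restr_mem _ hgN, sub_self]
    · exact hzN.coeff_eq_zero hgN
  have hzfix : IsFixed S.U z := by
    intro u hu'
    rw [hz, conjA_sub, isFixed_br Subgroup.le_normalizer hfix u hu',
      conjA_restr (S.X_le (S.U_le hu')), hfix u hu']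
  have hzw : z * w = 0 := by
    letI : MulAction S.U G := MulAction.compHom G (MulAut.conj.comp S.U.subtype)
    have hsmul : ∀ (u : S.U) (h : G), u • h = (u : G) * h * (u : G)⁻¹ := fun u h => rfl
    have hzs : z * w = ∑ g : G, z.coeff g • (MonoidAlgebra.single g (1 : k) * w) := by
      conv_lhs => rw [← MonoidAlgebra.sum_coeff_single z]
      rw [Finsupp.sum_fintype _ _ (fun g => MonoidAlgebra.single_zero g), Finset.sum_mul]
      exact Finset.sum_congr rfl fun g _ => by
        rw [← smul_mul_assoc, MonoidAlgebra.smul_single, smul_eq_mul, mul_one]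
    rw [hzs, sum_eq_sum_fixed hU (fun x : GA k G => nsmul_eq_zero_ga (p := p) x)]
    · refine Finset.sum_eq_zero fun g hg => ?_
      rw [hzC g (Subgroup.mem_centralizer_iff.2 fun u hu' => ?_), zero_smul]
      have h1 := (Finset.mem_filter.1 hg).2 ⟨u, hu'⟩
      rw [hsmul] at h1
      exact mul_inv_eq_iff_eq_mul.1 h1
    · intro u g
      rw [hsmul, hzfix.coeff' u.2]
      by_cases hgN : g ∈ S.N
      · congr 1
        have hs : ∀ x y : G, MonoidAlgebra.single (x * y) (1 : k) =
            MonoidAlgebra.single x 1 * MonoidAlgebra.single y 1 := fun x y => by simp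
        rw [hs ((u : G) * g), mul_assoc, hu _ (S.U.inv_mem u.2)]
        have hn : g⁻¹ * (u : G) * g ∈ S.U := by
          simpa using (Subgroup.mem_normalizer_iff.1 (inv_mem (S.U_norm hgN)) (u : G)).1 u.2
        conv_rhs => rw [← hu _ hn]
        rw [← mul_assoc (MonoidAlgebra.single g (1 : k)), ← hs, ← mul_assoc g, mul_inv_cancel_left]
      · rw [hzN.coeff_eq_zero hgN, zero_smul, zero_smul]
  have hrest : restr S.N S.eB * w = w := by
    have hbw : br S.U S.eB * w = w := by
      rw [← hiw, ← S.b_i, mul_assoc, ← mul_assoc (br S.U S.eB), S.br_b]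
    rw [show restr S.N S.eB = z + br S.U S.eB from (sub_add_cancel _ _).symm, add_mul, hzw,
      zero_add, hbw]
  set L : Submodule (GA k G) (GA k G) := Submodule.span (GA k G) {S.eB * w}
  have heB : ∀ x ∈ L, S.eB * x = x := fun x hx => by
    obtain ⟨g, rfl⟩ := Submodule.mem_span_singleton.1 hx
    show S.eB * (g * (S.eB * w)) = g * (S.eB * w)
    rw [← mul_assoc, S.eB_comm g, mul_assoc, ← mul_assoc S.eB, S.eB_idem]
  refine ⟨L, heB, ⟨S.eB * w, Submodule.mem_span_singleton_self _⟩, ?_, ?_, ?_, fun u hu' => ?_⟩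
  · refine Subtype.ext ?_
    show S.i * (S.eB * w) = S.eB * w
    rw [← mul_assoc, ← S.eB_comm, mul_assoc, hiw]
  · refine Subtype.ext ?_
    show S.T * (S.eB * w) = 0
    rw [← mul_assoc, ← S.eB_comm, mul_assoc, hTw, mul_zero]
  · refine Subtype.ext ?_
    show S.τ * (S.eB * w) = c • (S.eB * w)
    rw [← mul_assoc, ← S.eB_comm, mul_assoc, hτw, mul_smul_comm]
  · obtain ⟨g, hg⟩ := Submodule.mem_span_singleton.1 u.2
    have h1 : S.top * (g * (S.eB * w)) = S.eB * w := by
      have := congrArg (fun x : L => (x : GA k G)) hu'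
      rw [show g * (S.eB * w) = (u : GA k G) from hg]
      exact this
    have h2 := congrArg (restr S.N) h1
    rw [restr_mul_right S.eB hwN, hrest, ← mul_assoc g, ← mul_assoc, restr_mul_right _ hwN,
      restr_mul_left (N := S.N) (fun x hx => S.X_le (S.top_supp x hx))] at h2
    have h3 : ∀ y : GA k G, IsSupp S.N y → S.top * y * S.top = 0 := fun y hy => by
      rw [← MonoidAlgebra.sum_coeff_single y, Finsupp.sum, Finset.mul_sum, Finset.sum_mul]
      refine Finset.sum_eq_zero fun x hx => ?_
      rw [show (MonoidAlgebra.single x (y.coeff x) : GA k G) =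
        y.coeff x • MonoidAlgebra.single x 1 by rw [MonoidAlgebra.smul_single, smul_eq_mul, mul_one],
        mul_smul_comm, smul_mul_assoc, S.top_single_top (hy x (Finsupp.mem_support_iff.1 hx)),
        smul_zero]
    have hw0 : w = 0 := by
      rw [← h2, hw, ← mul_assoc, h3 _ (isSupp_restr _ _), zero_mul]
    exact S.top_eps_ne hw0

open BlocksLocal in
/-- The regular traces of the block span at least `e` dimensions. -/
theorem e_le_finrank_regular [IsAlgClosed k] [Fintype G] {p : ℕ} [hp : Fact p.Prime] [CharP k p] :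
    S.e ≤ Module.finrank k (Submodule.span k (Set.range fun y : {y : G // ¬ p ∣ orderOf y} =>
      classTrace k G (S.eB * MonoidAlgebra.single (y : G) 1))) := by
  classical
  haveI : Module.Finite k (GA k G) := Module.Finite.of_basis (MonoidAlgebra.basis G k)
  have hroot : ∀ j : Fin S.e, (S.ζ ^ (j : ℕ)) ^ S.e = 1 := fun j => by
    rw [← pow_mul, mul_comm, pow_mul, S.prim.pow_eq_one, one_pow]
  have hex : ∀ j : Fin S.e, ∃ (L : Submodule (GA k G) (GA k G)) (K : Submodule (GA k G) L),
      IsCoatom K ∧ (∀ x ∈ L, S.eB * x = x) ∧ ∃ v : L ⧸ K, S.Good (S.ζ ^ (j : ℕ)) v := fun j => by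
    obtain ⟨L, hL, v, hv⟩ := S.exists_good_start (hroot j)
    exact S.exists_simple_good (hroot j) _ L le_rfl hL v hv
  choose W W' hco hWB v hv using hex
  haveI hsimple : ∀ j, IsSimpleModule (GA k G) (W j ⧸ W' j) := fun j =>
    isSimpleModule_iff_isCoatom.2 (hco j)
  haveI hfin : ∀ j, FiniteDimensional k (W j ⧸ W' j) := fun j => by
    haveI : Module.Finite k (W j) :=
      Module.Finite.equiv ((W j).restrictScalarsEquiv k (GA k G) (GA k G) |>.restrictScalars k)
    exact Module.Finite.of_surjective ((W' j).mkQ.restrictScalars k)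
      (Submodule.Quotient.mk_surjective _)
  have hne : ∀ i j, i ≠ j → ∀ h : (W i ⧸ W' i) →ₗ[GA k G] (W j ⧸ W' j), h = 0 := by
    intro i j hij h
    by_contra h0
    obtain ⟨hinj, hsurj⟩ := (LinearMap.bijective_of_ne_zero h0)
    refine hij ?_
    obtain ⟨h1, h2, h3, h4⟩ := hv i
    have hg : S.Good (S.ζ ^ (i : ℕ)) (h (v i)) := ⟨by rw [← map_smul, h1],
      by rw [← map_smul, h2, map_zero],
      by rw [← map_smul, h3, LinearMap.map_smul_of_tower], fun w hw => by
        obtain ⟨w', rfl⟩ := hsurj w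
        rw [← map_smul] at hw
        exact h4 w' (hinj hw)⟩
    exact Fin.ext (S.prim.pow_inj i.2 j.2 (S.good_unique (hroot i) (hroot j) hg (hv j)))
  let L : GA k G →ₗ[k] (Fin S.e → k) := LinearMap.pi fun j =>
    (LinearMap.trace k (W j ⧸ W' j)).comp (Algebra.lsmul k k (W j ⧸ W' j)).toLinearMap
  have hL : ∀ x j, L x j = LinearMap.trace k (W j ⧸ W' j) (Algebra.lsmul k k (W j ⧸ W' j) x) :=
    fun x j => rfl
  have hLc : ∀ x y, L (x * y) = L (y * x) := fun x y => funext fun j => by
    rw [hL, hL, map_mul (Algebra.lsmul k k (W j ⧸ W' j)), map_mul (Algebra.lsmul k k (W j ⧸ W' j)),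
      LinearMap.trace_mul_comm]
  have hLn : ∀ x, IsNilpotent x → L x = 0 := fun x hx => funext fun j => by
    rw [hL, Pi.zero_apply]
    exact (LinearMap.isNilpotent_trace_of_isNilpotent
      (hx.map (Algebra.lsmul k k (W j ⧸ W' j)))).eq_zero
  have hLB : ∀ x, L (S.eB * x) = L x := fun x => funext fun j => by
    rw [hL, hL, map_mul (Algebra.lsmul k k (W j ⧸ W' j))]
    have h1 : (Algebra.lsmul k k (W j ⧸ W' j) S.eB : Module.End k (W j ⧸ W' j)) = 1 := by
      refine LinearMap.ext fun m => ?_
      obtain ⟨m, rfl⟩ := Submodule.Quotient.mk_surjective _ m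
      rw [Module.End.one_apply]
      show S.eB • Submodule.Quotient.mk m = (Submodule.Quotient.mk m : W j ⧸ W' j)
      rw [← Submodule.Quotient.mk_smul]
      exact congrArg _ (Subtype.ext (hWB j _ m.2))
    rw [h1, one_mul]
  have hsurj : Function.Surjective L := by
    choose d hd using fun j => exists_trace_dual (k := k) (A := GA k G) (fun i => W i ⧸ W' i) hne j
    intro f
    refine ⟨∑ j, f j • d j, funext fun i => ?_⟩
    simp [map_sum, map_smul, hL, hd]
  set R := Submodule.span k (Set.range fun y : {y : G // ¬ p ∣ orderOf y} =>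
    S.eB * MonoidAlgebra.single (y : G) 1)
  have hLR : R.map L = ⊤ := by
    refine eq_top_iff.2 ?_
    rw [← LinearMap.range_eq_top.2 hsurj]
    rintro _ ⟨z, rfl⟩
    rw [← MonoidAlgebra.sum_coeff_single z, Finsupp.sum, map_sum]
    refine Submodule.sum_mem _ fun g _ => ?_
    rw [show (MonoidAlgebra.single g (z.coeff g) : GA k G) =
      z.coeff g • MonoidAlgebra.single g 1 by rw [MonoidAlgebra.smul_single, smul_eq_mul, mul_one],
      map_smul]
    refine Submodule.smul_mem _ _ ?_
    obtain ⟨x, y, hxy, hcom, ⟨m, hm⟩, hy⟩ := Blocks.exists_isPPart hp.out g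
    refine ⟨_, Submodule.subset_span ⟨⟨y, hy⟩, rfl⟩, ?_⟩
    haveI : CharP (GA k G) p := charP_of_injective_algebraMap
      (algebraMap k (GA k G)).injective p
    have hn : IsNilpotent (S.eB * MonoidAlgebra.single g 1 -
        S.eB * MonoidAlgebra.single y (1 : k)) := by
      have h1 : IsNilpotent (MonoidAlgebra.single x (1 : k) - 1) := by
        refine ⟨p ^ m, ?_⟩
        rw [sub_pow_char_pow_of_commute p m (Commute.one_right _), one_pow,
          MonoidAlgebra.single_pow, one_pow, ← hm, pow_orderOf_eq_one, MonoidAlgebra.one_def,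
          sub_self]
      have h2 : S.eB * MonoidAlgebra.single g 1 - S.eB * MonoidAlgebra.single y 1 =
          S.eB * MonoidAlgebra.single y 1 * (MonoidAlgebra.single x (1 : k) - 1) := by
        rw [mul_sub, mul_one, mul_assoc, MonoidAlgebra.single_mul_single, mul_one, ← hcom.eq, hxy]
      rw [h2]
      refine Commute.isNilpotent_mul_left ?_ h1
      refine Commute.sub_right ?_ (Commute.one_right _)
      refine Commute.mul_left (S.eB_comm _) ?_
      show MonoidAlgebra.single y (1 : k) * MonoidAlgebra.single x 1 =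
        MonoidAlgebra.single x 1 * MonoidAlgebra.single y 1
      rw [MonoidAlgebra.single_mul_single, MonoidAlgebra.single_mul_single, hcom.eq]
    have h3 := hLn _ hn
    rw [map_sub, sub_eq_zero, hLB] at h3
    exact h3.symm
  obtain ⟨sec, hsec⟩ := (classTrace k G).exists_rightInverse_of_surjective
    (LinearMap.range_eq_top.2 classTrace_surjective)
  have hfac : L = L.comp (sec.comp (classTrace k G)) := LinearMap.ext fun z => funext fun j => by
    have hz : classTrace k G (z - sec (classTrace k G z)) = 0 := by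
      rw [map_sub, sub_eq_zero]
      exact (LinearMap.congr_fun hsec _).symm
    have h4 := eq_zero_of_classTrace_eq_zero ((LinearMap.proj j).comp L)
      (fun a b => congrFun (hLc a b) j) hz
    rw [map_sub, sub_eq_zero] at h4
    exact h4
  calc S.e = Module.finrank k (Fin S.e → k) := by simp
    _ = Module.finrank k (R.map L) := by rw [hLR, finrank_top]
    _ ≤ _ := by
      rw [hfac, Submodule.map_comp, Submodule.map_comp, Submodule.map_span, ← Set.range_comp]
      exact (Submodule.finrank_map_le _ _).trans (Submodule.finrank_map_le _ _)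

end Serial

end CfsgLib.CyclicDefect
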