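import Cfsg.Agent.CyclicDefect.CosetSupp
import Mathlib.Algebra.CharP.Lemmas
import Mathlib.Algebra.CharP.Algebra
import Mathlib.FieldTheory.IsAlgClosed.Basic

/-!
# Normalising an intertwiner to have `e`-th power one
-/

set_option autoImplicit false
set_option linter.unusedSectionVars false
set_option linter.style.haveILetI false

namespace CfsgLib.CyclicDefect

open CfsgLib.BlockPairs

variable {k : Type*} [Field k] [IsAlgClosed k] {G : Type*} [Group G] [Finite G]

theorem inCos_pow {X : Subgroup G} {t : G} {z i : GA k G}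
    (ht : t ∈ Subgroup.normalizer (X : Set G)) (hz : InCos X t z) (hi : IsSupp X i) (l : ℕ) :
    InCos X (t ^ l) (z ^ l * i) := by
  induction l with
  | zero => rw [pow_zero, pow_zero, one_mul]; exact inCos_one.2 hi
  | succ l ih =>
    rw [pow_succ' z, mul_assoc, pow_succ' t]
    refine hz.mul ih fun x hx => ?_
    simpa using (Subgroup.mem_normalizer_iff.1 (inv_mem (pow_mem ht l)) x).1 hx

/-- An intertwiner can be scaled so that its `e`-th power is the identity of the corner. -/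
theorem exists_tau (p : ℕ) [hp : Fact p.Prime] [CharP k p] {X : Subgroup G} {t : G} {e n : ℕ} {i T τ₀ τ₀' : GA k G} {ζ : k}
    (ht : t ∈ Subgroup.normalizer (X : Set G)) (hte : t ^ e ∈ X) (he : (e : k) ≠ 0)
    (hn : 1 ≤ n) (hiX : IsSupp X i) (hTX : IsSupp X T) (hii : i * i = i) (hiT : i * T = T)
    (hTi : T * i = T) (hnil : T ^ n * i = 0) (htop : T ^ (n - 1) * i ≠ 0)
    (hspan : ∀ z : GA k G, IsSupp X z →
      i * z * i ∈ Submodule.span k (Set.range fun l : Fin n => T ^ (l : ℕ) * i))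
    (hτc : InCos X t τ₀) (hτc' : InCos X t⁻¹ τ₀') (hiτ : i * τ₀ = τ₀) (hτi : τ₀ * i = τ₀)
    (hiτ' : i * τ₀' = τ₀') (hτi' : τ₀' * i = τ₀') (hττ : τ₀ * τ₀' = i) (hτ'τ : τ₀' * τ₀ = i)
    (hτT : τ₀ * T = ζ • (T * τ₀)) :
    ∃ τ τ' : GA k G, InCos X t τ ∧ InCos X t⁻¹ τ' ∧ i * τ = τ ∧ τ * i = τ ∧ i * τ' = τ' ∧
      τ' * i = τ' ∧ τ * τ' = i ∧ τ' * τ = i ∧ τ ^ e * i = i ∧ τ * T = ζ • (T * τ) := by
  classical
  haveI : CharP (GA k G) p := charP_of_injective_algebraMap (algebraMap k (GA k G)).injective p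
  have he0 : e ≠ 0 := by rintro rfl; exact he Nat.cast_zero
  have hci : Commute i T := by
    show i * T = T * i
    rw [hiT, hTi]
  have hcτ : Commute i τ₀ := by
    show i * τ₀ = τ₀ * i
    rw [hiτ, hτi]
  have hcτ' : Commute i τ₀' := by
    show i * τ₀' = τ₀' * i
    rw [hiτ', hτi']
  have hcc : Commute τ₀ τ₀' := hττ.trans hτ'τ.symm
  set w := τ₀ ^ e * i
  have hwX : IsSupp X w :=
    inCos_one.1 (inCos_congr (by simpa using X.inv_mem hte) (inCos_pow ht hτc hiX e))
  have hiw : i * w * i = w := by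
    rw [← mul_assoc, (hcτ.pow_right e).eq, mul_assoc (τ₀ ^ e), hii, mul_assoc, hii]
  have hw : w ∈ Submodule.span k (Set.range fun l : Fin n => T ^ (l : ℕ) * i) := hiw ▸ hspan w hwX
  obtain ⟨c, hc⟩ := (Submodule.mem_span_range_iff_exists_fun k).1 hw
  set c₀ := c ⟨0, hn⟩
  set q : GA k G := ∑ l ∈ Finset.univ.filter (fun l : Fin n => (l : ℕ) ≠ 0),
    c l • (T ^ ((l : ℕ) - 1) * i)
  have hwq : w = c₀ • i + T * q := by
    rw [← hc, ← Finset.sum_filter_add_sum_filter_not Finset.univ (fun l : Fin n => (l : ℕ) ≠ 0),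
      add_comm]
    congr 1
    · rw [Finset.sum_eq_single ⟨0, hn⟩ (fun l hl hne => ?_) (by simp)]
      · simp [c₀]
      · simp only [Finset.mem_filter, Finset.mem_univ, true_and, not_not] at hl
        exact absurd (Fin.ext hl) hne
    · rw [Finset.mul_sum]
      refine Finset.sum_congr rfl fun l hl => ?_
      have hl' := (Finset.mem_filter.1 hl).2
      rw [mul_smul_comm, ← mul_assoc, ← pow_succ', Nat.sub_add_cancel (Nat.pos_of_ne_zero hl')]
  have hqi : i * q = q := by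
    rw [Finset.mul_sum]
    exact Finset.sum_congr rfl fun l _ => by
      rw [mul_smul_comm, ← mul_assoc, (hci.pow_right _).eq, mul_assoc, hii]
  have hTq : Commute T q := by
    show T * q = q * T
    rw [Finset.mul_sum, Finset.sum_mul]
    refine Finset.sum_congr rfl fun l _ => ?_
    rw [mul_smul_comm, smul_mul_assoc, ← mul_assoc, ← pow_succ', mul_assoc, hiT]
    conv_rhs => rw [← pow_succ]
    rw [pow_succ, mul_assoc, hTi]
  have hTqn : (T * q) ^ n = 0 := by
    obtain ⟨m, rfl⟩ := Nat.exists_eq_succ_of_ne_zero (by omega : n ≠ 0)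
    rw [hTq.mul_pow, pow_succ' q, ← mul_assoc (T ^ _), ← hqi, ← mul_assoc (T ^ _), hnil, zero_mul,
      zero_mul]
  have hTw : Commute T w := by
    rw [hwq]
    exact (hci.symm.smul_right c₀).add_right ((Commute.refl T).mul_right hTq)
  have hτw : Commute τ₀ w := ((Commute.refl τ₀).pow_right e).mul_right hcτ.symm
  have hτ'w : Commute τ₀' w := (hcc.symm.pow_right e).mul_right hcτ'.symm
  have hc0 : c₀ ≠ 0 := by
    intro h0
    rw [h0, zero_smul, zero_add] at hwq
    have hinv : w * (τ₀' ^ e * i) = i := by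
      show τ₀ ^ e * i * (τ₀' ^ e * i) = i
      rw [mul_assoc, ← mul_assoc i, (hcτ'.pow_right e).eq, mul_assoc (τ₀' ^ e), hii,
        ← mul_assoc, ← hcc.mul_pow, hττ]
      obtain ⟨m, rfl⟩ := Nat.exists_eq_succ_of_ne_zero he0
      rw [IsIdempotentElem.pow_succ_eq m hii, hii]
    have hc' : Commute w (τ₀' ^ e * i) :=
      (hτ'w.symm.pow_right e).mul_right ((hcτ.pow_right e).symm.mul_left (Commute.refl i))
    have h1 : (w * (τ₀' ^ e * i)) ^ n = 0 := by rw [hc'.mul_pow, hwq, hTqn, zero_mul]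
    rw [hinv] at h1
    obtain ⟨m, hm⟩ := Nat.exists_eq_succ_of_ne_zero (by omega : n ≠ 0)
    rw [hm, IsIdempotentElem.pow_succ_eq m hii] at h1
    exact htop (by rw [h1, mul_zero])
  set m := c₀⁻¹ • w - i
  have hm : m = T * (c₀⁻¹ • q) := by
    show c₀⁻¹ • w - i = _
    rw [hwq, smul_add, inv_smul_smul₀ hc0, add_sub_cancel_left, mul_smul_comm]
  have hmn : m ^ n = 0 := by
    rw [hm, mul_smul_comm, smul_pow, hTqn, smul_zero]
  have him : i * m = m := by rw [hm, ← mul_assoc, hiT]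
  have hcm : ∀ {z : GA k G}, Commute z w → Commute z i → Commute z m := fun hzw hzi =>
    (hzw.smul_right _).sub_right hzi
  obtain ⟨N, hN⟩ : ∃ N, n ≤ p ^ N := ⟨n, (Nat.lt_pow_self hp.out.one_lt).le⟩
  set u := 1 + m
  have hu : u ^ p ^ N = 1 := by
    show (1 + m) ^ p ^ N = 1
    rw [add_pow_char_pow_of_commute p N (Commute.one_left m), one_pow,
      pow_eq_zero_of_le hN hmn, add_zero]
  haveI : NeZero (p ^ N) := ⟨pow_ne_zero _ hp.out.ne_zero⟩
  set α := (-((e : ZMod (p ^ N))⁻¹)).val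
  have hα : p ^ N ∣ α * e + 1 := by
    rw [← ZMod.natCast_eq_zero_iff]
    push_cast
    rw [ZMod.natCast_zmod_val, neg_mul, ZMod.inv_mul_of_unit _
      ((ZMod.isUnit_iff_coprime _ _).2 (Nat.Coprime.pow_right _ ?_)), neg_add_cancel]
    exact (hp.out.coprime_iff_not_dvd.2 fun h => he ((CharP.cast_eq_zero_iff k p e).2 h)).symm
  obtain ⟨d, hd⟩ := IsAlgClosed.exists_pow_nat_eq c₀⁻¹ (Nat.pos_of_ne_zero he0)
  have hd0 : d ≠ 0 := by
    rintro rfl
    rw [zero_pow he0] at hd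
    exact inv_ne_zero hc0 hd.symm
  set α' := α * (p ^ N - 1)
  set s := d • u ^ α with hs
  set s' := d⁻¹ • u ^ α' with hs'
  have hss' : s * s' = 1 := by
    rw [hs, hs', smul_mul_smul_comm, mul_inv_cancel₀ hd0, one_smul, ← pow_add]
    have : α + α' = p ^ N * α := by
      have := pow_pos hp.out.pos N
      simp only [α']
      rw [Nat.mul_sub, mul_one, mul_comm (p ^ N), Nat.add_sub_cancel' (Nat.le_mul_of_pos_right _ this)]
    rw [this, pow_mul, hu, one_pow]
  have hs's : s' * s = 1 := by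
    rw [← hss', hs, hs', smul_mul_smul_comm, smul_mul_smul_comm, mul_comm d⁻¹,
      (Commute.pow_pow_self u α' α).eq]
  have hcu : ∀ {z : GA k G}, Commute z w → Commute z i → Commute z u := fun hzw hzi =>
    (Commute.one_right _).add_right (hcm hzw hzi)
  have hcs : ∀ {z : GA k G}, Commute z w → Commute z i → Commute z s ∧ Commute z s' :=
    fun hzw hzi => ⟨((hcu hzw hzi).pow_right _).smul_right _,
      ((hcu hzw hzi).pow_right _).smul_right _⟩
  have hiw' : Commute i w := (hcτ.pow_right e).mul_right (Commute.refl i)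
  obtain ⟨hτs, hτs'⟩ := hcs hτw hcτ.symm
  obtain ⟨hτ's, hτ's'⟩ := hcs hτ'w hcτ'.symm
  obtain ⟨hTs, -⟩ := hcs hTw hci.symm
  obtain ⟨his, his'⟩ := hcs hiw' (Commute.refl i)
  have huX : u ∈ sub X ⊥ := by
    refine add_mem (one_mem _) (sub_mem (Subalgebra.smul_mem _ ?_ _) ?_)
    · exact ⟨hwX, fun v hv => by rw [Subgroup.mem_bot.1 hv, conjA_one_left]⟩
    · exact ⟨hiX, fun v hv => by rw [Subgroup.mem_bot.1 hv, conjA_one_left]⟩
  have hsX : IsSupp X s := (mem_sub.1 (Subalgebra.smul_mem _ (pow_mem huX α) d)).1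
  have hs'X : IsSupp X s' := (mem_sub.1 (Subalgebra.smul_mem _ (pow_mem huX α') d⁻¹)).1
  refine ⟨τ₀ * s, τ₀' * s', ?_, ?_, ?_, ?_, ?_, ?_, ?_, ?_, ?_, ?_⟩
  · simpa using hτc.mul (inCos_one.2 hsX) fun x hx => by simpa using hx
  · simpa using hτc'.mul (inCos_one.2 hs'X) fun x hx => by simpa using hx
  · rw [← mul_assoc, hiτ]
  · rw [mul_assoc, ← his.eq, ← mul_assoc, hτi]
  · rw [← mul_assoc, hiτ']
  · rw [mul_assoc, ← his'.eq, ← mul_assoc, hτi']
  · rw [hτ's.symm.mul_mul_mul_comm, hττ, hss', mul_one]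
  · rw [hτs'.symm.mul_mul_mul_comm, hτ'τ, hs's, mul_one]
  · rw [hτs.mul_pow, mul_assoc, ← (his.pow_right e).eq, ← mul_assoc,
      show τ₀ ^ e * i = w from rfl, hs, smul_pow, ← pow_mul, hd, mul_smul_comm, ← smul_mul_assoc,
      show c₀⁻¹ • w = i * u by
        show c₀⁻¹ • w = i * (1 + m)
        rw [mul_add, mul_one, him]
        exact (add_sub_cancel i _).symm,
      mul_assoc, ← pow_succ']
    obtain ⟨l, hl⟩ := hα
    rw [hl, pow_mul, hu, one_pow, mul_one]
  · rw [mul_assoc, ← hTs.eq, ← mul_assoc, hτT, smul_mul_assoc, mul_assoc]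

end CfsgLib.CyclicDefect
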