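import Cfsg.Agent.BlockPairs.Defect
import Cfsg.Agent.BlockPairs.Block
import Mathlib.GroupTheory.Sylow
import Mathlib.GroupTheory.Index

/-!
# A block idempotent as a relative trace from a defect group
-/

set_option autoImplicit false
set_option linter.unusedSectionVars false
set_option linter.style.haveILetI false

namespace CfsgLib.CyclicDefect

open CfsgLib.BlockPairs

variable {F : Type*} [Field F] [IsAlgClosed F] {G : Type*} [Group G] [Finite G]
  {p : ℕ} [hp : Fact p.Prime] [CharP F p]

/-- The block idempotent is a relative trace of an element fixed by a defect group. -/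
theorem exists_trace_element {H D : Subgroup G} {b : GA F G} (hb : IsBlock H b)
    (hD : IsDefectGrp p H b D) :
    ∃ a : GA F G, IsSupp H a ∧ IsFixed D a ∧ b * a = a ∧
      ∀ f : Finset G, (∀ x ∈ f, x ∈ H) → (∀ x ∈ H, ∃! y, y ∈ f ∧ y⁻¹ * x ∈ D) →
        ∑ x ∈ f, conjA F x a = b := by
  classical
  obtain ⟨g, hg, hcoeff, hom⟩ := exists_class_omega_ne_zero hb hb.mem
    (by rw [omega_self hb]; exact one_ne_zero)
  obtain ⟨D₀, hD₀, hD₀p, hmax⟩ :=
    exists_sylow_le (p := p) (H ⊓ Subgroup.centralizer ({g} : Set G))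
  have hd₀ : IsDefectGrp p H b D₀ := exists_defectGrp_of_class hb hg hcoeff hom hD₀ hD₀p
    fun R hR hRp => by
      obtain ⟨c, hc, hle⟩ := hmax R hR hRp
      exact ⟨c, hc.1, hle⟩
  obtain ⟨h, hh, hcj⟩ := hD.conj_of hd₀
  set g' := h * g * h⁻¹
  have hg' : g' ∈ H := H.mul_mem (H.mul_mem hh hg) (H.inv_mem hh)
  set C := H ⊓ Subgroup.centralizer ({g'} : Set G)
  have hclass : classSum F H g' = classSum F H g := ga_ext fun x => by
    rw [classSum_coeff, classSum_coeff]
    refine if_congr ⟨?_, ?_⟩ rfl rfl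
    · rintro ⟨k, hk, rfl⟩
      exact ⟨k * h, H.mul_mem hk hh, by simp [g', mul_assoc]⟩
    · rintro ⟨k, hk, rfl⟩
      exact ⟨k * h⁻¹, H.mul_mem hk (H.inv_mem hh), by simp [g', mul_assoc]⟩
  have hmemC : ∀ y, y ∈ C ↔ h⁻¹ * y * h ∈ H ⊓ Subgroup.centralizer ({g} : Set G) := by
    intro y
    simp only [C, Subgroup.mem_inf, Subgroup.mem_centralizer_singleton_iff, g']
    refine and_congr ⟨fun hy => H.mul_mem (H.mul_mem (H.inv_mem hh) hy) hh, fun hy => ?_⟩ ?_
    · simpa [mul_assoc] using H.mul_mem (H.mul_mem hh hy) (H.inv_mem hh)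
    · constructor
      · intro he
        calc h⁻¹ * y * h * g = h⁻¹ * (y * (h * g * h⁻¹)) * h := by group
          _ = g * (h⁻¹ * y * h) := by rw [he]; group
      · intro he
        calc y * (h * g * h⁻¹) = h * (h⁻¹ * y * h * g) * h⁻¹ := by group
          _ = h * g * h⁻¹ * y := by rw [he]; group
  have hDC : D ≤ C := fun y hy => (hmemC y).2 (hD₀ (by rw [← hcj, mem_cj] at hy; exact hy))
  have hidx : ¬ p ∣ D.relIndex C := by
    intro hdvd
    obtain ⟨j, hj⟩ := IsPGroup.iff_card.1 hD.2.1
    have h1 : p ^ (j + 1) ∣ Nat.card C := by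
      rw [pow_succ, ← hj, ← Subgroup.index_mul_card (D.subgroupOf C), mul_comm (Nat.card D),
        Nat.card_congr (Subgroup.subgroupOfEquivOfLe hDC).toEquiv]
      exact mul_dvd_mul hdvd dvd_rfl
    obtain ⟨R, hR⟩ := Sylow.exists_subgroup_card_pow_prime (G := C) p h1
    set R' := R.map C.subtype
    have hR'C : R' ≤ C := Subgroup.map_subtype_le R
    have hR'p : IsPGroup p R' := (IsPGroup.of_card hR).map _
    have hR'c : Nat.card R' = p ^ (j + 1) := by
      rw [Subgroup.card_subtype, hR]
    obtain ⟨c, -, hle⟩ := hmax (cj h⁻¹ R') (fun y hy => by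
      rw [mem_cj, inv_inv] at hy
      simpa [mul_assoc] using (hmemC _).1 (hR'C hy)) (isPGroup_cj _ hR'p)
    have h2 := Subgroup.card_le_of_le hle
    rw [card_cj, card_cj, hR'c, ← card_cj h D₀, hcj, hj] at h2
    exact absurd h2 (not_le.2 (Nat.pow_lt_pow_right hp.out.one_lt (Nat.lt_succ_self j)))
  set c : F := (D.relIndex C : F)
  have hc : c ≠ 0 := fun h0 => hidx ((CharP.cast_eq_zero_iff F p _).1 h0)
  obtain ⟨u, hu, hue⟩ := exists_inv_of_omega_ne_zero hb (classSum_mem_sub hg) hom
  set a₀ : GA F G := c⁻¹ • (MonoidAlgebra.single g' 1 * u)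
  refine ⟨b * a₀, isSupp_mul hb.supp fun y hy => ?_, fun d hd => ?_, by rw [← mul_assoc, hb.idem],
    fun f hf hrep => ?_⟩
  · by_contra hyH
    refine hy ?_
    simp only [a₀, MonoidAlgebra.coeff_smul, Finsupp.smul_apply]
    rw [MonoidAlgebra.coeff_single_mul_apply, one_mul,
      (mem_sub.1 hu).1.coeff_eq_zero fun h' => hyH (by simpa using H.mul_mem hg' h'), smul_zero]
  · have hdH := hD.1 hd
    have hfix : conjA F d (MonoidAlgebra.single g' (1 : F)) = MonoidAlgebra.single g' 1 := by
      rw [conjA, MonoidAlgebra.single_mul_single, MonoidAlgebra.single_mul_single, mul_one, mul_one,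
        Subgroup.mem_centralizer_singleton_iff.1 (hDC hd).2, mul_inv_cancel_right]
    rw [conjA_mul, hb.fixed d hdH, conjA_smul, conjA_mul, hfix, (mem_sub.1 hu).2 d hdH]
  · have hsum : ∑ x ∈ f, conjA F x (MonoidAlgebra.single g' (1 : F)) = c • classSum F H g' := by
      refine ga_ext fun y => ?_
      simp only [conjA, MonoidAlgebra.single_mul_single, mul_one, MonoidAlgebra.coeff_sum,
        Finsupp.finsetSum_apply, MonoidAlgebra.coeff_single, Finsupp.single_apply,
        MonoidAlgebra.coeff_smul, Finsupp.smul_apply, classSum_coeff, smul_eq_mul]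
      rw [← Finset.sum_filter, Finset.sum_const, nsmul_one]
      split_ifs with hy
      · obtain ⟨k, hk, rfl⟩ := hy
        rw [mul_one]
        congr 1
        have hC : ∀ x ∈ H, (x * g' * x⁻¹ = k * g' * k⁻¹ ↔ k⁻¹ * x ∈ C) := by
          intro x hx
          rw [Subgroup.mem_inf, Subgroup.mem_centralizer_singleton_iff,
            and_iff_right (H.mul_mem (H.inv_mem hk) hx)]
          constructor
          · intro he
            calc k⁻¹ * x * g' = k⁻¹ * (x * g' * x⁻¹) * x := by group
              _ = g' * (k⁻¹ * x) := by rw [he]; group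
          · intro he
            calc x * g' * x⁻¹ = k * (k⁻¹ * x * g') * x⁻¹ := by group
              _ = k * g' * k⁻¹ := by rw [he]; group
        rw [Subgroup.relIndex, Subgroup.index_eq_card, ← Nat.card_eq_finsetCard]
        refine Nat.card_congr (Equiv.ofBijective (fun x => QuotientGroup.mk
          (⟨k⁻¹ * x.1, (hC x.1 (hf _ (Finset.mem_filter.1 x.2).1)).1
            (Finset.mem_filter.1 x.2).2⟩ : C)) ⟨fun x x' hxx => ?_, fun q => ?_⟩)
        · have hd := QuotientGroup.eq.1 hxx
          rw [Subgroup.mem_subgroupOf] at hd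
          have hd' : (x.1)⁻¹ * x'.1 ∈ D := by simpa [mul_assoc] using hd
          obtain ⟨z, -, huniq⟩ := hrep x'.1 (hf _ (Finset.mem_filter.1 x'.2).1)
          refine Subtype.ext ((huniq x.1 ⟨(Finset.mem_filter.1 x.2).1, hd'⟩).trans
            (huniq x'.1 ⟨(Finset.mem_filter.1 x'.2).1, by rw [inv_mul_cancel]; exact D.one_mem⟩).symm)
        · induction q using QuotientGroup.induction_on with
          | _ z =>
            obtain ⟨y, ⟨hyf, hyD⟩, -⟩ := hrep (k * (z : G)) (H.mul_mem hk z.2.1)
            have hyC : k⁻¹ * y ∈ C := by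
              have := C.mul_mem z.2 (C.inv_mem (hDC hyD))
              simpa [mul_assoc] using this
            refine ⟨⟨y, Finset.mem_filter.2 ⟨hyf, (hC y (hf _ hyf)).2 hyC⟩⟩, QuotientGroup.eq.2 ?_⟩
            rw [Subgroup.mem_subgroupOf]
            simpa [mul_assoc] using hyD
      · rw [Finset.filter_eq_empty_iff.2 fun x hx he => hy ⟨x, hf x hx, he⟩, Finset.card_empty,
          Nat.cast_zero, mul_zero]
    calc ∑ x ∈ f, conjA F x (b * a₀)
        = ∑ x ∈ f, b * c⁻¹ • (conjA F x (MonoidAlgebra.single g' 1) * u) :=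
          Finset.sum_congr rfl fun x hx => by
            rw [conjA_mul, hb.fixed x (hf x hx), conjA_smul, conjA_mul,
              (mem_sub.1 hu).2 x (hf x hx)]
      _ = b * (classSum F H g * u) := by
          rw [← Finset.mul_sum, ← Finset.smul_sum, ← Finset.sum_mul, hsum, smul_mul_assoc,
            inv_smul_smul₀ hc, hclass]
      _ = b := by rw [hue, hb.idem]

end CfsgLib.CyclicDefect
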