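import Cfsg.Agent.CyclicDefect.LocalBase
import Cfsg.Agent.CyclicDefect.CornerEigen
import Cfsg.Agent.CyclicDefect.TauNorm
import Cfsg.Agent.CyclicDefect.TraceElement
import Cfsg.Agent.CyclicDefect.Simples

/-!
# The setting exists for every block with a nontrivial cyclic defect group

`exists_setup`: from a maximal pair on a cyclic defect group, the centralizer of the subgroup of
order `p`, its nilpotent block, the element generating the inertial quotient and, through the
serial data, the bound `e ≤ l(B)`.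
-/

set_option autoImplicit false
set_option linter.unusedSectionVars false
set_option linter.style.haveILetI false

namespace CfsgLib.CyclicDefect

open Cfsg CfsgLib.BlockPairs CfsgLib.Star MonoidAlgebra
open CfsgLib.Blocks (Res overSet isBlockUnion_of_isPBlock omegaBar idemBar resCtr)

universe u

/-- The corner of the group as a corner inside the larger group, with a normalized intertwiner. -/
theorem exists_corner_global {k : Type*} [Field k] [IsAlgClosed k] {G : Type u} [Group G] [Finite G]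
    (p : ℕ) [Fact p.Prime] [CharP k p] {X : Subgroup G} {t : G}
    (htNX : t ∈ Subgroup.normalizer (X : Set G)) {e n : ℕ} (hte : t ^ e ∈ X) (he : (e : k) ≠ 0)
    (hn : 1 ≤ n) (r : ℕ) {i T y' x' : GA k X} (hii : i * i = i) (hiT : i * T = T) (hTi : T * i = T)
    (hnil : T ^ n * i = 0) (htop : T ^ (n - 1) * i ≠ 0)
    (hspan : ∀ z, i * z * i ∈ Submodule.span k (Set.range fun l : Fin n => T ^ (l : ℕ) * i))
    (hiy : i * y' = y') (hyi : y' * emb (cjAut htNX).toMonoidHom i = y')
    (hix : emb (cjAut htNX).toMonoidHom i * x' = x') (hxi : x' * i = x')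
    (hxy : x' * y' = emb (cjAut htNX).toMonoidHom i) (hyx : y' * x' = i)
    (hτT : y' * emb (cjAut htNX).toMonoidHom T * x' = (r : k) • T) :
    (emb X.subtype T ^ n * emb X.subtype i = 0 ∧
      emb X.subtype T ^ (n - 1) * emb X.subtype i ≠ 0 ∧
      ∀ z : GA k G, IsSupp X z → emb X.subtype i * z * emb X.subtype i ∈
        Submodule.span k (Set.range fun l : Fin n => emb X.subtype T ^ (l : ℕ) * emb X.subtype i)) ∧
    ∃ τ τ' : GA k G, InCos X t τ ∧ InCos X t⁻¹ τ' ∧ emb X.subtype i * τ = τ ∧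
      τ * emb X.subtype i = τ ∧ emb X.subtype i * τ' = τ' ∧ τ' * emb X.subtype i = τ' ∧
      τ * τ' = emb X.subtype i ∧ τ' * τ = emb X.subtype i ∧
      τ ^ e * emb X.subtype i = emb X.subtype i ∧
      τ * emb X.subtype T = (r : k) • (emb X.subtype T * τ) := by
  set E := emb (k := k) X.subtype with hE
  have hEα : ∀ z : GA k X, E (emb (cjAut htNX).toMonoidHom z) = conjA k t (E z) := fun z => by
    rw [hE, emb_cjAut]
  have hst : ∀ z : GA k G, single t (1 : k) * z = conjA k t z * single t 1 :=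
    conjA_eq_mul t
  have hst' : ∀ z : GA k G, z * single t⁻¹ (1 : k) =
      single t⁻¹ 1 * conjA k t z := fun z => by
    rw [conjA, ← mul_assoc, ← mul_assoc, single_mul_single, inv_mul_cancel, mul_one,
      ← MonoidAlgebra.one_def, one_mul]
  have hs1 : single t (1 : k) * single t⁻¹ 1 = 1 := by
    rw [single_mul_single, mul_inv_cancel, mul_one, MonoidAlgebra.one_def]
  have hs2 : single t⁻¹ (1 : k) * single t 1 = 1 := by
    rw [single_mul_single, inv_mul_cancel, mul_one, MonoidAlgebra.one_def]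
  set τ₀ := E y' * single t (1 : k) with hτ₀
  set τ₀' := single t⁻¹ (1 : k) * E x' with hτ₀'
  have hspanG : ∀ z : GA k G, IsSupp X z → E i * z * E i ∈
      Submodule.span k (Set.range fun l : Fin n => E T ^ (l : ℕ) * E i) := by
    intro z hz
    obtain ⟨z', rfl⟩ := exists_emb_supp hz
    obtain ⟨co, hco⟩ := (Submodule.mem_span_range_iff_exists_fun k).1 (hspan z')
    rw [Submodule.mem_span_range_iff_exists_fun]
    refine ⟨co, ?_⟩
    have hsm : ∀ (s : k) (w : GA k X), E (s • w) = s • E w := fun s w => by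
      rw [hE]
      induction w using MonoidAlgebra.induction_linear with
      | zero => simp
      | add a b ha hb => rw [smul_add, map_add, map_add, ha, hb, smul_add]
      | single g b => rw [MonoidAlgebra.smul_single, emb_subtype_single, emb_subtype_single,
          MonoidAlgebra.smul_single]
    rw [← map_mul, ← map_mul, ← hco, map_sum]
    exact Finset.sum_congr rfl fun l _ => by rw [hsm, map_mul, map_pow]
  have hinj : ∀ w : GA k X, E w = 0 → w = 0 := fun w h =>
    emb_injective X.subtype_injective (h.trans (map_zero _).symm)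
  have hnilG : E T ^ n * E i = 0 := by rw [← map_pow, ← map_mul, hnil, map_zero]
  have htopG : E T ^ (n - 1) * E i ≠ 0 := by
    rw [← map_pow, ← map_mul]
    exact fun h => htop (hinj _ h)
  have hT' : τ₀ * E T = (r : k) • (E T * τ₀) := by
    have h1 : y' * emb (cjAut htNX).toMonoidHom T = (r : k) • (T * y') := by
      calc y' * emb (cjAut htNX).toMonoidHom T = y' * (emb (cjAut htNX).toMonoidHom T * emb (cjAut htNX).toMonoidHom i) := by
            rw [← map_mul, hTi]
        _ = y' * emb (cjAut htNX).toMonoidHom T * x' * y' := by rw [← hxy]; simp only [mul_assoc]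
        _ = _ := by rw [hτT, smul_mul_assoc]
    have hsm : E ((r : k) • (T * y')) = (r : k) • E (T * y') := by
      rw [Nat.cast_smul_eq_nsmul, Nat.cast_smul_eq_nsmul, map_nsmul]
    rw [hτ₀, mul_assoc, hst, ← hEα, ← mul_assoc, ← map_mul, h1, hsm, smul_mul_assoc, map_mul,
      mul_assoc]
  have hτc : InCos X t τ₀ := by
    simpa using (inCos_one.2 (isSupp_emb y')).mul (inCos_single (X := X) t (1 : k)) fun x hx =>
      (Subgroup.mem_normalizer_iff''.1 htNX x).1 hx
  have hτc' : InCos X t⁻¹ τ₀' := by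
    simpa using (inCos_single (X := X) t⁻¹ (1 : k)).mul (inCos_one.2 (isSupp_emb x'))
      (fun x hx => by simpa using hx)
  refine ⟨⟨hnilG, htopG, hspanG⟩, ?_⟩
  exact exists_tau p (X := X) (t := t) (e := e) (n := n) (i := E i) (T := E T) (τ₀ := τ₀)
      (τ₀' := τ₀') (ζ := (r : k)) htNX hte he hn (isSupp_emb i)
      (isSupp_emb T) (by rw [← map_mul, hii]) (by rw [← map_mul, hiT]) (by rw [← map_mul, hTi])
      hnilG htopG hspanG hτc hτc'
      (by rw [hτ₀, ← mul_assoc, ← map_mul, hiy])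
      (by rw [hτ₀, mul_assoc, hst, ← hEα, ← mul_assoc, ← map_mul, hyi])
      (by rw [hτ₀', ← mul_assoc, hst', ← hEα, mul_assoc, ← map_mul, hix])
      (by rw [hτ₀', mul_assoc, ← map_mul, hxi])
      (by rw [hτ₀, hτ₀', mul_assoc, ← mul_assoc (single t (1 : k)), hs1, one_mul, ← map_mul,
        hyx])
      (by rw [hτ₀, hτ₀', mul_assoc, ← mul_assoc (E x'), ← map_mul, hxy, hEα, ← hst, ← mul_assoc,
        hs2, one_mul])
      hT'

variable {G : Type u} [Group G] [Fintype G] {M : Ideal AlgInt} [M.IsPrime] {p : ℕ}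
  [hp : Fact p.Prime] [CharP (Res M) p] [IsAlgClosed (Res M)]

set_option maxHeartbeats 1600000 in
/-- The setting for a block with nontrivial cyclic defect group. -/
theorem exists_setup (hM : Cfsg.IsPModular p M) {B : Set (IrrCharacter G)} (hB : Cfsg.IsPBlock M B)
    {D : Subgroup G} {eD : GA (Res M) G} (hmax : IsMaxPair p (⊤ : Subgroup G) (gblk M B) D eD)
    (hcyc : IsCyclic D) {a : ℕ} (ha : 1 ≤ a) (hDa : Nat.card D = p ^ a) :
    ∃ S : Setup p M G B,
      S.e = (Subgroup.centralizer (D : Set G)).relIndex (stab ⊤ D eD) ∧ S.a = a ∧ S.D = D := by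
  classical
  have hb : IsBlock (⊤ : Subgroup G) (gblk M B) := isBlock_gblk hB
  have hab := InertialQuotient.le_centralizer_of_cyclic hcyc
  set T := stab ⊤ D eD
  -- the generator and the subgroup of order `p`
  obtain ⟨v, hv⟩ : ∃ v : G, Subgroup.zpowers v = D := by
    obtain ⟨w, hw⟩ := hcyc.exists_generator
    refine ⟨w, le_antisymm (Subgroup.zpowers_le.2 w.2) fun y hy => ?_⟩
    obtain ⟨i, hi⟩ := hw ⟨y, hy⟩
    exact ⟨i, congrArg Subtype.val hi⟩
  have hvD : v ∈ D := hv ▸ Subgroup.mem_zpowers v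
  have hov : orderOf v = p ^ a := by rw [← Nat.card_zpowers, hv, hDa]
  set u := v ^ p ^ (a - 1) with hudef
  set U := Subgroup.zpowers u with hUdef
  have huD : u ∈ D := pow_mem hvD _
  have hUD : U ≤ D := Subgroup.zpowers_le.2 huD
  have hou : orderOf u = p := by
    rw [hudef, orderOf_pow_of_dvd (pow_ne_zero _ hp.out.ne_zero)
      (hov ▸ pow_dvd_pow p (Nat.sub_le a 1)), hov, Nat.pow_div (Nat.sub_le a 1) hp.out.pos,
      show a - (a - 1) = 1 by omega, pow_one]
  have hUcard : Nat.card U = p := by rw [hUdef, Nat.card_zpowers, hou]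
  have hu1 : u ≠ 1 := fun h => hp.out.ne_one (by rw [← hou, h, orderOf_one])
  have hsmall : ∀ z ∈ D, z ^ p = 1 → z ∈ U := by
    intro z hz hzp
    rw [← hv] at hz
    obtain ⟨i, rfl⟩ := hz
    have hzp' : v ^ (i * (p : ℤ)) = 1 := by rw [zpow_mul, zpow_natCast]; exact hzp
    rw [← orderOf_dvd_iff_zpow_eq_one, hov, show p ^ a = p ^ (a - 1) * p by
      rw [← pow_succ, Nat.sub_add_cancel ha], Nat.cast_mul] at hzp'
    obtain ⟨j, rfl⟩ := Int.dvd_of_mul_dvd_mul_right (Int.natCast_ne_zero.2 hp.out.ne_zero) hzp'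
    exact ⟨j, by simp [hudef, ← zpow_natCast, ← zpow_mul]⟩
  have hgenU : ∀ z ∈ U, z ≠ 1 → Subgroup.zpowers z = U := by
    intro z hz hz1
    refine Subgroup.eq_of_le_of_card_ge (Subgroup.zpowers_le.2 hz) ?_
    rw [hUcard, Nat.card_zpowers]
    obtain h | h := (Nat.dvd_prime hp.out).1 (hUcard ▸ Subgroup.orderOf_dvd_natCard U hz)
    · exact absurd (orderOf_eq_one_iff.1 h) hz1
    · exact h.ge
  have hkey : ∀ d ∈ D, d ≠ 1 → ∃ z : G, z ∈ Subgroup.zpowers d ∧ z ∈ U ∧ z ≠ 1 := by
    intro d hd hd1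
    obtain ⟨j, -, hj⟩ := (Nat.dvd_prime_pow hp.out).1
      (hDa ▸ Subgroup.orderOf_dvd_natCard D hd)
    have hj0 : j ≠ 0 := fun h0 => hd1 (orderOf_eq_one_iff.1 (by rw [hj, h0, pow_zero]))
    refine ⟨d ^ p ^ (j - 1), pow_mem (Subgroup.mem_zpowers d) _, hsmall _ (pow_mem hd _) ?_,
      fun h => ?_⟩
    · rw [← pow_mul, ← pow_succ, Nat.sub_add_cancel (by omega : 1 ≤ j), ← hj, pow_orderOf_eq_one]
    · have := orderOf_dvd_of_pow_eq_one h
      rw [hj, Nat.pow_dvd_pow_iff_le_right hp.out.one_lt] at this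
      omega
  set X := Subgroup.centralizer (U : Set G) with hXdef
  set N := Subgroup.normalizer (U : Set G) with hNdef
  letI : Fintype X := Fintype.ofFinite X
  have hDX : D ≤ X := InertialQuotient.le_centralizer_of_le hab hUD
  have hXN : X ≤ N := Subgroup.centralizer_le_normalizer _
  have hNX : N ≤ Subgroup.normalizer (X : Set G) := normalizer_le_normalizer_centralizer U
  have hcent : ∀ d ∈ D, d ≠ 1 → Subgroup.centralizer ({d} : Set G) ≤ X := by
    intro d hd hd1 g hg
    obtain ⟨z, hz, hzU, hz1⟩ := hkey d hd hd1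
    rw [hXdef, ← hgenU z hzU hz1, InertialQuotient.centralizer_zpowers,
      Subgroup.mem_centralizer_singleton_iff]
    obtain ⟨i, rfl⟩ := hz
    exact ((show Commute g d from Subgroup.mem_centralizer_singleton_iff.1 hg).zpow_right i).eq
  have hfree : ∀ g : G, ∀ d ∈ D, d ≠ 1 → g * d * g⁻¹ ∈ D → g ∈ N := by
    intro g d hd hd1 hgd
    obtain ⟨z, hz, hzU, hz1⟩ := hkey d hd hd1
    refine mem_normalizer_of_cj_eq ?_
    have hgz : g * z * g⁻¹ ∈ U := by
      obtain ⟨i, rfl⟩ := hz
      refine hsmall _ ?_ ?_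
      · rw [← conj_zpow]; exact zpow_mem hgd i
      · rw [conj_pow, show (d ^ i) ^ p = 1 by
          rw [← hUcard]
          exact orderOf_dvd_iff_pow_eq_one.1 (Subgroup.orderOf_dvd_natCard U hzU),
          mul_one, mul_inv_cancel]
    conv_lhs => rw [← hgenU z hzU hz1]
    rw [cj_zpowers]
    exact hgenU _ hgz fun h => hz1 (conj_eq_one_iff.1 h)
  have hTN : T ≤ N := fun g hg => hfree g u huD hu1
    ((Subgroup.mem_normalizer_iff.1 (stab_le_normalizer hg) u).1 huD)
  -- the block of `X`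
  obtain ⟨f, hpair, hle⟩ := exists_below hmax.1.1 hUD
  have hfb : IsBlock X f := isBlock_centralizer hpair
  have hmaxX : IsMaxPair p X f D eD := InertialQuotient.defect_centralizer hb hmax hab hle
  obtain ⟨c, hc, hfc⟩ := exists_eq_sblk (M := M) hfb
  have hhasU : br U (gblk M B) * f = f := (mem_blockHas_of_le hb hmax hle).2.2
  have hfix : ∀ g ∈ T, conjA (Res M) g f = f := by
    intro g hg
    have h := hle.conjA (Subgroup.mem_top g)
    rw [cj_eq_self (show g ∈ Subgroup.normalizer (U : Set G) from hTN hg),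
      cj_eq_self (stab_le_normalizer hg), hg.2] at h
    exact le_unique h hle
  have hstabf : ∀ g ∈ N, conjA (Res M) g f = f → ∃ x ∈ X, x * g ∈ T := by
    intro g hg hgf
    have h := hle.conjA (Subgroup.mem_top g)
    rw [cj_eq_self (show g ∈ Subgroup.normalizer (U : Set G) from hg), hgf] at h
    have hmax' := hmax.conjA hb (Subgroup.mem_top g)
    have hcyc' : IsCyclic (cj g D) := by
      rw [← hv, cj_zpowers]; infer_instance
    have hmaxX' : IsMaxPair p X f (cj g D) (conjA (Res M) g eD) :=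
      InertialQuotient.defect_centralizer hb hmax' (InertialQuotient.le_centralizer_of_cyclic hcyc') h
    obtain ⟨x, hx, hxD, hxe⟩ := maxPairs_conj hfb hmaxX hmaxX'
    refine ⟨x, hx, ⟨trivial, mem_normalizer_of_cj_eq (by rw [← cj_cj, hxD])⟩, ?_⟩
    show conjA (Res M) (x * g) eD = eD
    rw [← conjA_conjA, hxe]
  -- the inertial quotient
  have hTC : T ≤ Subgroup.normalizer ((Subgroup.centralizer (D : Set G) : Subgroup G) : Set G) :=
    stab_le_normalizer.trans (normalizer_le_normalizer_centralizer D)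
  haveI hnorm : ((Subgroup.centralizer (D : Set G)).subgroupOf T).Normal := by
    constructor
    intro n hn g
    rw [Subgroup.mem_subgroupOf] at hn ⊢
    simpa using (Subgroup.mem_normalizer_iff.1 (hTC g.2) _).1 hn
  have hD1 : D ≠ ⊥ := fun h => hu1 (Subgroup.mem_bot.1 (h ▸ huD))
  obtain ⟨hquot, hediv⟩ := InertialQuotient.cyclic_quotient hb hmax hcyc hD1
  set e := (Subgroup.centralizer (D : Set G)).relIndex T with he
  obtain ⟨q, hq⟩ := hquot.exists_generator
  obtain ⟨t', rfl⟩ := QuotientGroup.mk_surjective q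
  set t := (t' : G) with htdef
  have htT : t ∈ T := t'.2
  have hoq : orderOf (QuotientGroup.mk t' : T ⧸ (Subgroup.centralizer (D : Set G)).subgroupOf T) =
      e := by
    rw [orderOf_eq_card_of_forall_mem_zpowers hq, he, Subgroup.relIndex, Subgroup.index_eq_card]
  have he_pos : 0 < e := hoq ▸ orderOf_pos _
  have htC : ∀ l : ℕ, t ^ l ∈ Subgroup.centralizer (D : Set G) ↔ e ∣ l := by
    intro l
    rw [← hoq, orderOf_dvd_iff_pow_eq_one, ← QuotientGroup.mk_pow, QuotientGroup.eq_one_iff,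
      Subgroup.mem_subgroupOf, SubmonoidClass.coe_pow]
  have htX : ∀ l : ℕ, t ^ l ∈ X ↔ e ∣ l := by
    intro l
    rw [← htC]
    refine ⟨fun h => InertialQuotient.free_of_cyclic hb hmax hcyc (pow_mem htT l) huD hu1 ?_,
      fun h => Subgroup.centralizer_le (SetLike.coe_subset_coe.2 hUD) h⟩
    rw [← Subgroup.mem_centralizer_iff.1 h u (Subgroup.mem_zpowers u), mul_inv_cancel_right]
  have hTdec : ∀ g ∈ T, ∃ l < e, (t ^ l)⁻¹ * g ∈ Subgroup.centralizer (D : Set G) := by
    intro g hg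
    obtain ⟨l, hl⟩ := (isOfFinOrder_of_finite _).mem_powers_iff_mem_zpowers.2
      (hq (QuotientGroup.mk (⟨g, hg⟩ : T)))
    refine ⟨l % e, Nat.mod_lt _ he_pos, ?_⟩
    have h1 : (QuotientGroup.mk (t' ^ (l % e)) :
        T ⧸ (Subgroup.centralizer (D : Set G)).subgroupOf T) = QuotientGroup.mk (⟨g, hg⟩ : T) := by
      rw [QuotientGroup.mk_pow, ← hoq, pow_mod_orderOf]
      exact hl
    have h2 := QuotientGroup.eq.1 h1
    rw [Subgroup.mem_subgroupOf] at h2
    simpa using h2
  have hNdec : ∀ g ∈ N, conjA (Res M) g f = f → ∃ l < e, (t ^ l)⁻¹ * g ∈ X := by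
    intro g hg hgf
    obtain ⟨x, hx, hxg⟩ := hstabf g hg hgf
    obtain ⟨l, hl, hlC⟩ := hTdec _ hxg
    refine ⟨l, hl, ?_⟩
    have h1 : (t ^ l)⁻¹ * x⁻¹ * (t ^ l) ∈ X :=
      (Subgroup.mem_normalizer_iff''.1 (hNX (pow_mem (hTN htT) l)) _).1 (X.inv_mem hx)
    have h2 := X.mul_mem h1 (Subgroup.centralizer_le (SetLike.coe_subset_coe.2 hUD) hlC)
    simpa [mul_assoc] using h2
  obtain ⟨r, hr⟩ := InertialQuotient.exists_conj_pow hv (stab_le_normalizer htT)
  have hrl : ∀ l : ℕ, ∀ x ∈ D, t ^ l * x * (t ^ l)⁻¹ = x ^ (r ^ l) := by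
    intro l
    induction l with
    | zero => simp
    | succ l ih =>
      intro x hx
      rw [pow_succ' t, show t * t ^ l * x * (t * t ^ l)⁻¹ = t * (t ^ l * x * (t ^ l)⁻¹) * t⁻¹ by
        group, ih x hx, hr _ (pow_mem hx _), ← pow_mul, pow_succ]
  have hrmod : ∀ l : ℕ, r ^ l ≡ 1 [MOD p] ↔ e ∣ l := by
    intro l
    rw [← htX, ← hou, ← pow_eq_pow_iff_modEq, pow_one, ← hrl l u huD, mul_inv_eq_iff_eq_mul,
      hXdef, InertialQuotient.centralizer_zpowers, Subgroup.mem_centralizer_singleton_iff]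
  have hre : r ^ e ≡ 1 [MOD p ^ a] := by
    rw [← hov, ← pow_eq_pow_iff_modEq, pow_one, ← hrl e v hvD, mul_inv_eq_iff_eq_mul]
    exact (Subgroup.mem_centralizer_iff.1 ((htC e).2 dvd_rfl) v hvD).symm
  have hr0 : r ≠ 0 := by
    rintro rfl
    rw [zero_pow he_pos.ne', Nat.modEq_iff_dvd' (Nat.zero_le 1)] at hre
    have h1 := Nat.le_of_dvd one_pos hre
    have h2 := Nat.one_lt_pow (n := a) (by omega) hp.out.one_lt
    omega
  have hpn : p ∣ p ^ a := dvd_pow_self p (by omega)
  -- `X` as a group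
  obtain ⟨eP, hePe⟩ : ∃ eP, emb X.subtype eP = eD := by
    refine exists_emb_supp (hmaxX.1.1.2.2.supp.mono inf_le_left)
  have hfX : emb X.subtype (gblk M c) = f := by rw [emb_gblk, hfc]
  have hmax' : IsMaxPair p (⊤ : Subgroup X) (gblk M c) (D.subgroupOf X) eP :=
    isMaxPair_sub hfX hePe hfb hmaxX hDX
  have hinf : stab ⊤ D eD ⊓ Subgroup.centralizer (U : Set G) ≤
      Subgroup.centralizer (D : Set G) := fun g hg =>
    InertialQuotient.free_of_cyclic hb hmax hcyc hg.1 huD hu1 (by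
      rw [← Subgroup.mem_centralizer_iff.1 hg.2 u (Subgroup.mem_zpowers u), mul_inv_cancel_right])
  have hnilp : Nilp p (⊤ : Subgroup X) (gblk M c) :=
    nilp_sub hfX (InertialQuotient.nilp_of_inertial_inf hb hmax hab hle hinf)
  have hgen : Subgroup.zpowers (⟨v, hDX hvD⟩ : X) = D.subgroupOf X := by
    refine Subgroup.map_injective X.subtype_injective ?_
    rw [MonoidHom.map_zpowers, Subgroup.map_subgroupOf_eq_of_le hDX]
    exact hv
  obtain ⟨χ₀, hχ₀, hht⟩ := CfsgLib.Blocks.exists_height_zero (p := p) hM hc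
  let 𝒩₀ : Nil p M X :=
    { mod := hM, B := c, block := hc, P := D.subgroupOf X, eP := eP, max := hmax', nilp := hnilp,
      v := ⟨v, hDX hvD⟩, gen := hgen, χ := χ₀, mem := hχ₀, height := hht }
  have hn₀ : 𝒩₀.n = p ^ a := by
    rw [Nil.n, ← hDa]
    exact Nat.card_congr (Subgroup.subgroupOfEquivOfLe hDX).toEquiv
  have hunit : ∀ l : ℕ, ¬ e ∣ l → IsUnit ((r : ZMod 𝒩₀.n) ^ l - 1) := by
    intro l hl
    have h1 : 1 ≤ r ^ l := Nat.one_le_pow _ _ (Nat.pos_of_ne_zero hr0)
    rw [← Nat.cast_pow, ← Nat.cast_one, ← Nat.cast_sub h1, ZMod.isUnit_iff_coprime, hn₀]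
    refine Nat.Coprime.pow_right _ (hp.out.coprime_iff_not_dvd.2 fun hdvd => hl ?_).symm
    rw [← hrmod, Nat.ModEq.comm, Nat.modEq_iff_dvd' h1]
    exact hdvd
  set α := cjAut (hNX (hTN htT)) with hα
  have hαv : α 𝒩₀.v = 𝒩₀.v ^ r := Subtype.ext (by
    rw [hα, cjAut_coe, SubmonoidClass.coe_pow]
    exact hr v hvD)
  have hαP : Subgroup.zpowers (𝒩₀.v ^ r) = 𝒩₀.P := by
    rw [← 𝒩₀.gen]
    refine Subgroup.eq_of_le_of_card_ge (Subgroup.zpowers_le.2 (pow_mem (Subgroup.mem_zpowers _) r)) ?_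
    rw [Nat.card_zpowers, Nat.card_zpowers, ← hαv, MulEquiv.orderOf_eq]
  have hαe : emb α.toMonoidHom 𝒩₀.eP = 𝒩₀.eP := by
    refine emb_injective X.subtype_injective ?_
    rw [hα, emb_cjAut]
    exact (congrArg _ hePe).trans (htT.2.trans hePe.symm)
  have hcfix : ∀ g ∈ T, ∀ hg : g ∈ Subgroup.normalizer (X : Set G), imageSet (cjAut hg) c = c :=
    fun g hgT hg => imageSet_eq_of_fix hg hc (by rw [← hfc]; exact hfix g hgT)
  have hclos : ∀ φ ∈ c, irrComp α φ ∈ c := fun φ hφ => by
    have := hcfix t htT (hNX (hTN htT))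
    rw [← this] at hφ
    exact hφ
  have hαB : ∀ φ ∈ 𝒩₀.B, ∃ φ' ∈ 𝒩₀.B, (φ' : X → ℂ) = (φ : X → ℂ) ∘ α := fun φ hφ =>
    ⟨irrComp α φ, hclos φ hφ, rfl⟩
  obtain ⟨χ, hχc, hχh, hχfix⟩ : ∃ χ : IrrCharacter X, χ ∈ c ∧
      Cfsg.blockHeight p c (χ : X → ℂ) = 0 ∧ (χ : X → ℂ) ∘ α = (χ : X → ℂ) := by
    by_cases he1 : t ∈ X
    · refine ⟨χ₀, hχ₀, hht, funext fun x => ?_⟩
      rw [Function.comp_apply, show α x = (⟨t, he1⟩ : X) * x * (⟨t, he1⟩ : X)⁻¹ from
        Subtype.ext (by rw [hα, cjAut_coe]; rfl)]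
      exact Characters.isClassFunction_of_isIrr χ₀.2 _ _
    · have hu' := hunit 1 fun h1 => he1 (by simpa using (htX 1).2 h1)
      rw [pow_one] at hu'
      obtain ⟨j, hj⟩ := 𝒩₀.exists_fixed α hαv hαP hαe hαB hu'
      exact ⟨𝒩₀.xi j, 𝒩₀.xi_mem j, 𝒩₀.xi_height j, hj⟩
  let 𝒩 : Nil p M X := { 𝒩₀ with χ := χ, mem := hχc, height := hχh }
  have hn : 𝒩.n = p ^ a := hn₀
  have hxi : ∀ j, (𝒩.xi j : X → ℂ) ∘ α = (𝒩.xi (r * j) : X → ℂ) :=
    𝒩.xi_comp α hαv hαP hαe hαB hχfix
  have hrn : (r : ZMod 𝒩.n) ^ e = 1 := by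
    rw [← Nat.cast_pow, ← Nat.cast_one, ZMod.natCast_eq_natCast_iff, hn]
    exact hre
  -- the serial data
  have hek : ((e : ℕ) : Res M) ≠ 0 := by
    rw [Ne, CharP.cast_eq_zero_iff (Res M) p]
    intro hdvd
    have h1 := Nat.le_of_dvd he_pos hdvd
    have h2 := hp.out.two_le
    have h3 := Nat.le_of_dvd (by omega) hediv
    omega
  have hrk : ∀ l, ((r : Res M)) ^ l = 1 ↔ e ∣ l := fun l => by
    rw [← hrmod, ← Nat.cast_pow, ← Nat.cast_one, CharP.natCast_eq_natCast (Res M) p]
  have hζ0 : (r : Res M) ≠ 0 := fun h => by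
    have := (hrk e).2 dvd_rfl
    rw [h, zero_pow he_pos.ne'] at this
    exact zero_ne_one this
  have hn2 : 2 ≤ 𝒩.n := by
    rw [hn]
    exact Nat.succ_le_of_lt (Nat.one_lt_pow (by omega) hp.out.one_lt)
  have hαb : emb α.toMonoidHom (gblk M c) = gblk M c := by
    refine emb_injective X.subtype_injective ?_
    rw [hα, emb_cjAut, hfX, hfix t htT]
  obtain ⟨i, m, x, y, τT, y', x', hii, hbi, hframe, hiT, hTi, hnil, htop, hspan, ⟨hiy, hyi⟩,
    ⟨hix, hxi'⟩, hxy, hyx, hτT⟩ := 𝒩.exists_corner α hn2 hek hrn hζ0 hxi hαb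
  obtain ⟨⟨hnilG, htopG, hspanG⟩, τ, τ', hc1, hc2, hi1, hi2, hi3, hi4, hττ, hτ'τ, hpow, hτTn⟩ :=
    exists_corner_global p (X := X) (t := t) (hNX (hTN htT)) (e := e) (n := 𝒩.n)
      ((htX e).2 dvd_rfl) hek (by omega) r hii hiT hTi hnil htop hspan hiy hyi hix hxi' hxy hyx hτT
  have htNX : t ∈ Subgroup.normalizer (X : Set G) := hNX (hTN htT)
  set E := emb (k := Res M) X.subtype with hE
  obtain ⟨aT, haT, haD, hba, hatr⟩ := exists_trace_element hfb (hmaxX.isDefectGrp hfb).1
  let SS : Serial (Res M) G :=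
    { n := 𝒩.n, e := e, ζ := (r : Res M), two_le := hn2, e_pos := he_pos
      e_dvd := hn ▸ hediv.trans (Nat.sub_one_dvd_pow_sub_one p a)
      e_ne := hek
      prim := IsPrimitiveRoot.iff_def _ _ |>.2 ⟨(hrk e).2 dvd_rfl, fun l hl => (hrk l).1 hl⟩
      D := D, X := X, N := N, t := t, D_le := hDX, X_le := hXN, t_mem := hTN htT, t_norm := htNX
      t_pow := htX
      free := fun g hg d hd hgd => by
        by_contra hd1
        refine hg (inv_mem_iff.1 (hfree g⁻¹ d hd hd1 ?_))
        rwa [inv_inv]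
      eB := gblk M B, eB_comm := fun z => mul_comm_of_fixed_supp hb.fixed (isSupp_top z)
      eB_idem := hb.idem
      b := f, b_supp := hfb.supp, b_comm := fun z hz => mul_comm_of_fixed_supp hfb.fixed hz
      b_orth := fun g hg hne => by
        have hbl : IsBlock X (conjA (Res M) g f) := by
          have := hfb.conjA g
          rwa [cj_eq_self (hNX hg)] at this
        rcases hfb.eq_or_mul_eq_zero hbl with h | h
        · obtain ⟨l, -, hl⟩ := hNdec g hg h.symm
          exact absurd hl (hne l)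
        · exact h
      a := aT, a_supp := haT, a_fix := haD, b_mul_a := hba, a_trace := hatr
      i := E i, i_supp := isSupp_emb i, i_idem := by rw [← map_mul, hii]
      b_i := by rw [← hfX, ← map_mul, hbi]
      r := m, x := fun l => E (x l), y := fun l => E (y l)
      x_supp := fun l => isSupp_emb _, y_supp := fun l => isSupp_emb _
      frame := by simp only [← map_mul, ← map_sum, hframe, hE]; exact hfX
      T := E τT, T_supp := isSupp_emb τT, i_T := by rw [← map_mul, hiT]
      T_i := by rw [← map_mul, hTi]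
      T_nil := hnilG, T_top := htopG, T_span := hspanG
      τ := τ, τ' := τ', τ_cos := hc1, τ'_cos := hc2, i_τ := hi1, τ_i := hi2, i_τ' := hi3
      τ'_i := hi4, τ_τ' := hττ, τ'_τ := hτ'τ, τ_pow := hpow, τ_T := hτTn
      U := U, U_le := hUD.trans hDX, U_norm := le_rfl
      U_pgroup := ⟨p, hp.out, inferInstance, IsPGroup.of_card (n := 1) (by rw [hUcard, pow_one])⟩
      U_cent := fun g _ hg => hg
      U_top := fun w hw => single_mul_top (p := p) (m := 1) (by omega) (by rw [← map_mul, hii])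
        (by rw [← map_mul, hiT]) (by rw [← map_mul, hTi]) hnilG htopG hspanG (isSupp_emb i)
        (isSupp_emb τT) (hUD.trans hDX hw)
        (fun z hz => Subgroup.mem_centralizer_iff.1 hz w hw)
        (by
          rw [pow_one, ← hUcard]
          exact orderOf_dvd_iff_pow_eq_one.1 (Subgroup.orderOf_dvd_natCard U hw))
      br_b := hhasU
      br_supp := isSupp_br U _ }
  have hrank : e ≤ Cfsg.blockRank p B :=
    le_trans (SS.e_le_finrank_regular (p := p)) (finrank_regular_le_blockRank (p := p) hB)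
  -- the blocks of `X` over `B`
  have habU : U ≤ Subgroup.centralizer (U : Set G) := hUD.trans hDX
  have hUp : IsPGroup p U := IsPGroup.of_card (n := 1) (by rw [hUcard, pow_one])
  have homega : ∀ {d : Set (IrrCharacter X)}, Cfsg.IsPBlock M d → ∀ ξ ∈ d,
      omega X (sblk M X d) (br U (gblk M B)) =
        omegaBar M ξ (resCtr X (idemBar M B (isBlockUnion_of_isPBlock hB))) := by
    intro d hd ξ hξ
    rw [InertialQuotient.gblk_eq_emb hB]
    exact InertialQuotient.omega_br_eq_resCtr hM hUp habU rfl hd hξ _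
  have hbrm : br U (gblk M B) ∈ sub X X :=
    InertialQuotient.br_mem_sub_centralizer (P := U) le_top hb.mem
  refine ⟨{
    mod := hM, block := hB, D := D, X := X, N := N, a := a, a_pos := ha, card_D := hDa
    defect := (isDefectGroup_gblk_iff hB D).2 (hmax.isDefectGrp hb).1
    D_le := hDX, X_le := hXN, N_norm := hNX, free := hfree, cent := hcent
    nil := 𝒩, P_eq := rfl
    above := fun ξ hξ => by
      rw [← homega hc ξ hξ]
      exact omega_unique (isBlock_sblk hc) hbrm (c := 1) (by simp [← hfc, hhasU])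
    above_conj := fun ξ hξ => ?_
    t := t, t_mem := hTN htT, r := r, e := e, e_dvd := hediv, e_pos := he_pos, t_pow := htX
    r_pow := hrn, r_free := hunit
    t_xi := fun j z => congrFun (hxi j) z
    decomp := fun g hg i' j hij => ?_
    rank_le := hrank }, rfl, rfl, rfl⟩
  · set d := Cfsg.blockOf M (ξ : X → ℂ)
    have hd := Blocks.isPBlock_blockOf (M := M) ξ
    have hdb : IsBlock X (sblk M X d) := isBlock_sblk hd
    have h1 : br U (gblk M B) * sblk M X d = sblk M X d := by
      refine (hdb.dichotomy hbrm (br_idem hUp (hb.fixed.mono le_top) hb.idem)).resolve_left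
        fun h0 => hξ ?_
      rw [← homega hd ξ (Blocks.mem_blockOf_self ξ)]
      exact omega_unique hdb hbrm (c := 0) (by simp [h0])
    obtain ⟨g, -, hg⟩ := exists_conj_le hb hmax
      (show BlockHas p ⊤ (gblk M B) U (sblk M X d) from
        ⟨⟨le_top, hUp, by rw [cent_top]; exact hdb⟩, h1⟩)
    have hgN : g ∈ N := hfree g u huD hu1
      (hg.subgroup_le (mem_cj.2 (by
        rw [show g⁻¹ * (g * u * g⁻¹) * g = u by group]
        exact Subgroup.mem_zpowers u)))
    rw [cj_eq_self (show g ∈ Subgroup.normalizer (U : Set G) from hgN)] at hg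
    refine ⟨g, hgN, blockCoeff_of_imageSet_eq _ (sblk_inj (isPBlock_imageSet _ hd) hc ?_)⟩
    rw [sblk_imageSet_cjAut, le_unique hg hle, hfc]
  · refine hNdec g hg ?_
    have heq : irrComp (cjAut (hNX hg)) (𝒩.xi i') = 𝒩.xi j :=
      Subtype.ext (funext fun x => (irrComp_apply _ _ x).trans (congrFun hij x))
    have hj : irrComp (cjAut (hNX hg)) (𝒩.xi i') ∈ 𝒩.B := by
      rw [heq]
      exact 𝒩.xi_mem j
    have hm : 𝒩.xi i' ∈ imageSet (cjAut (hNX hg)) 𝒩.B := by
      unfold imageSet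
      rw [Set.mem_ofPred_eq]
      exact hj
    have himg : imageSet (cjAut (hNX hg)) 𝒩.B = 𝒩.B :=
      Blocks.isPBlock_eq_of_mem (isPBlock_imageSet _ 𝒩.block) 𝒩.block hm (𝒩.xi_mem i')
    have h1 := sblk_imageSet_cjAut (M := M) (hNX hg) 𝒩.B
    rw [himg] at h1
    have hfB : f = sblk M X 𝒩.B := hfc
    rw [hfB]
    exact h1.symm

end CfsgLib.CyclicDefect
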