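import Cfsg.Agent.CyclicDefect.CosetSupp
import Mathlib.GroupTheory.QuotientGroup.Basic
import Mathlib.RingTheory.RootsOfUnity.PrimitiveRoots

/-!
# The local data at the subgroup of order `p` of a cyclic defect group

`Serial k G` records an idempotent `i` of a block `b` of `X` whose corner is spanned by the powers
of a nilpotent `T` (`T ^ n = 0 ≠ T ^ (n - 1)`), an element `τ` in the coset `t X` inducing
`T ↦ ζ • T` on the corner, and the facts on the cosets of `X` that the averaging arguments use.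
-/

set_option autoImplicit false
set_option linter.unusedSectionVars false
set_option linter.style.haveILetI false

namespace CfsgLib.CyclicDefect

open CfsgLib.BlockPairs CfsgLib.BlocksCyclic

/-- The data. -/
structure Serial (k : Type*) [Field k] (G : Type*) [Group G] [Finite G] where
  n : ℕ
  e : ℕ
  ζ : k
  two_le : 2 ≤ n
  e_pos : 0 < e
  e_dvd : e ∣ n - 1
  e_ne : (e : k) ≠ 0
  prim : IsPrimitiveRoot ζ e
  D : Subgroup G
  X : Subgroup G
  N : Subgroup G
  t : G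
  D_le : D ≤ X
  X_le : X ≤ N
  t_mem : t ∈ N
  t_norm : t ∈ Subgroup.normalizer (X : Set G)
  t_pow : ∀ l : ℕ, t ^ l ∈ X ↔ e ∣ l
  free : ∀ g : G, g ∉ N → ∀ d ∈ D, g⁻¹ * d * g ∈ D → d = 1
  eB : GA k G
  eB_comm : ∀ z : GA k G, eB * z = z * eB
  eB_idem : eB * eB = eB
  b : GA k G
  b_supp : IsSupp X b
  b_comm : ∀ z : GA k G, IsSupp X z → b * z = z * b
  b_orth : ∀ g ∈ N, (∀ l : ℕ, (t ^ l)⁻¹ * g ∉ X) → b * conjA k g b = 0
  a : GA k G
  a_supp : IsSupp X a
  a_fix : IsFixed D a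
  b_mul_a : b * a = a
  a_trace : ∀ f : Finset G, (∀ x ∈ f, x ∈ X) →
    (∀ x ∈ X, ∃! y, y ∈ f ∧ y⁻¹ * x ∈ D) → ∑ x ∈ f, conjA k x a = b
  i : GA k G
  i_supp : IsSupp X i
  i_idem : i * i = i
  b_i : b * i = i
  r : ℕ
  x : Fin r → GA k G
  y : Fin r → GA k G
  x_supp : ∀ l, IsSupp X (x l)
  y_supp : ∀ l, IsSupp X (y l)
  frame : ∑ l, x l * i * y l = b
  T : GA k G
  T_supp : IsSupp X T
  i_T : i * T = T
  T_i : T * i = T
  T_nil : T ^ n * i = 0
  T_top : T ^ (n - 1) * i ≠ 0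
  T_span : ∀ z : GA k G, IsSupp X z →
    i * z * i ∈ Submodule.span k (Set.range fun l : Fin n => T ^ (l : ℕ) * i)
  τ : GA k G
  τ' : GA k G
  τ_cos : InCos X t τ
  τ'_cos : InCos X t⁻¹ τ'
  i_τ : i * τ = τ
  τ_i : τ * i = τ
  i_τ' : i * τ' = τ'
  τ'_i : τ' * i = τ'
  τ_τ' : τ * τ' = i
  τ'_τ : τ' * τ = i
  τ_pow : τ ^ e * i = i
  τ_T : τ * T = ζ • (T * τ)
  U : Subgroup G
  U_le : U ≤ X
  U_norm : N ≤ Subgroup.normalizer (U : Set G)
  U_pgroup : ∃ p : ℕ, p.Prime ∧ CharP k p ∧ IsPGroup p U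
  U_cent : ∀ g ∈ N, g ∈ Subgroup.centralizer (U : Set G) → g ∈ X
  U_top : ∀ u ∈ U, MonoidAlgebra.single u (1 : k) * (T ^ (n - 1) * i) = T ^ (n - 1) * i
  br_b : br U eB * b = b
  br_supp : IsSupp X (br U eB)

namespace Serial

variable {k : Type*} [Field k] {G : Type*} [Group G] [Finite G] (S : Serial k G)

/-- The element spanning the socle of the corner. -/
noncomputable def top : GA k G := S.T ^ (S.n - 1) * S.i

theorem i_b : S.i * S.b = S.i := by rw [← S.b_comm _ S.i_supp, S.b_i]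

theorem commute_T : Commute S.i S.T := by
  show S.i * S.T = S.T * S.i
  rw [S.i_T, S.T_i]

theorem i_pow (l : ℕ) : S.i * (S.T ^ l * S.i) = S.T ^ l * S.i := by
  rw [← mul_assoc, (S.commute_T.pow_right l).eq, mul_assoc, S.i_idem]

theorem pow_mul_pow (l l' : ℕ) : S.T ^ l * S.i * (S.T ^ l' * S.i) = S.T ^ (l + l') * S.i := by
  rw [mul_assoc, S.i_pow, ← mul_assoc, ← pow_add]

theorem pow_eq_zero {l : ℕ} (h : S.n ≤ l) : S.T ^ l * S.i = 0 := by
  obtain ⟨j, rfl⟩ := Nat.exists_eq_add_of_le h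
  rw [pow_add, mul_assoc, ← (S.commute_T.pow_right j).eq, ← mul_assoc, S.T_nil, zero_mul]

theorem supp_pow (l : ℕ) : IsSupp S.X (S.T ^ l) :=
  (mem_sub.1 (pow_mem (show S.T ∈ sub S.X ⊥ from mem_sub.2 ⟨S.T_supp, fun u hu => by
    rw [Subgroup.mem_bot.1 hu, conjA_one_left]⟩) l)).1

theorem T_mul_top : S.T * S.top = 0 := by
  rw [top, ← mul_assoc, ← pow_succ']
  exact S.pow_eq_zero (by omega)

theorem i_mul_top : S.i * S.top = S.top := S.i_pow _

theorem top_mul_i : S.top * S.i = S.top := by rw [top, mul_assoc, S.i_idem]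

theorem top_supp : IsSupp S.X S.top := isSupp_mul (S.supp_pow _) S.i_supp

/-- An element of the corner killed by `T` is a multiple of the top. -/
theorem eq_top_of_T_mul {z : GA k G} (hz : IsSupp S.X z) (h : S.T * (S.i * z * S.i) = 0) :
    ∃ c : k, S.i * z * S.i = c • S.top := by
  classical
  obtain ⟨c, hc⟩ := Submodule.mem_span_range_iff_exists_fun k |>.1 (S.T_span z hz)
  have hn : S.n - 1 < S.n := by have := S.two_le; omega
  refine ⟨c ⟨S.n - 1, hn⟩, ?_⟩
  suffices h0 : ∀ l : ℕ, ∀ hl : l < S.n - 1, c ⟨l, hl.trans hn⟩ = 0 by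
    rw [← hc, Finset.sum_eq_single ⟨S.n - 1, hn⟩ (fun l _ hne => ?_) (by simp)]
    · rfl
    · rw [show c l = 0 from h0 l (by
        have h1 := l.2
        have h2 : (l : ℕ) ≠ S.n - 1 := fun e => hne (Fin.ext e)
        omega), zero_smul]
  intro l
  induction l using Nat.strong_induction_on with
  | _ l ih =>
    intro hl
    have h1 : S.T ^ (S.n - 1 - l) * (S.i * z * S.i) = 0 := by
      rw [show S.n - 1 - l = S.n - 1 - l - 1 + 1 by omega, pow_succ, mul_assoc, h, mul_zero]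
    rw [← hc, Finset.mul_sum, Finset.sum_eq_single ⟨l, hl.trans hn⟩ (fun j _ hne => ?_)
      (by simp)] at h1
    · rw [mul_smul_comm, ← mul_assoc, ← pow_add,
        show S.n - 1 - l + l = S.n - 1 by omega] at h1
      exact (smul_eq_zero.1 h1).resolve_right S.T_top
    · rw [mul_smul_comm, ← mul_assoc, ← pow_add]
      rcases lt_trichotomy (j : ℕ) l with hlt | heq | hgt
      · rw [show c j = 0 from ih j hlt (by omega), zero_smul]
      · exact absurd (Fin.ext heq) hne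
      · rw [S.pow_eq_zero (by omega), smul_zero]

/-- The corner is commutative. -/
theorem corner_comm {z : GA k G} (hz : IsSupp S.X z) (l : ℕ) :
    S.T ^ l * (S.i * z * S.i) = S.i * z * S.i * S.T ^ l := by
  have h := S.T_span z hz
  generalize S.i * z * S.i = u at h ⊢
  induction h using Submodule.span_induction with
  | mem w hw =>
    obtain ⟨j, rfl⟩ := hw
    dsimp only
    rw [← mul_assoc, ← pow_add, add_comm l, pow_add, mul_assoc, mul_assoc,
      (S.commute_T.pow_right l).eq]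
  | zero => simp
  | add u v _ _ hu hv => rw [mul_add, add_mul, hu, hv]
  | smul c u _ hu => rw [mul_smul_comm, smul_mul_assoc, hu]

theorem commute_τ : Commute S.i S.τ := by
  show S.i * S.τ = S.τ * S.i
  rw [S.i_τ, S.τ_i]

theorem commute_τ' : Commute S.i S.τ' := by
  show S.i * S.τ' = S.τ' * S.i
  rw [S.i_τ', S.τ'_i]

theorem pow_t_norm (l : ℕ) : S.t ^ l ∈ Subgroup.normalizer (S.X : Set G) := pow_mem S.t_norm l

theorem conj_mem {g : G} (hg : g ∈ Subgroup.normalizer (S.X : Set G)) :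
    ∀ x ∈ S.X, g⁻¹ * x * g ∈ S.X := fun x hx => by
  simpa using (Subgroup.mem_normalizer_iff.1 (inv_mem hg) x).1 hx

theorem τ_pow_cos (l : ℕ) : InCos S.X (S.t ^ l) (S.τ ^ l * S.i) := by
  induction l with
  | zero => rw [pow_zero, pow_zero, one_mul]; exact inCos_one.2 S.i_supp
  | succ l ih =>
    rw [pow_succ' S.τ, mul_assoc, pow_succ' S.t]
    exact S.τ_cos.mul ih (S.conj_mem (S.pow_t_norm l))

theorem τ'_pow_cos (l : ℕ) : InCos S.X (S.t ^ l)⁻¹ (S.τ' ^ l * S.i) := by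
  induction l with
  | zero => rw [pow_zero, pow_zero, inv_one, one_mul]; exact inCos_one.2 S.i_supp
  | succ l ih =>
    rw [pow_succ' S.τ', mul_assoc, pow_succ S.t, mul_inv_rev]
    exact S.τ'_cos.mul ih (S.conj_mem (inv_mem (S.pow_t_norm l)))

theorem τ_τ'_pow (l : ℕ) : S.τ ^ l * S.i * (S.τ' ^ l * S.i) = S.i := by
  induction l with
  | zero => simp [S.i_idem]
  | succ l ih =>
    rw [pow_succ' S.τ, pow_succ S.τ']
    calc S.τ * S.τ ^ l * S.i * (S.τ' ^ l * S.τ' * S.i)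
        = S.τ * (S.τ ^ l * S.i * (S.τ' ^ l * (S.τ' * S.i))) := by simp only [mul_assoc]
      _ = S.τ * (S.τ ^ l * S.i * (S.τ' ^ l * S.i * S.τ')) := by
          rw [mul_assoc (S.τ' ^ l) S.i, S.i_τ', S.τ'_i]
      _ = S.i := by rw [← mul_assoc (S.τ ^ l * S.i), ih, S.i_τ', S.τ_τ']

theorem τ_T_pow (d : ℕ) : S.τ * (S.T ^ d * S.i) = S.ζ ^ d • (S.T ^ d * S.i * S.τ) := by
  induction d with
  | zero => simp [S.τ_i, S.i_τ]
  | succ d ih =>
    rw [pow_succ', mul_assoc, ← mul_assoc S.τ, S.τ_T, smul_mul_assoc, mul_assoc S.T S.τ, ih,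
      mul_smul_comm, smul_smul, pow_succ' S.ζ]
    simp only [mul_assoc]

theorem zeta_pow_pred : S.ζ ^ (S.n - 1) = 1 := by
  obtain ⟨j, hj⟩ := S.e_dvd
  rw [hj, pow_mul, S.prim.pow_eq_one, one_pow]

/-- The eigen-idempotent of `τ`. -/
noncomputable def eps (c : k) : GA k G :=
  (S.e : k)⁻¹ • ∑ l ∈ Finset.range S.e, (c⁻¹) ^ l • (S.τ ^ l * S.i)

theorem i_τ_pow (l : ℕ) : S.i * (S.τ ^ l * S.i) = S.τ ^ l * S.i := by
  rw [← mul_assoc, (S.commute_τ.pow_right l).eq, mul_assoc, S.i_idem]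

theorem i_eps (c : k) : S.i * S.eps c = S.eps c := by
  simp only [eps, mul_smul_comm, Finset.mul_sum, S.i_τ_pow]

theorem τ_eps {c : k} (hc : c ^ S.e = 1) : S.τ * S.eps c = c • S.eps c := by
  have hc0 : c ≠ 0 := fun h => by
    rw [h, zero_pow S.e_pos.ne'] at hc; exact zero_ne_one hc
  have hper : ∀ l, (c⁻¹) ^ (l % S.e) • (S.τ ^ (l % S.e) * S.i) = (c⁻¹) ^ l • (S.τ ^ l * S.i) := by
    intro l
    conv_rhs => rw [← Nat.mod_add_div l S.e]
    have hq : ∀ q, S.τ ^ (S.e * q) * S.i = S.i := fun q => by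
      induction q with
      | zero => simp
      | succ q ih => rw [Nat.mul_succ, pow_add, mul_assoc, S.τ_pow, ih]
    rw [pow_add, pow_add, pow_mul, inv_pow c S.e, hc, inv_one, one_pow, mul_one, mul_assoc, hq]
  simp only [eps, mul_smul_comm, Finset.mul_sum, smul_comm c (S.e : k)⁻¹, Finset.smul_sum]
  have h1 : ∀ l, (c⁻¹) ^ l • (S.τ * (S.τ ^ l * S.i)) =
      c • ((c⁻¹) ^ (l + 1) • (S.τ ^ (l + 1) * S.i)) := fun l => by
    rw [smul_smul, pow_succ' (c⁻¹), ← mul_assoc c, mul_inv_cancel₀ hc0, one_mul, pow_succ' S.τ,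
      mul_assoc]
  simp only [h1, smul_comm (S.e : k)⁻¹ c]
  rw [← Finset.smul_sum, ← Finset.smul_sum, ← Finset.smul_sum, ← Finset.smul_sum]
  congr 2
  set F : ℕ → GA k G := fun l => (c⁻¹) ^ l • (S.τ ^ l * S.i)
  show ∑ l ∈ Finset.range S.e, F (l + 1) = ∑ l ∈ Finset.range S.e, F l
  have hF : F S.e = F 0 := by
    have := hper S.e
    rw [Nat.mod_self] at this
    exact this.symm
  have h2 := Finset.sum_range_succ F S.e
  rw [Finset.sum_range_succ', hF] at h2
  exact add_right_cancel h2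

theorem eps_smul_eigen {M : Type*} [AddCommGroup M] [Module k M] [Module (GA k G) M]
    [IsScalarTower k (GA k G) M] {c c' : k} {v : M} (hc : c ^ S.e = 1) (hc' : c' ^ S.e = 1)
    (hiv : S.i • v = v) (hv : S.τ • v = c' • v) [Decidable (c = c')] :
    S.eps c • v = if c = c' then v else 0 := by
  have hc0 : c ≠ 0 := fun h => by
    rw [h, zero_pow S.e_pos.ne'] at hc; exact zero_ne_one hc
  have hl : ∀ l, (S.τ ^ l * S.i) • v = c' ^ l • v := fun l => by
    induction l with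
    | zero => simp [hiv]
    | succ l ih => rw [pow_succ' S.τ, mul_assoc, mul_smul, ih, smul_comm, hv, smul_smul, pow_succ]
  rw [eps, smul_assoc, Finset.sum_smul,
    Finset.sum_congr rfl fun l _ => by rw [smul_assoc, hl, smul_smul, ← mul_pow],
    ← Finset.sum_smul, smul_smul]
  split_ifs with h
  · subst h
    simp [inv_mul_cancel₀ hc0, inv_mul_cancel₀ S.e_ne]
  · have hne : c⁻¹ * c' ≠ 1 := fun h1 => h ((inv_mul_eq_one₀ hc0).1 h1)
    rw [geom_sum_eq hne, mul_pow, inv_pow, hc, hc', inv_one, mul_one, sub_self, zero_div,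
      mul_zero, zero_smul]

theorem eps_T_pow {c : k} (d : ℕ) :
    S.T ^ d * S.i * S.eps c = S.eps (c * S.ζ ^ d) * (S.T ^ d * S.i) := by
  have hζ : S.ζ ≠ 0 := S.prim.ne_zero S.e_pos.ne'
  have hl : ∀ l, S.τ ^ l * S.i * (S.T ^ d * S.i) =
      (S.ζ ^ d) ^ l • (S.T ^ d * S.i * (S.τ ^ l * S.i)) := fun l => by
    induction l with
    | zero => rw [pow_zero, pow_zero, one_mul, one_smul, S.i_pow, mul_assoc, S.i_idem]
    | succ l ih =>
      rw [pow_succ' S.τ, mul_assoc S.τ, mul_assoc S.τ, ih, mul_smul_comm, ← mul_assoc S.τ,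
        S.τ_T_pow, smul_mul_assoc, smul_smul, ← pow_succ]
      simp only [mul_assoc]
  simp only [eps, smul_mul_assoc, Finset.sum_mul, hl, smul_smul, mul_smul_comm, Finset.mul_sum]
  refine congrArg _ (Finset.sum_congr rfl fun l _ => ?_)
  congr 1
  rw [mul_inv, mul_pow, mul_assoc, ← mul_pow, inv_mul_cancel₀ (pow_ne_zero _ hζ), one_pow, mul_one]

theorem eps_top {c : k} : S.top * S.eps c = S.eps c * S.top := by
  rw [top, S.eps_T_pow, S.zeta_pow_pred, mul_one]

end Serial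

end CfsgLib.CyclicDefect
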