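import Cfsg.Agent.CyclicDefect.Setup
import Cfsg.Agent.CyclicDefect.Serial
import Cfsg.Agent.InertialQuotient.Setup
import Cfsg.Agent.BlockPairs.EmbModel
import Cfsg.Agent.BlocksLocal.TwoCharacters

/-!
# The local block as a block of a group in its own right

Transport of blocks, maximal pairs and nilpotency between a subgroup `X` inside the group and `X`
as a group, conjugation by normalizing elements, and the rank of the values at regular elements.
-/

set_option autoImplicit false
set_option linter.unusedSectionVars false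
set_option linter.style.haveILetI false

namespace CfsgLib.CyclicDefect

open Cfsg CfsgLib.BlockPairs MonoidAlgebra
open CfsgLib.Blocks (Res)

universe u

section Model

variable {k : Type*} [Field k] {G : Type u} [Group G] {X : Subgroup G}

theorem emb_subtype_single (x : X) (c : k) :
    emb X.subtype (single x c : GA k X) = single (x : G) c := by
  simp [emb]

theorem emb_cjAut {g : G} (hg : g ∈ Subgroup.normalizer (X : Set G)) (z : GA k X) :
    emb X.subtype (emb (cjAut hg).toMonoidHom z) = conjA k g (emb X.subtype z) := by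
  induction z using MonoidAlgebra.induction_linear with
  | zero => simp [conjA_zero]
  | add a b ha hb => rw [map_add, map_add, map_add, conjA_add, ha, hb]
  | single x c =>
    rw [show emb (cjAut hg).toMonoidHom (single x c : GA k X) = single (cjAut hg x) c by simp [emb],
      emb_subtype_single, emb_subtype_single, conjA, single_mul_single, single_mul_single, one_mul,
      mul_one, cjAut_coe]

theorem isSupp_emb (z : GA k X) : IsSupp X (emb X.subtype z) := fun g hg => by
  by_contra h
  exact hg (emb_coeff_not_mem _ _ (by rwa [X.range_subtype]))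

theorem exists_emb_supp [Finite X] {z : GA k G} (hz : IsSupp X z) :
    ∃ a, emb X.subtype a = z :=
  exists_emb_of_isSupp X.subtype_injective (by rwa [X.range_subtype])

theorem map_top_subtype : (⊤ : Subgroup X).map X.subtype = X := by
  rw [← MonoidHom.range_eq_map, X.range_subtype]

variable [Finite G] {p : ℕ} [hp : Fact p.Prime] [CharP k p] [IsAlgClosed k]

/-- A maximal pair inside the subgroup is one of the subgroup as a group. -/
theorem isMaxPair_sub {f e : GA k G} {f' e' : GA k X} {D : Subgroup G} (hf : emb X.subtype f' = f)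
    (he : emb X.subtype e' = e) (hfb : IsBlock X f) (hm : IsMaxPair p X f D e) (hD : D ≤ X) :
    IsMaxPair p (⊤ : Subgroup X) f' (D.subgroupOf X) e' := by
  have hd := (hm.isDefectGrp hfb).1
  have hhas : BlockHas p (⊤ : Subgroup X) f' (D.subgroupOf X) e' := by
    rw [← blockHas_map_iff X.subtype_injective, map_top_subtype,
      Subgroup.map_subgroupOf_eq_of_le hD, hf, he]
    exact hm.1
  refine ⟨hhas, fun R g hR hle => ?_⟩
  have hR' := (blockHas_map_iff (φ := X.subtype) X.subtype_injective).2 hR
  rw [map_top_subtype, hf] at hR'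
  have h1 := hd.card_le hR'.1.1 hR'.1.2.1 hR'.br_ne_zero
  rw [Subgroup.card_map_of_injective X.subtype_injective] at h1
  refine (Subgroup.eq_of_le_of_card_ge hle.subgroup_le ?_).symm
  rwa [Nat.card_congr (Subgroup.subgroupOfEquivOfLe hD).toEquiv]

/-- Nilpotency passes to the subgroup as a group. -/
theorem nilp_sub {f : GA k G} {f' : GA k X} (hf : emb X.subtype f' = f) (h : Nilp p X f) :
    Nilp p (⊤ : Subgroup X) f' := by
  intro Q g hQ x hx hreg
  have hQ' := (blockHas_map_iff (φ := X.subtype) X.subtype_injective).2 hQ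
  rw [map_top_subtype, hf] at hQ'
  have hx' := (map_mem_stab_iff (φ := X.subtype) X.subtype_injective).2 hx
  rw [map_top_subtype] at hx'
  exact (map_mem_centralizer_iff X.subtype_injective).1
    (h _ _ hQ' _ hx' ((isPRegular_map X.subtype_injective).2 hreg))

/-- A central element of `p`-power order acts trivially on the socle of the corner. -/
theorem single_mul_top {i T : GA k G} {n : ℕ} (hn : 1 ≤ n) (hii : i * i = i) (hiT : i * T = T)
    (hTi : T * i = T) (hnil : T ^ n * i = 0) (htop : T ^ (n - 1) * i ≠ 0)
    (hspan : ∀ z : GA k G, IsSupp X z →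
      i * z * i ∈ Submodule.span k (Set.range fun l : Fin n => T ^ (l : ℕ) * i))
    (hiX : IsSupp X i) (hTX : IsSupp X T) {u : G} (huX : u ∈ X) (huc : ∀ x ∈ X, u * x = x * u)
    {m : ℕ} (hu : u ^ p ^ m = 1) :
    single u (1 : k) * (T ^ (n - 1) * i) = T ^ (n - 1) * i := by
  classical
  have hcomm : ∀ z : GA k G, IsSupp X z → single u (1 : k) * z = z * single u (1 : k) := by
    intro z hz
    conv_lhs => rw [← MonoidAlgebra.sum_coeff_single z, Finsupp.sum, Finset.mul_sum]
    conv_rhs => rw [← MonoidAlgebra.sum_coeff_single z, Finsupp.sum, Finset.sum_mul]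
    refine Finset.sum_congr rfl fun g hg => ?_
    rw [single_mul_single, single_mul_single, huc g (hz g (Finsupp.mem_support_iff.1 hg)), mul_comm]
  set z := single u (1 : k)
  have hci : Commute z i := hcomm i hiX
  have hcT : Commute z T := hcomm T hTX
  have hcorner := hspan z (IsSupp.single_mem huX 1)
  rw [show i * z * i = z * i by rw [← hci.eq, mul_assoc, hii]] at hcorner
  obtain ⟨c, hc⟩ := (Submodule.mem_span_range_iff_exists_fun k).1 hcorner
  set top := T ^ (n - 1) * i
  have hcTi : Commute i T := by
    show i * T = T * i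
    rw [hiT, hTi]
  have hitop : i * top = top := by
    show i * (T ^ (n - 1) * i) = _
    rw [← mul_assoc, (hcTi.pow_right _).eq, mul_assoc, hii]
  have h0 : z * top = c ⟨0, hn⟩ • top := by
    calc z * top = z * i * top := by rw [mul_assoc, hitop]
      _ = _ := by
        rw [← hc, Finset.sum_mul, Finset.sum_eq_single ⟨0, hn⟩ (fun l _ hne => ?_) (by simp)]
        · rw [smul_mul_assoc, pow_zero, one_mul, hitop]
        · rw [smul_mul_assoc, mul_assoc, hitop]
          show c l • (T ^ (l : ℕ) * (T ^ (n - 1) * i)) = 0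
          have hl : (l : ℕ) ≠ 0 := fun h => hne (Fin.ext h)
          rw [← mul_assoc, ← pow_add, show (l : ℕ) + (n - 1) = ((l : ℕ) - 1) + n by omega, pow_add,
            mul_assoc, hnil, mul_zero, smul_zero]
  have hpow : ∀ j : ℕ, z ^ j * top = c ⟨0, hn⟩ ^ j • top := fun j => by
    induction j with
    | zero => rw [pow_zero, pow_zero, one_mul, one_smul]
    | succ j ih => rw [pow_succ, mul_assoc, h0, mul_smul_comm, ih, smul_smul, pow_succ, mul_comm]
  have h1 := hpow (p ^ m)
  rw [single_pow, hu, one_pow, ← MonoidAlgebra.one_def, one_mul] at h1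
  have h2 : (c ⟨0, hn⟩ ^ p ^ m - 1) • top = 0 := by rw [sub_smul, one_smul, ← h1, sub_self]
  have h3 := (smul_eq_zero.1 h2).resolve_right htop
  rw [← one_pow (p ^ m), ← sub_pow_char_pow] at h3
  rw [h0, sub_eq_zero.1 (pow_eq_zero_iff (pow_ne_zero _ hp.out.ne_zero) |>.1 h3), one_smul]

end Model

variable {G : Type u} [Group G] [Fintype G] {M : Ideal AlgInt} [M.IsPrime] {X : Subgroup G}
  [IsAlgClosed (Res M)]

theorem emb_gblk (c : Set (IrrCharacter X)) :
    emb X.subtype (gblk M c) = sblk M X c := by
  refine ga_ext fun g => ?_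
  rw [sblk_coeff, Cfsg.subgroupBlockCoeff]
  split_ifs with h
  · have := emb_coeff_apply (k := Res M) (φ := X.subtype) X.subtype_injective (gblk M c) ⟨g, h⟩
    rw [gblk_coeff] at this
    simpa using this
  · rw [redC_zero]
    exact emb_coeff_not_mem _ _ (by rwa [X.range_subtype])

theorem conjIso_eq_cjAut {g : G} (hg : g ∈ Subgroup.normalizer (X : Set G)) :
    conjIso X X g (cj_eq_self hg) = cjAut hg :=
  MulEquiv.ext fun x => Subtype.ext (by rw [conjIso_apply, cjAut_coe])

theorem sblk_imageSet_cjAut {g : G} (hg : g ∈ Subgroup.normalizer (X : Set G))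
    (c : Set (IrrCharacter X)) :
    sblk M X (imageSet (cjAut hg) c) = conjA (Res M) g (sblk M X c) := by
  rw [← conjIso_eq_cjAut hg]
  exact sblk_imageSet (cj_eq_self hg) c

theorem blockCoeff_of_imageSet_eq {c d : Set (IrrCharacter X)} (α : X ≃* X)
    (h : imageSet α d = c) (y : X) :
    Cfsg.blockCoeff d y = Cfsg.blockCoeff c (α y) := by
  rw [← h, blockCoeff_imageSet, α.symm_apply_apply]

theorem imageSet_eq_of_fix {g : G} (hg : g ∈ Subgroup.normalizer (X : Set G))
    {c : Set (IrrCharacter X)} (hc : Cfsg.IsPBlock M c)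
    (hfix : conjA (Res M) g (sblk M X c) = sblk M X c) : imageSet (cjAut hg) c = c :=
  sblk_inj (isPBlock_imageSet _ hc) hc (by rw [sblk_imageSet_cjAut, hfix])

open Classical in
/-- The traces of the translates of the block at regular elements have rank at most `l(B)`. -/
theorem finrank_regular_le_blockRank {p : ℕ} {B : Set (IrrCharacter G)}
    (hB : Cfsg.IsPBlock M B) :
    Module.finrank (Res M) (Submodule.span (Res M) (Set.range fun y : {y : G // ¬ p ∣ orderOf y} =>
      BlocksLocal.classTrace (Res M) G (gblk M B * single (y : G) 1))) ≤ Cfsg.blockRank p B := by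
  have hA := CfsgLib.Blocks.isBlockUnion_of_isPBlock hB
  have hgb : gblk M B = (CfsgLib.Blocks.idemBar M B hA : GA (Res M) G) := by
    refine ga_ext fun g => ?_
    rw [gblk_coeff, CfsgLib.Blocks.coeff_idemBar,
      redC_of_mem (CfsgLib.Blocks.memLocalRing_blockCoeff hA g)]
  rw [hgb]
  let A : Matrix B.toFinset G ℂ := fun χ g => Cfsg.pRegularPart p (χ.1 : G → ℂ) g
  let L : (B.toFinset → ℂ) →ₗ[ℂ] (ConjClasses G → ℂ) :=
    Fintype.linearCombination ℂ fun χ : B.toFinset => BlocksLocal.classVec χ.1
  refine (BlocksLocal.finrank_span_classTrace_le hA (fun y : {y : G // ¬ p ∣ orderOf y} => (y : G))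
    ((Submodule.span ℂ (Set.range A.col)).map L) fun y => ?_).trans ?_
  · refine ⟨A.col y, Submodule.subset_span ⟨y, rfl⟩, ?_⟩
    have hv : ∀ χ : B.toFinset, A.col (y : G) χ = (χ.1 : G → ℂ) (y : G) := fun χ => if_pos y.2
    simp only [L, Fintype.linearCombination_apply, hv]
    rw [Finset.sum_coe_sort B.toFinset fun χ => (χ : G → ℂ) (y : G) • BlocksLocal.classVec χ]
    exact Finset.sum_congr (Finset.ext fun χ => by simp) fun _ _ => rfl
  · refine (Submodule.finrank_map_le _ _).trans (le_of_eq ?_)
    rw [← Matrix.rank_eq_finrank_span_cols, Matrix.rank_eq_finrank_span_row, Cfsg.blockRank]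
    rw [show Set.range A.row = (fun χ : IrrCharacter G => Cfsg.pRegularPart p (χ : G → ℂ)) '' B from
      Set.ext fun f => ⟨fun ⟨χ, hχ⟩ => ⟨χ, Set.mem_toFinset.1 χ.2, hχ⟩,
        fun ⟨χ, hχ, hf⟩ => ⟨⟨χ, Set.mem_toFinset.2 hχ⟩, hf⟩⟩]

end CfsgLib.CyclicDefect
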