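import Cfsg.Agent.CyclicDefect.Columns
import Cfsg.Agent.DefectOne.Rows
import Cfsg.Agent.BlockPairs.RegularSpan

/-!
# The count for a block with cyclic defect group

With the lower bound `e ≤ l(B)` the Gram matrix of the columns forces `l(B) = e` and
`k(B) = e + (p ^ a - 1) / e`, the shape of the rows, the sign relation on the regular elements, the
congruences of the degrees and height zero.
-/

set_option autoImplicit false
set_option linter.unusedSectionVars false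
set_option linter.style.haveILetI false

namespace CfsgLib.CyclicDefect

open Cfsg CfsgLib.BlockPairs
open CfsgLib.Blocks (Res)
open scoped ComplexConjugate

universe u

variable {p : ℕ} [hp : Fact p.Prime] {M : Ideal AlgInt} [M.IsPrime] {G : Type u} [Group G]
  [Fintype G]

open Classical in
/-- A combination of characters vanishing at singular elements has degree divisible by the order
of a Sylow subgroup. -/
theorem pow_dvd_degree_of_vanish (s : Finset (IrrCharacter G)) (v : IrrCharacter G → ℤ)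
    (h : ∀ g : G, p ∣ orderOf g → ∑ χ ∈ s, (v χ : ℂ) * (χ : G → ℂ) g = 0) :
    (p : ℤ) ^ (Nat.card G).factorization p ∣
      ∑ χ ∈ s, v χ * (Cfsg.charDegree (χ : G → ℂ) : ℤ) := by
  obtain ⟨P⟩ : Nonempty (Sylow p G) := inferInstance
  have hP : Nat.card P = p ^ (Nat.card G).factorization p := Sylow.card_eq_multiplicity P
  set H : Subgroup G := (P : Subgroup G)
  haveI := Fintype.ofFinite H
  have hm : ∀ χ : IrrCharacter G, ∃ m : ℕ, ∑ y : H, (χ : G → ℂ) y = (Nat.card H : ℂ) * m := by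
    intro χ
    obtain ⟨m, hm⟩ := Characters.classInner_character_irr
      (Characters.isCharacter_restrict H (Characters.isCharacter_of_isIrr χ.2))
      (Characters.isIrr_one (G := H))
    refine ⟨m, ?_⟩
    rw [← hm, Cfsg.classInner, mul_inv_cancel_left₀ (Nat.cast_ne_zero.2 Nat.card_pos.ne')]
    simp
  choose m hm using hm
  have h1 : ∑ y : H, ∑ χ ∈ s, (v χ : ℂ) * (χ : G → ℂ) y =
      ∑ χ ∈ s, (v χ : ℂ) * (χ : G → ℂ) 1 := by
    rw [Finset.sum_eq_single (1 : H) (fun y _ hy => h _ ?_) (by simp), OneMemClass.coe_one]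
    obtain ⟨k, hk⟩ := IsPGroup.iff_orderOf.1 P.isPGroup' y
    rw [Subgroup.orderOf_coe, hk]
    refine dvd_pow_self p fun h0 => hy (orderOf_eq_one_iff.1 ?_)
    rw [hk, h0, pow_zero]
  rw [Finset.sum_comm] at h1
  simp only [← Finset.mul_sum, hm] at h1
  refine ⟨∑ χ ∈ s, v χ * (m χ : ℤ), Int.cast_injective (α := ℂ) ?_⟩
  push_cast
  simp only [Blocks.charDegree_cast]
  rw [← h1, Finset.mul_sum, show (Nat.card H : ℂ) = (p : ℂ) ^ (Nat.card G).factorization p by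
    rw [show Nat.card H = _ from hP]; push_cast; rfl]
  exact Finset.sum_congr rfl fun χ _ => by ring

variable [CharP (Res M) p] [IsAlgClosed (Res M)] {B : Set (IrrCharacter G)} (S : Setup p M G B)

namespace Setup

theorem n_eq : S.nil.n = p ^ S.a := by
  rw [Nil.n, S.P_eq, ← S.card_D, Nat.card_congr (Subgroup.subgroupOfEquivOfLe S.D_le).toEquiv]

theorem cv_zero (χ : IrrCharacter G) : S.cv χ 0 = 0 := by
  rw [cv, psi, sub_self, Cfsg.classInner]
  simp

theorem pow_mul_eq_self {l : ℕ} (hl : l < S.e) {j : ZMod S.nil.n} (hj : j ≠ 0)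
    (h : (S.r : ZMod S.nil.n) ^ l * j = j) : l = 0 := by
  by_contra hl0
  have hu := S.r_free l fun hd => hl0 (Nat.eq_zero_of_dvd_of_lt hd hl)
  exact hj (hu.mul_right_eq_zero.1 (by rw [sub_mul, h, one_mul, sub_self]))

theorem r_pow_mul (q : ℕ) : (S.r : ZMod S.nil.n) ^ (S.e * q) = 1 := by
  rw [pow_mul, S.r_pow, one_pow]

theorem pow_mod (l : ℕ) : (S.r : ZMod S.nil.n) ^ (l % S.e) = (S.r : ZMod S.nil.n) ^ l := by
  conv_rhs => rw [← Nat.mod_add_div l S.e, pow_add, S.r_pow_mul, mul_one]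

/-- The orbit relation on the non-zero labels. -/
def orbSetoid : Setoid {j : ZMod S.nil.n // j ≠ 0} where
  r a b := ∃ l : ℕ, (S.r : ZMod S.nil.n) ^ l * a.1 = b.1
  iseqv :=
    { refl := fun a => ⟨0, by simp⟩
      symm := fun {a b} ⟨l, hl⟩ => ⟨l * (S.e - 1), by
        rw [← hl, ← mul_assoc, ← pow_add, show l * (S.e - 1) + l = S.e * l by
          have := S.e_pos
          rw [Nat.mul_sub, mul_one, Nat.sub_add_cancel (Nat.le_mul_of_pos_right _ this), mul_comm],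
          S.r_pow_mul, one_mul]⟩
      trans := fun {a b c} ⟨l, hl⟩ ⟨l', hl'⟩ => ⟨l' + l, by rw [pow_add, mul_assoc, hl, hl']⟩ }

/-- The columns. -/
abbrev Col : Type := Quotient S.orbSetoid

noncomputable instance : Fintype S.Col := Fintype.ofFinite _

/-- The entries on the columns. -/
noncomputable def col (χ : IrrCharacter G) (q : S.Col) : ℤ := S.ci χ q.out.1

theorem card_col : S.e * Fintype.card S.Col = p ^ S.a - 1 := by
  classical
  rw [← S.n_eq]
  have h : Fintype.card {j : ZMod S.nil.n // j ≠ 0} = S.nil.n - 1 := by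
    rw [Fintype.card_subtype_compl, ZMod.card, Fintype.card_subtype_eq]
  rw [← h]
  refine Eq.trans (b := Fintype.card (Fin S.e × S.Col)) (by rw [Fintype.card_prod, Fintype.card_fin])
    (Fintype.card_congr (Equiv.ofBijective
    (fun x : Fin S.e × S.Col => (⟨(S.r : ZMod S.nil.n) ^ (x.1 : ℕ) * x.2.out.1,
      S.r_mul_ne_zero _ x.2.out.2⟩ : {j : ZMod S.nil.n // j ≠ 0})) ⟨?_, ?_⟩))
  · rintro ⟨l, q⟩ ⟨l', q'⟩ h
    have h' := congrArg Subtype.val h
    dsimp only at h'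
    have hq : q = q' := by
      rw [← Quotient.out_eq q, ← Quotient.out_eq q']
      refine (Quotient.sound (s := S.orbSetoid) (⟨l, h'⟩ : S.orbSetoid.r q.out
        ⟨_, S.r_mul_ne_zero l' q'.out.2⟩)).trans ?_
      exact (Quotient.sound (s := S.orbSetoid) (⟨l', rfl⟩ : S.orbSetoid.r q'.out _)).symm
    subst hq
    refine Prod.ext (Fin.ext ?_) rfl
    show (l : ℕ) = l'
    rcases le_total (l : ℕ) l' with hle | hle
    · have := S.pow_mul_eq_self (l := (l' : ℕ) - l) (by omega) (S.r_mul_ne_zero l q.out.2)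
        (by rw [← mul_assoc, ← pow_add, Nat.sub_add_cancel hle]; exact h'.symm)
      omega
    · have := S.pow_mul_eq_self (l := (l : ℕ) - l') (by omega) (S.r_mul_ne_zero l' q.out.2)
        (by rw [← mul_assoc, ← pow_add, Nat.sub_add_cancel hle]; exact h')
      omega
  · intro j
    obtain ⟨l, hl⟩ := Quotient.exact (s := S.orbSetoid)
      (Quotient.out_eq (Quotient.mk S.orbSetoid j))
    refine ⟨(⟨l % S.e, Nat.mod_lt _ S.e_pos⟩, Quotient.mk S.orbSetoid j), Subtype.ext ?_⟩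
    show (S.r : ZMod S.nil.n) ^ (l % S.e) * _ = _
    rw [S.pow_mod, hl]

theorem cv_eq_col (χ : IrrCharacter G) {j : ZMod S.nil.n} (hj : j ≠ 0) :
    S.cv χ j = (S.col χ (Quotient.mk S.orbSetoid ⟨j, hj⟩) : ℂ) := by
  rw [col, S.ci_eq]
  obtain ⟨l, hl⟩ := Quotient.exact (s := S.orbSetoid)
    (Quotient.out_eq (Quotient.mk S.orbSetoid ⟨j, hj⟩))
  exact (congrArg (S.cv χ) hl.symm).trans (S.cv_mul_r χ l _)

open Classical in
theorem gram_col (q q' : S.Col) :
    ∑ χ ∈ B.toFinset, S.col χ q * S.col χ q' = (S.e : ℤ) + if q = q' then 1 else 0 := by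
  apply Int.cast_injective (α := ℂ)
  push_cast
  simp only [col, S.ci_eq]
  rw [Finset.sum_subset (Finset.subset_univ B.toFinset) fun χ _ hχ => by
    rw [S.cv_eq_zero (fun h => hχ (Set.mem_toFinset.2 h)), zero_mul], S.gram_cv q.out.2 q'.out.2]
  congr 1
  by_cases h : q = q'
  · subst h
    rw [if_pos rfl, Finset.sum_eq_single 0 (fun l hl hne => if_neg fun hh =>
      hne (S.pow_mul_eq_self (Finset.mem_range.1 hl) q.out.2 hh))
      (fun h0 => absurd (Finset.mem_range.2 S.e_pos) h0)]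
    simp
  · rw [if_neg h]
    refine Finset.sum_eq_zero fun l _ => if_neg fun hl => h ?_
    rw [← Quotient.out_eq q, ← Quotient.out_eq q']
    exact (Quotient.sound (s := S.orbSetoid) (⟨l, hl⟩ : S.orbSetoid.r q'.out q.out)).symm

open Classical in
theorem sum_col_regular (q : S.Col) {g : G} (hg : ¬ p ∣ orderOf g) :
    ∑ χ ∈ B.toFinset, (S.col χ q : ℂ) * (χ : G → ℂ) g = 0 := by
  simp only [col, S.ci_eq]
  rw [Finset.sum_subset (Finset.subset_univ B.toFinset) fun χ _ hχ => by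
    rw [S.cv_eq_zero (fun h => hχ (Set.mem_toFinset.2 h)), zero_mul]]
  exact S.sum_cv_regular _ hg

open Classical in
theorem rank_add_col_le : Cfsg.blockRank p B + Fintype.card S.Col ≤ B.toFinset.card := by
  let Φ : (B.toFinset → ℂ) →ₗ[ℂ] (G → ℂ) :=
    Fintype.linearCombination ℂ fun χ : B.toFinset => Cfsg.pRegularPart p (χ.1 : G → ℂ)
  have hrange : Module.finrank ℂ (LinearMap.range Φ) = Cfsg.blockRank p B := by
    rw [Fintype.range_linearCombination, Cfsg.blockRank]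
    refine Eq.trans ?_ rfl
    rw [show (Set.range fun χ : B.toFinset => Cfsg.pRegularPart p (χ.1 : G → ℂ)) =
      (fun χ : IrrCharacter G => Cfsg.pRegularPart p (χ : G → ℂ)) '' B from Set.ext fun f =>
        ⟨fun ⟨χ, hχ⟩ => ⟨χ, Set.mem_toFinset.1 χ.2, hχ⟩,
          fun ⟨χ, hχ, hf⟩ => ⟨⟨χ, Set.mem_toFinset.2 hχ⟩, hf⟩⟩]
  let w : S.Col → LinearMap.ker Φ := fun q => ⟨fun χ => (S.col χ.1 q : ℂ), by
    rw [LinearMap.mem_ker]
    funext g
    simp only [Φ, Fintype.linearCombination_apply, Finset.sum_apply, Pi.smul_apply, smul_eq_mul,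
      Pi.zero_apply, Cfsg.pRegularPart]
    split_ifs with hg
    · rw [← S.sum_col_regular q hg]
      exact Finset.sum_coe_sort B.toFinset fun χ => (S.col χ q : ℂ) * (χ : G → ℂ) g
    · simp⟩
  have hw : LinearIndependent ℂ w := by
    rw [Fintype.linearIndependent_iff]
    intro l hl
    have hl' := congrArg Subtype.val hl
    simp only [AddSubmonoidClass.coe_finsetSum, SetLike.val_smul, ZeroMemClass.coe_zero] at hl'
    have hq : ∀ q', (S.e : ℂ) * (∑ q, l q) + l q' = 0 := by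
      intro q'
      have h1 : ∑ q, l q * ((∑ χ ∈ B.toFinset, S.col χ q * S.col χ q' : ℤ) : ℂ) = 0 := by
        push_cast
        simp only [Finset.mul_sum, ← mul_assoc]
        rw [Finset.sum_comm]
        simp only [← Finset.sum_mul]
        refine Finset.sum_eq_zero fun χ hχ => ?_
        have h2 := congrFun hl' ⟨χ, hχ⟩
        simp only [w, Finset.sum_apply, Pi.smul_apply, smul_eq_mul, Pi.zero_apply] at h2
        rw [h2, zero_mul]
      simp only [S.gram_col] at h1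
      push_cast at h1
      simp only [mul_add, mul_ite, mul_zero, mul_one, Finset.sum_add_distrib, Finset.sum_ite_eq',
        Finset.mem_univ, if_true] at h1
      rw [← Finset.sum_mul, mul_comm] at h1
      exact h1
    have hS : (∑ q, l q) * ((S.e * Fintype.card S.Col : ℕ) + 1 : ℂ) = 0 := by
      have h2 : ∑ q', ((S.e : ℂ) * (∑ q, l q) + l q') = 0 := Finset.sum_eq_zero fun q' _ => hq q'
      rw [Finset.sum_add_distrib, Finset.sum_const, nsmul_eq_mul, Finset.card_univ] at h2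
      push_cast
      linear_combination h2
    have hS0 := (mul_eq_zero.1 hS).resolve_right (Nat.cast_add_one_ne_zero _)
    intro q
    have := hq q
    rwa [hS0, mul_zero, zero_add] at this
  have h1 := hw.fintype_card_le_finrank
  have h2 := LinearMap.finrank_range_add_finrank_ker Φ
  rw [Module.finrank_fintype_fun_eq_card, Fintype.card_coe, hrange] at h2
  omega

open Classical in
/-- The shape of the rows. -/
theorem exists_rows : Cfsg.blockRank p B = S.e ∧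
    ∃ (XF YF : Finset (IrrCharacter G)) (δ : IrrCharacter G → ℤ) (ι : IrrCharacter G → S.Col),
      XF ∪ YF = B.toFinset ∧ Disjoint XF YF ∧ XF.card = S.e ∧ YF.card = Fintype.card S.Col ∧
      (∀ χ, δ χ = 1 ∨ δ χ = -1) ∧ (∀ χ ∈ XF, ∀ q, S.col χ q = δ χ) ∧
      (∀ ψ ∈ YF, ∀ q, S.col ψ q = if q = ι ψ then δ ψ else 0) ∧
      ∀ q, ∃ ψ ∈ YF, ι ψ = q ∧ ∀ ψ' ∈ YF, ι ψ' = q → ψ' = ψ := by
  have hne : ∀ χ ∈ B.toFinset, ∃ q, S.col χ q ≠ 0 := by
    intro χ hχ
    obtain ⟨j, hj⟩ := S.exists_cv_ne_zero (Set.mem_toFinset.1 hχ)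
    have hj0 : j ≠ 0 := fun h => hj (h ▸ S.cv_zero χ)
    exact ⟨_, fun h => hj (by rw [S.cv_eq_col χ hj0, h, Int.cast_zero])⟩
  have hle := S.rank_add_col_le
  have hl := S.rank_le
  obtain ⟨hk, hrows⟩ := DefectOne.gram_rows S.e B.toFinset S.col S.gram_col hne (by omega)
  refine ⟨by omega, ?_⟩
  obtain ⟨j₀⟩ : Nonempty S.Col := by
    rw [← Fintype.card_pos_iff, Nat.pos_iff_ne_zero]
    intro h
    have h1 := S.card_col
    rw [h, mul_zero] at h1
    have := Nat.one_lt_pow (n := S.a) (by have := S.a_pos; omega) hp.out.one_lt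
    omega
  let ι : IrrCharacter G → S.Col := fun χ =>
    if h : ∃ q, S.col χ q ≠ 0 then h.choose else j₀
  let δ : IrrCharacter G → ℤ := fun χ =>
    if S.col χ (ι χ) = -1 then -1 else 1
  have hι : ∀ χ ∈ B.toFinset, S.col χ (ι χ) ≠ 0 := fun χ hχ => by
    simp only [ι, dif_pos (hne χ hχ)]
    exact (hne χ hχ).choose_spec
  have hrow : ∀ χ ∈ B.toFinset, (∀ q, S.col χ q = δ χ) ∨
      (∀ q, S.col χ q = if q = ι χ then δ χ else 0) := by
    intro χ hχ
    rcases hrows χ hχ with ⟨a, ha, hc⟩ | ⟨i, a, ha, hc⟩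
    · left
      intro q
      simp only [δ, hc]
      rcases ha with rfl | rfl <;> simp
    · right
      have hi : ι χ = i := by
        by_contra h
        exact hι χ hχ (by rw [hc, if_neg h])
      intro q
      simp only [δ, hc, hi, if_true]
      rcases ha with rfl | rfl <;> simp
  have hδ : ∀ χ, δ χ = 1 ∨ δ χ = -1 := fun χ => by
    simp only [δ]; split_ifs <;> simp
  have hdd : ∀ χ, δ χ * δ χ = 1 := fun χ => by rcases hδ χ with h | h <;> simp [h]
  rcases subsingleton_or_nontrivial S.Col with hsub | hnt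
  · have hm : Fintype.card S.Col = 1 := le_antisymm
      (Fintype.card_le_one_iff_subsingleton.2 hsub) (Fintype.card_pos_iff.2 ⟨j₀⟩)
    obtain ⟨x₀, hx₀⟩ : B.toFinset.Nonempty := Finset.card_pos.1 (by omega)
    refine ⟨B.toFinset.erase x₀, {x₀}, δ, ι, ?_, by simp, by rw [Finset.card_erase_of_mem hx₀]; omega,
      by rw [Finset.card_singleton, hm], hδ, fun χ hχ q => ?_, fun ψ hψ q => ?_, fun q => ?_⟩
    · rw [Finset.union_comm, ← Finset.insert_eq, Finset.insert_erase hx₀]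
    · rcases hrow χ (Finset.mem_of_mem_erase hχ) with h | h
      · exact h q
      · rw [h q, if_pos (Subsingleton.elim _ _)]
    · rw [Finset.mem_singleton] at hψ
      subst hψ
      rw [if_pos (Subsingleton.elim _ _)]
      rcases hrow ψ hx₀ with h | h
      · exact h q
      · rw [h q, if_pos (Subsingleton.elim _ _)]
    · exact ⟨x₀, Finset.mem_singleton_self _, Subsingleton.elim _ _,
        fun ψ' hψ' _ => Finset.mem_singleton.1 hψ'⟩
  set XF := B.toFinset.filter fun χ => ∀ q, S.col χ q = δ χ with hXF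
  set YF := B.toFinset.filter fun χ => ¬ ∀ q, S.col χ q = δ χ with hYF
  have hY : ∀ ψ ∈ YF, ∀ q, S.col ψ q = if q = ι ψ then δ ψ else 0 := fun ψ hψ =>
    (hrow ψ (Finset.mem_filter.1 hψ).1).resolve_left (Finset.mem_filter.1 hψ).2
  have hsplit : ∀ q q', (∑ χ ∈ XF, S.col χ q * S.col χ q') + ∑ ψ ∈ YF, S.col ψ q * S.col ψ q' =
      (S.e : ℤ) + if q = q' then 1 else 0 := fun q q' => by
    rw [hXF, hYF, Finset.sum_filter_add_sum_filter_not, S.gram_col]
  have hXsum : ∀ q q', ∑ χ ∈ XF, S.col χ q * S.col χ q' = (XF.card : ℤ) := fun q q' => by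
    rw [Finset.sum_congr rfl (g := fun _ => (1 : ℤ)) fun χ hχ => by
      rw [(Finset.mem_filter.1 hχ).2 q, (Finset.mem_filter.1 hχ).2 q', hdd]]
    simp
  have hYsum : ∀ q q', ∑ ψ ∈ YF, S.col ψ q * S.col ψ q' =
      if q = q' then ((YF.filter fun ψ => ι ψ = q).card : ℤ) else 0 := fun q q' => by
    split_ifs with h
    · subst h
      rw [Finset.sum_congr rfl (g := fun ψ => if ι ψ = q then (1 : ℤ) else 0) fun ψ hψ => by
        rw [hY ψ hψ]
        by_cases h : q = ι ψ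
        · rw [if_pos h, if_pos h.symm, hdd]
        · rw [if_neg h, if_neg (Ne.symm h), zero_mul], Finset.sum_boole]
    · refine Finset.sum_eq_zero fun ψ hψ => ?_
      rw [hY ψ hψ, hY ψ hψ]
      by_cases h1 : q = ι ψ
      · rw [if_neg (show q' ≠ ι ψ from fun h2 => h (h1.trans h2.symm)), mul_zero]
      · rw [if_neg h1, zero_mul]
  obtain ⟨q₁, q₂, hq⟩ := hnt
  have hXc : XF.card = S.e := by
    have := hsplit q₁ q₂
    rw [hXsum, hYsum, if_neg hq, if_neg hq] at this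
    omega
  have hone : ∀ q, (YF.filter fun ψ => ι ψ = q).card = 1 := fun q => by
    have := hsplit q q
    rw [hXsum, hYsum, if_pos rfl, if_pos rfl, hXc] at this
    omega
  refine ⟨XF, YF, δ, ι, Finset.filter_union_filter_not_eq _ _,
    Finset.disjoint_filter_filter_not _ _ _, hXc, ?_, hδ,
    fun χ hχ => (Finset.mem_filter.1 hχ).2, hY, fun q => ?_⟩
  · rw [Finset.card_eq_sum_card_fiberwise (f := ι) (t := Finset.univ) fun ψ _ => Finset.mem_univ _]
    simp [hone]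
  · obtain ⟨ψ, hψ⟩ := Finset.card_eq_one.1 (hone q)
    have h := Finset.ext_iff.1 hψ
    exact ⟨ψ, (Finset.mem_filter.1 ((h ψ).2 (Finset.mem_singleton_self ψ))).1,
      (Finset.mem_filter.1 ((h ψ).2 (Finset.mem_singleton_self ψ))).2,
      fun ψ' h1 h2 => Finset.mem_singleton.1 ((h ψ').1 (Finset.mem_filter.2 ⟨h1, h2⟩))⟩

open Classical in
/-- The conclusion: heights, the exceptional characters and the signs. -/
theorem main : Cfsg.blockRank p B = S.e ∧
    (∀ χ ∈ B, Cfsg.blockHeight p B (χ : G → ℂ) = 0) ∧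
    ∃ X Y : Set (IrrCharacter G), B = X ∪ Y ∧ Disjoint X Y ∧ Nat.card X = S.e ∧
      Nat.card Y = (p ^ S.a - 1) / S.e ∧
      (∀ ψ ∈ Y, ∀ ψ' ∈ Y, ∀ g : G, ¬ p ∣ orderOf g → (ψ : G → ℂ) g = (ψ' : G → ℂ) g) ∧
      ∃ (δ : IrrCharacter G → ℤ) (δ₀ : ℤ), (∀ χ ∈ X, δ χ = 1 ∨ δ χ = -1) ∧ (δ₀ = 1 ∨ δ₀ = -1) ∧
        (∀ ψ ∈ Y, ∀ g : G, ¬ p ∣ orderOf g →
          (δ₀ : ℂ) * (ψ : G → ℂ) g + ∑ᶠ χ ∈ X, (δ χ : ℂ) * (χ : G → ℂ) g = 0) ∧
        (∀ χ ∈ X, ∀ χ' ∈ X, δ χ * (Cfsg.charDegree (χ : G → ℂ) : ℤ) ≡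
          δ χ' * (Cfsg.charDegree (χ' : G → ℂ) : ℤ) [ZMOD (p : ℤ) ^ S.a]) ∧
        (∀ ψ ∈ Y, ∀ χ ∈ X, (Cfsg.charDegree (ψ : G → ℂ) : ℤ) ≡
          -((S.e : ℤ) * δ₀ * δ χ * (Cfsg.charDegree (χ : G → ℂ) : ℤ)) [ZMOD (p : ℤ) ^ S.a]) := by
  obtain ⟨hl, XF, YF, δ, ι, hun, hdis, hXc, hYc, hδ, hX, hY, huniq⟩ := S.exists_rows
  refine ⟨hl, ?_⟩
  have hdd : ∀ χ, δ χ * δ χ = 1 := fun χ => by rcases hδ χ with h | h <;> simp [h]
  -- relation in each column
  have hrel : ∀ ψ ∈ YF, ∀ g : G, ¬ p ∣ orderOf g →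
      (δ ψ : ℂ) * (ψ : G → ℂ) g + ∑ χ ∈ XF, (δ χ : ℂ) * (χ : G → ℂ) g = 0 := by
    intro ψ hψ g hg
    have h := S.sum_col_regular (ι ψ) hg
    obtain ⟨ψ₁, hψ₁, -, hu⟩ := huniq (ι ψ)
    rw [← hun, Finset.sum_union hdis,
      Finset.sum_congr rfl (g := fun χ => (δ χ : ℂ) * (χ : G → ℂ) g) fun χ hχ => by rw [hX χ hχ],
      Finset.sum_eq_single ψ (fun φ hφ hne => by
        rw [hY φ hφ, if_neg fun h => hne ((hu φ hφ h.symm).trans (hu ψ hψ rfl).symm)]
        simp) (fun hn => absurd hψ hn), hY ψ hψ, if_pos rfl] at h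
    rw [add_comm]
    exact h
  have hreg1 : ¬ p ∣ orderOf (1 : G) := by rw [orderOf_one]; exact hp.out.not_dvd_one
  have hpos : ∀ χ : IrrCharacter G, (0 : ℤ) < (Cfsg.charDegree (χ : G → ℂ) : ℤ) := fun χ => by
    have := Blocks.charDegree_ne_zero χ
    omega
  have hdeg : ∀ ψ ∈ YF, δ ψ * (Cfsg.charDegree (ψ : G → ℂ) : ℤ) +
      ∑ χ ∈ XF, δ χ * (Cfsg.charDegree (χ : G → ℂ) : ℤ) = 0 := by
    intro ψ hψ
    apply Int.cast_injective (α := ℂ)
    push_cast
    simp only [Blocks.charDegree_cast]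
    exact hrel ψ hψ 1 hreg1
  have hsame : ∀ ψ ∈ YF, ∀ ψ' ∈ YF, δ ψ = δ ψ' := by
    intro ψ hψ ψ' hψ'
    have h1 := hdeg ψ hψ
    have h2 := hdeg ψ' hψ'
    have := hpos ψ; have := hpos ψ'
    rcases hδ ψ with h | h <;> rcases hδ ψ' with h' | h' <;> rw [h] at h1 <;> rw [h'] at h2 <;>
      rw [h, h'] <;> omega
  obtain ⟨ψ₀, hψ₀⟩ : YF.Nonempty := Finset.card_pos.1 (by
    rw [hYc, Fintype.card_pos_iff]
    exact ⟨ι (Finset.card_pos.1 (show 0 < XF.card by rw [hXc]; exact S.e_pos)).choose⟩)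
  have hagree : ∀ ψ ∈ YF, ∀ ψ' ∈ YF, ∀ g : G, ¬ p ∣ orderOf g →
      (ψ : G → ℂ) g = (ψ' : G → ℂ) g := by
    intro ψ hψ ψ' hψ' g hg
    have h1 := hrel ψ hψ g hg
    rw [hsame ψ hψ ψ' hψ'] at h1
    refine mul_left_cancel₀ (a := (δ ψ' : ℂ)) ?_ (add_right_cancel (h1.trans (hrel ψ' hψ' g hg).symm))
    rcases hδ ψ' with h | h <;> simp [h]
  -- congruences
  set v₀ := (Nat.card G).factorization p
  have hcong : ∀ χ ∈ XF, ∀ χ' ∈ XF, δ χ * (Cfsg.charDegree (χ : G → ℂ) : ℤ) ≡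
      δ χ' * (Cfsg.charDegree (χ' : G → ℂ) : ℤ) [ZMOD (p : ℤ) ^ v₀] := by
    intro χ hχ χ' hχ'
    rw [Int.modEq_iff_dvd]
    let v : IrrCharacter G → ℤ := fun φ =>
      (if φ = χ' then δ χ' else 0) - if φ = χ then δ χ else 0
    have hsum : ∀ f : IrrCharacter G → ℂ, ∑ φ ∈ B.toFinset, (v φ : ℂ) * f φ =
        (δ χ' : ℂ) * f χ' - (δ χ : ℂ) * f χ := fun f => by
      simp only [v, Int.cast_sub, apply_ite (Int.cast : ℤ → ℂ), Int.cast_zero, sub_mul, ite_mul,
        zero_mul, Finset.sum_sub_distrib, Finset.sum_ite_eq', ← hun, Finset.mem_union, hχ, hχ',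
        true_or, if_true]
    have hvan : ∀ g : G, p ∣ orderOf g → ∑ φ ∈ B.toFinset, (v φ : ℂ) * (φ : G → ℂ) g = 0 := by
      refine fun g hg => S.sum_eq_zero_singular _ (fun j => ?_) hg
      rw [hsum fun φ => S.cv φ j]
      by_cases hj : j = 0
      · rw [hj, S.cv_zero, S.cv_zero]; ring
      rw [S.cv_eq_col χ hj, S.cv_eq_col χ' hj, hX χ hχ, hX χ' hχ', ← Int.cast_mul, ← Int.cast_mul,
        hdd, hdd, sub_self]
    have h := pow_dvd_degree_of_vanish B.toFinset v hvan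
    convert h using 1
    simp only [v, sub_mul, ite_mul, zero_mul, Finset.sum_sub_distrib, Finset.sum_ite_eq', ← hun,
      Finset.mem_union, hχ, hχ', true_or, if_true]
  have hYcong : ∀ ψ ∈ YF, ∀ χ ∈ XF, (Cfsg.charDegree (ψ : G → ℂ) : ℤ) ≡
      -((S.e : ℤ) * δ ψ₀ * δ χ * (Cfsg.charDegree (χ : G → ℂ) : ℤ)) [ZMOD (p : ℤ) ^ v₀] := by
    intro ψ hψ χ hχ
    have h1 := hdeg ψ hψ
    rw [hsame ψ hψ ψ₀ hψ₀] at h1
    have h2 : (S.e : ℤ) * (δ χ * (Cfsg.charDegree (χ : G → ℂ) : ℤ)) ≡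
        ∑ φ ∈ XF, δ φ * (Cfsg.charDegree (φ : G → ℂ) : ℤ) [ZMOD (p : ℤ) ^ v₀] := by
      rw [Int.modEq_iff_dvd, show (S.e : ℤ) * (δ χ * (Cfsg.charDegree (χ : G → ℂ) : ℤ)) =
        ∑ _φ ∈ XF, δ χ * (Cfsg.charDegree (χ : G → ℂ) : ℤ) by
          rw [Finset.sum_const, hXc, nsmul_eq_mul], ← Finset.sum_sub_distrib]
      exact Finset.dvd_sum fun φ hφ => Int.modEq_iff_dvd.1 (hcong χ hχ φ hφ)
    rw [show ∑ φ ∈ XF, δ φ * (Cfsg.charDegree (φ : G → ℂ) : ℤ) =
      -(δ ψ₀ * (Cfsg.charDegree (ψ : G → ℂ) : ℤ)) by linarith] at h2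
    have h3 := (h2.mul_left (-δ ψ₀)).symm
    rw [show -δ ψ₀ * -(δ ψ₀ * (Cfsg.charDegree (ψ : G → ℂ) : ℤ)) =
      δ ψ₀ * δ ψ₀ * (Cfsg.charDegree (ψ : G → ℂ) : ℤ) by ring, hdd, one_mul,
      show -δ ψ₀ * ((S.e : ℤ) * (δ χ * (Cfsg.charDegree (χ : G → ℂ) : ℤ))) =
        -((S.e : ℤ) * δ ψ₀ * δ χ * (Cfsg.charDegree (χ : G → ℂ) : ℤ)) by ring] at h3
    exact h3
  have hav : S.a ≤ v₀ := by
    have := (Nat.factorization_le_iff_dvd Nat.card_pos.ne' Nat.card_pos.ne').2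
      S.D.card_subgroup_dvd_card p
    rwa [S.card_D, hp.out.factorization_pow, Finsupp.single_eq_same] at this
  -- heights
  have hB : ∀ χ, χ ∈ B ↔ χ ∈ XF ∨ χ ∈ YF := fun χ => by
    rw [← Set.mem_toFinset, ← hun, Finset.mem_union]
  obtain ⟨χ₁, hχ₁⟩ : XF.Nonempty := Finset.card_pos.1 (by rw [hXc]; exact S.e_pos)
  have hbase : ∀ φ ∈ B, ∃ c : ℤ, IsCoprime (p : ℤ) c ∧ (Cfsg.charDegree (φ : G → ℂ) : ℤ) ≡
      c * (Cfsg.charDegree (χ₁ : G → ℂ) : ℤ) [ZMOD (p : ℤ) ^ v₀] := by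
    have hpe : IsCoprime (p : ℤ) (S.e : ℤ) := by
      rw [Nat.isCoprime_iff_coprime]
      refine hp.out.coprime_iff_not_dvd.2 fun h => ?_
      have h1 := Nat.le_of_dvd S.e_pos h
      have h3 := hp.out.two_le
      have h2 := Nat.le_of_dvd (by omega) S.e_dvd
      omega
    have hu : ∀ φ, IsCoprime (p : ℤ) (δ φ) := fun φ => by
      rcases hδ φ with h | h <;> rw [h]
      · exact isCoprime_one_right
      · exact isCoprime_one_right.neg_right
    intro φ hφ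
    rcases (hB φ).1 hφ with h | h
    · refine ⟨δ φ * δ χ₁, (hu φ).mul_right (hu χ₁), ?_⟩
      have := (hcong φ h χ₁ hχ₁).mul_left (δ φ)
      rwa [← mul_assoc, hdd, one_mul, ← mul_assoc] at this
    · refine ⟨-((S.e : ℤ) * δ ψ₀ * δ χ₁), ((hpe.mul_right (hu ψ₀)).mul_right (hu χ₁)).neg_right, ?_⟩
      have := hYcong φ h χ₁ hχ₁
      rwa [← neg_mul] at this
  have hval : ∀ φ ∈ B, ∀ j ≤ v₀, ((p : ℤ) ^ j ∣ (Cfsg.charDegree (φ : G → ℂ) : ℤ) ↔
      (p : ℤ) ^ j ∣ (Cfsg.charDegree (χ₁ : G → ℂ) : ℤ)) := by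
    intro φ hφ j hj
    obtain ⟨c, hc, hmod⟩ := hbase φ hφ
    rw [(Int.ModEq.of_dvd (pow_dvd_pow _ hj) hmod).dvd_iff]
    exact ⟨fun h => hc.pow_left.dvd_of_dvd_mul_left h, fun h => h.mul_left c⟩
  obtain ⟨φ₀, hφ₀, he₀⟩ := Blocks.exists_degree_eq S.mod S.block S.defect
  rw [S.card_D, hp.out.factorization_pow, Finsupp.single_eq_same] at he₀
  have hall : ∀ φ ∈ B, (Cfsg.charDegree (φ : G → ℂ)).factorization p =
      (Cfsg.charDegree (φ₀ : G → ℂ)).factorization p := by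
    have hiff : ∀ φ ∈ B, ∀ j ≤ v₀, (j ≤ (Cfsg.charDegree (φ : G → ℂ)).factorization p ↔
        j ≤ (Cfsg.charDegree (φ₀ : G → ℂ)).factorization p) := by
      intro φ hφ j hj
      rw [← hp.out.pow_dvd_iff_le_factorization (Blocks.charDegree_ne_zero φ),
        ← hp.out.pow_dvd_iff_le_factorization (Blocks.charDegree_ne_zero φ₀),
        ← Int.natCast_dvd_natCast, ← Int.natCast_dvd_natCast, Nat.cast_pow,
        hval φ hφ j hj, hval φ₀ hφ₀ j hj]
    intro φ hφ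
    have := S.a_pos
    have h1 := (hiff φ hφ ((Cfsg.charDegree (φ₀ : G → ℂ)).factorization p) (by omega)).2 le_rfl
    refine le_antisymm ?_ h1
    by_contra hlt
    have h2 := (hiff φ hφ ((Cfsg.charDegree (φ₀ : G → ℂ)).factorization p + 1) (by omega)).1
      (by omega)
    omega
  refine ⟨fun φ hφ => ?_, (XF : Set (IrrCharacter G)), (YF : Set (IrrCharacter G)), ?_,
    Finset.disjoint_coe.2 hdis, ?_, ?_, hagree, δ, δ ψ₀, fun χ _ => hδ χ, hδ ψ₀,
    fun ψ hψ g hg => ?_, fun χ hχ χ' hχ' => ?_, fun ψ hψ χ hχ => ?_⟩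
  · simp only [Cfsg.blockHeight]
    rw [Nat.sub_eq_zero_iff_le]
    refine le_csInf ⟨_, φ, hφ, rfl⟩ ?_
    rintro _ ⟨φ', hφ', rfl⟩
    rw [hall φ hφ, ← hall φ' hφ']
  · exact Set.ext fun χ => hB χ
  · rw [Nat.card_coe_set_eq, Set.ncard_coe_finset, hXc]
  · rw [Nat.card_coe_set_eq, Set.ncard_coe_finset, hYc, ← S.card_col,
      Nat.mul_div_cancel_left _ S.e_pos]
  · rw [finsum_mem_coe_finset, ← hsame ψ hψ ψ₀ hψ₀]
    exact hrel ψ hψ g hg
  · exact Int.ModEq.of_dvd (pow_dvd_pow _ hav) (hcong χ hχ χ' hχ')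
  · exact Int.ModEq.of_dvd (pow_dvd_pow _ hav) (hYcong ψ hψ χ hχ)

end Setup

end CfsgLib.CyclicDefect
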