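import Cfsg.Agent.CyclicDefect.Labels
import Cfsg.Agent.BlockPairing.RegularInner
import Cfsg.Agent.BlocksLocal.TwoCharacters
import Cfsg.Agent.Characters.BrauerInduction

/-!
# A lifted primitive idempotent of a nilpotent block with cyclic defect group has rank one

The ranks of the lifts are equal for all members and primitive idempotents; their common value
divides the multiplicities on the subgroups of order prime to `p`, so it is a power of `p` which is
prime to `p`.
-/

set_option autoImplicit false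
set_option linter.unusedSectionVars false
set_option linter.style.haveILetI false

namespace CfsgLib.CyclicDefect

open Cfsg CfsgLib.BlockPairs CfsgLib.Star
open CfsgLib.Blocks (localRing red Res idemBar setIdemO isBlockUnion_of_isPBlock
  memLocalRing_blockCoeff)
open scoped ComplexConjugate

universe u

variable {p : ℕ} [hp : Fact p.Prime] {M : Ideal AlgInt} [M.IsPrime] {G : Type u} [Group G]
  [Fintype G]

theorem gblk_eq_idemBar {B : Set (IrrCharacter G)} (hB : Cfsg.IsPBlock M B) :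
    gblk M B = (idemBar M B (isBlockUnion_of_isPBlock hB) : GA (Res M) G) := by
  refine ga_ext fun g => ?_
  rw [gblk, blkE_eq _ (isBlockUnion_of_isPBlock hB)]
  exact emb_coeff_apply (φ := MonoidHom.id G) Function.injective_id _ g

theorem tau_eq_trace {n : ℕ} (ρ : Representation ℂ G (Fin n → ℂ))
    (a : MonoidAlgebra (localRing M) G) :
    tau M ρ.character a = LinearMap.trace ℂ _
      (ρ.asAlgebraHom (MonoidAlgebra.mapRingHom G (localRing M).subtype a)) := by
  rw [CfsgLib.Blocks.trace_asAlgebraHom]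
  rfl

/-- The trace of an idempotent is a natural number; if it is one, the trace is multiplicative on
the corner. -/
theorem exists_rank {χ : G → ℂ} (hχ : Cfsg.IsCharacter G χ) {E : MonoidAlgebra (localRing M) G}
    (hE : E * E = E) :
    ∃ m : ℕ, tau M χ E = m ∧ (m = 1 → ∀ a b : MonoidAlgebra (localRing M) G,
      tau M χ (E * a * E * (E * b * E)) = tau M χ (E * a * E) * tau M χ (E * b * E)) := by
  classical
  obtain ⟨n, ρ, rfl⟩ := hχ
  set φ := (ρ.asAlgebraHom.toRingHom.comp (MonoidAlgebra.mapRingHom G (localRing M).subtype))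
  have hφ : ∀ a, tau M ρ.character a = LinearMap.trace ℂ _ (φ a) := fun a => tau_eq_trace ρ a
  set P := φ E
  have hP : P * P = P := by rw [← map_mul, hE]
  have hproj : LinearMap.IsProj (LinearMap.range P) P :=
    ⟨fun x => LinearMap.mem_range_self _ x, fun x ⟨y, hy⟩ => by
      rw [← hy, ← Module.End.mul_apply, hP]⟩
  refine ⟨Module.finrank ℂ (LinearMap.range P), by rw [hφ, hproj.trace], fun h1 a b => ?_⟩
  have key : ∀ a, φ (E * a * E) = tau M ρ.character (E * a * E) • P := by
    intro a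
    obtain ⟨⟨w, hw⟩, -, hspan⟩ := finrank_eq_one_iff'.1 h1
    set A := φ (E * a * E) with hA
    have hAP : A * P = A := by rw [hA, ← map_mul, mul_assoc, hE]
    have hPA : P * A = A := by rw [hA, ← map_mul, ← mul_assoc, ← mul_assoc, hE]
    obtain ⟨c, hc⟩ := hspan ⟨A w, by
      refine ⟨A w, ?_⟩
      rw [← Module.End.mul_apply, hPA]⟩
    have hc' : c • w = A w := congrArg Subtype.val hc
    have hAc : A = c • P := by
      refine LinearMap.ext fun x => ?_
      obtain ⟨d, hd⟩ := hspan ⟨P x, LinearMap.mem_range_self _ x⟩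
      have hd' : d • w = P x := congrArg Subtype.val hd
      rw [← hAP, Module.End.mul_apply, LinearMap.smul_apply, ← hd', map_smul, ← hc', smul_comm]
    rw [hφ, ← hA]
    conv_rhs => rw [hAc, map_smul, hproj.trace, h1, Nat.cast_one, smul_eq_mul, mul_one]
    exact hAc
  rw [hφ (E * a * E * (E * b * E)), map_mul, key a, key b, smul_mul_smul_comm, hP, map_smul,
    hproj.trace, h1, Nat.cast_one, smul_eq_mul, mul_one]

namespace Nil

variable [CharP (Res M) p] [IsAlgClosed (Res M)] (𝒩 : Nil p M G)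

theorem regular_eq {φ : IrrCharacter G} (hφ : φ ∈ 𝒩.B) {g : G} (hg : ¬ p ∣ orderOf g) :
    (φ : G → ℂ) g = (𝒩.χ : G → ℂ) g := by
  obtain ⟨j, rfl⟩ := 𝒩.exists_xi hφ
  exact 𝒩.xi_regular j hg

theorem eqv {s : Finset (GA (Res M) G)}
    (hs : Star.IsDecomp (⊤ : Subalgebra (Res M) (GA (Res M) G)) (gblk M 𝒩.B) s) :
    ∀ a ∈ s, ∀ b ∈ s, Star.Eqv (⊤ : Subalgebra (Res M) (GA (Res M) G)) a b := by
  classical
  rw [gblk_eq_idemBar 𝒩.block] at hs
  refine BlocksLocal.eqv_of_regular_proportional (p := p) _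
    (∑ χ ∈ 𝒩.B.toFinite.toFinset, BlocksLocal.classVec χ) (fun y hy => ?_) hs
  refine Submodule.mem_span_singleton.2 ⟨(𝒩.χ : G → ℂ) y, ?_⟩
  rw [Finset.smul_sum]
  exact Finset.sum_congr rfl fun φ hφ => by
    rw [𝒩.regular_eq ((Set.Finite.mem_toFinset _).1 hφ) hy]

variable {s : Finset (GA (Res M) G)}
  (hs : Star.IsDecomp (⊤ : Subalgebra (Res M) (GA (Res M) G)) (gblk M 𝒩.B) s)
  {i : GA (Res M) G} (hi : i ∈ s)

include hs hi

/-- The trace of an idempotent of the block is a multiple of that of `i`. -/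
theorem exists_mul_T {f : GA (Res M) G} (hf : f * f = f) (hbf : gblk M 𝒩.B * f = f)
    {φ : G → ℂ} (hφ : Cfsg.IsClassFunction G φ) :
    ∃ m : ℕ, T M φ 1 f = m * T M φ 1 i := by
  classical
  obtain ⟨t, ht⟩ := Star.exists_decomp (A := (⊤ : Subalgebra (Res M) (GA (Res M) G))) trivial hf
  refine ⟨t.card, ?_⟩
  rw [← ht.2.2, T_sum hφ 1 t (fun a => a) (fun a ha => (ht.1 a ha).2.1)
    (fun a ha b hb hab => ht.2.1 a ha b hb hab) (fun a _ => conjA_one_left a),
    Finset.sum_congr rfl (g := fun _ => T M φ 1 i), Finset.sum_const, nsmul_eq_mul]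
  intro a ha
  have hba : gblk M 𝒩.B * a = a := by
    rw [← (ht.mul_mem_eq ha).1, ← mul_assoc, hbf]
  obtain ⟨a', ha', he⟩ := Star.exists_eqv_mem hs (ht.1 a ha) hba
  obtain ⟨x, -, y, -, hxy, hyx⟩ :=
    he.trans (𝒩.eqv hs a' ha' i hi) (ht.1 a ha).2.1 (hs.1 i hi).2.1
  exact T_equiv hφ (ht.1 a ha).2.1 (hs.1 i hi).2.1 hxy hyx (conjA_one_left x) (conjA_one_left y)

/-- The rank divides the multiplicities on groups of order prime to `p`. -/
theorem exists_mul_linear {L : Type u} [Group L] [Fintype L] (hL : ¬ p ∣ Fintype.card L)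
    (f : L →* G) (l : L →* ℂˣ) :
    ∃ m : ℕ, Cfsg.classInner (fun x : L => (𝒩.χ : G → ℂ) (f x)) (fun x : L => (l x : ℂ)) =
      m * T M (𝒩.χ : G → ℂ) 1 i := by
  classical
  have hinv : Cfsg.MemLocalRing M ((Fintype.card L : ℂ)⁻¹) :=
    CfsgLib.Blocks.memLocalRing_natCast_inv 𝒩.mod hL
  have hl : ∀ x : L, Cfsg.MemLocalRing M (l x : ℂ) := fun x =>
    CfsgLib.Blocks.memLocalRing_of_isIntegral
      (IsIntegral.of_pow (orderOf_pos x) (by
        rw [← Units.val_pow_eq_pow_val, ← map_pow, pow_orderOf_eq_one, map_one, Units.val_one]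
        exact isIntegral_one))
  let cl : L → localRing M := fun x => ⟨(Fintype.card L : ℂ)⁻¹, hinv⟩ * ⟨(l x⁻¹ : ℂ), hl x⁻¹⟩
  set ε : MonoidAlgebra (localRing M) G := ∑ x : L, MonoidAlgebra.single (f x) (cl x) with hε
  have hεε : ε * ε = ε := by
    rw [hε, Finset.sum_mul_sum]
    simp only [MonoidAlgebra.single_mul_single, ← map_mul]
    have hcl : ∀ x y : L, cl x * cl y =
        ⟨(Fintype.card L : ℂ)⁻¹, hinv⟩ * cl (x * y) := fun x y => Subtype.ext (by
      simp only [cl, Subring.coe_mul, mul_inv_rev, map_mul, Units.val_mul]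
      ring)
    simp only [hcl]
    calc _ = ∑ _x : L, ∑ y : L,
          MonoidAlgebra.single (f y) (⟨(Fintype.card L : ℂ)⁻¹, hinv⟩ * cl y) := by
          refine Finset.sum_congr rfl fun x _ => ?_
          exact Fintype.sum_equiv (Equiv.mulLeft x) _ _ fun y => rfl
      _ = _ := by
          rw [Finset.sum_const, Finset.smul_sum, Finset.card_univ]
          refine Finset.sum_congr rfl fun y _ => ?_
          rw [MonoidAlgebra.smul_single]
          congr 1
          refine Subtype.ext ?_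
          rw [nsmul_eq_mul, Subring.coe_mul, Subring.coe_mul, ← mul_assoc]
          rw [show ((Fintype.card L : localRing M) : ℂ) = (Fintype.card L : ℂ) from
            map_natCast (localRing M).subtype _]
          rw [mul_inv_cancel₀ (Nat.cast_ne_zero.2 Fintype.card_ne_zero), one_mul]
  have hBu := isBlockUnion_of_isPBlock 𝒩.block
  set F : MonoidAlgebra (localRing M) G :=
    (setIdemO M 𝒩.B (memLocalRing_blockCoeff hBu) : MonoidAlgebra (localRing M) G) with hF
  have hFc : Commute ε F := Subring.mem_center_iff.1 (setIdemO M 𝒩.B (memLocalRing_blockCoeff hBu)).2 ε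
  have hFF : F * F = F := by
    rw [hF, ← Subring.coe_mul]
    congr 1
    exact CfsgLib.Blocks.ctr_ext_omegaO fun ψ => by
      rw [map_mul, CfsgLib.Blocks.omegaO_setIdemO]; split_ifs <;> simp
  have hidem : F * ε * (F * ε) = F * ε := by rw [hFc.mul_mul_mul_comm, hFF, hεε]
  have hcl := Characters.isClassFunction_of_isIrr 𝒩.χ.2
  obtain ⟨m, hm⟩ := 𝒩.exists_mul_T hs hi (f := rho M G (F * ε)) (by rw [← map_mul, hidem])
    (by rw [← gblk_eq hBu, ← hF, ← map_mul, ← mul_assoc, hFF]) hcl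
  refine ⟨m, ?_⟩
  rw [← hm, T_eq hcl hidem ⟨by rw [← MonoidAlgebra.one_def]; exact Commute.one_left _, rfl⟩,
    ← MonoidAlgebra.one_def, one_mul, hF, tau_mul_setIdemO 𝒩.χ hBu, if_pos 𝒩.mem, hε, map_sum,
    Cfsg.classInner, Finset.mul_sum]
  refine Finset.sum_congr rfl fun x _ => ?_
  rw [← Characters.character_inv (Characters.isCharacter_of_isIrr (TwoClasses.isIrr_linear l)),
    tau_apply, Finset.sum_eq_single (f x) (fun b _ hb => by simp [Ne.symm hb]) (by simp)]
  simp only [MonoidAlgebra.coeff_single, Finsupp.single_eq_same, cl, Subring.coe_mul,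
    Nat.card_eq_fintype_card]
  ring

/-- The quotient by the rank is a generalized character on groups of order prime to `p`. -/
theorem isGen_div {L : Type u} [Group L] [Fintype L] (hL : ¬ p ∣ Fintype.card L) (f : L →* G)
    {c : ℂ} (hc : T M (𝒩.χ : G → ℂ) 1 i = c) (hc0 : c ≠ 0) :
    Cfsg.IsGeneralizedCharacter L fun x : L => c⁻¹ * (𝒩.χ : G → ℂ) (f x) := by
  classical
  have hcl : Cfsg.IsClassFunction L fun x : L => (𝒩.χ : G → ℂ) (f x) := fun a b => by
    simp only [map_mul, map_inv]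
    exact Characters.isClassFunction_of_isIrr 𝒩.χ.2 _ _
  refine Characters.isGen_of_classInner (fun a b => by
    exact congrArg (c⁻¹ * ·) (hcl a b)) fun θ => ?_
  obtain ⟨l, -, hl⟩ := Characters.brauer_induction (Characters.isCharacter_of_isIrr θ.2)
  rw [hl]
  clear hl
  induction l with
  | nil => exact ⟨0, by simp [Cfsg.classInner]⟩
  | cons t l ih =>
    obtain ⟨z, hz⟩ := ih
    haveI := Fintype.ofFinite t.1
    have hLE : ¬ p ∣ Fintype.card t.1 := fun h => hL (h.trans (by
      rw [← Nat.card_eq_fintype_card, ← Nat.card_eq_fintype_card]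
      exact Subgroup.card_subgroup_dvd_card _))
    obtain ⟨m, hm⟩ := 𝒩.exists_mul_linear hs hi hLE (f.comp t.1.subtype) t.2.1
    refine ⟨t.2.2 * m + z, ?_⟩
    rw [List.map_cons, List.sum_cons, Characters.classInner_add_right, hz,
      Characters.classInner_smul_right, Characters.classInner_indFun_right _ _ (χ := fun x : L => c⁻¹ * (𝒩.χ : G → ℂ) (f x)) (fun a b =>
        congrArg (c⁻¹ * ·) (hcl a b)),
      show (fun h : t.1 => c⁻¹ * (𝒩.χ : G → ℂ) (f (h : L))) =
        c⁻¹ • (fun h : t.1 => (𝒩.χ : G → ℂ) ((f.comp t.1.subtype) h)) from rfl,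
      Characters.classInner_smul_left, hm, hc]
    simp only [map_intCast]
    push_cast
    field_simp

/-- The rank is one. -/
theorem T_one_eq : T M (𝒩.χ : G → ℂ) 1 i = 1 := by
  classical
  have hcl := Characters.isClassFunction_of_isIrr 𝒩.χ.2
  obtain ⟨E, hE, hEz⟩ := exists_lift (M := M) i (hs.1 i hi).2.1
  have hEz1 := hEz 1 (conjA_one_left i)
  obtain ⟨c, hc, -⟩ := exists_rank (Characters.isCharacter_of_isIrr 𝒩.χ.2) hE
  have hT : T M (𝒩.χ : G → ℂ) 1 i = c := by
    rw [T_eq hcl hE hEz1, ← MonoidAlgebra.one_def, one_mul, hc]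
  have hc0 : c ≠ 0 := by
    rintro rfl
    obtain ⟨m, hm⟩ := 𝒩.exists_mul_T hs hi (f := gblk M 𝒩.B) (isBlock_gblk 𝒩.block).idem
      (isBlock_gblk 𝒩.block).idem hcl
    have hBu := isBlockUnion_of_isPBlock 𝒩.block
    have hidem : (setIdemO M 𝒩.B (memLocalRing_blockCoeff hBu) :
        MonoidAlgebra (localRing M) G) * (setIdemO M 𝒩.B (memLocalRing_blockCoeff hBu) :
        MonoidAlgebra (localRing M) G) = (setIdemO M 𝒩.B (memLocalRing_blockCoeff hBu) :
        MonoidAlgebra (localRing M) G) := by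
      rw [← Subring.coe_mul]
      congr 1
      exact CfsgLib.Blocks.ctr_ext_omegaO fun ψ => by
        rw [map_mul, CfsgLib.Blocks.omegaO_setIdemO]; split_ifs <;> simp
    rw [hT, Nat.cast_zero, mul_zero, T_eq hcl hidem
        ⟨by rw [← MonoidAlgebra.one_def]; exact Commute.one_left _, gblk_eq hBu⟩,
      ← MonoidAlgebra.one_def, one_mul, ← mul_one (setIdemO M 𝒩.B (memLocalRing_blockCoeff hBu) :
        MonoidAlgebra (localRing M) G), tau_mul_setIdemO 𝒩.χ hBu, if_pos 𝒩.mem, tau_apply,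
      Finset.sum_eq_single (1 : G) (fun b _ hb => by simp [MonoidAlgebra.one_def, Ne.symm hb])
        (by simp)] at hm
    exact Characters.irr_one_ne_zero 𝒩.χ.2 (by simpa [MonoidAlgebra.one_def] using hm)
  have hcC : (c : ℂ) ≠ 0 := Nat.cast_ne_zero.2 hc0
  set a := (Nat.card G).factorization p
  -- the quotient of the regular part
  have hη : Cfsg.IsGeneralizedCharacter G
      (fun g => BlockPairing.regOne p g * ((c : ℂ)⁻¹ * (𝒩.χ : G → ℂ) g)) := by
    have hclass : Cfsg.IsClassFunction G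
        (fun g => BlockPairing.regOne p g * ((c : ℂ)⁻¹ * (𝒩.χ : G → ℂ) g)) := fun g h => by
      simp only [hcl g h, BlockPairing.regOne_isClassFunction p g h]
    refine Characters.isGen_of_elementary hclass fun E' q hq hE' => ?_
    obtain ⟨H, hHn, hmem, d, hd⟩ := BlockPairing.exists_regular_subgroup (p := p) hq hE'
    haveI := Fintype.ofFinite E'
    haveI := Fintype.ofFinite H
    have hHp : ¬ p ∣ Fintype.card H := fun h => by
      obtain ⟨x, hx⟩ := exists_prime_orderOf_dvd_card p h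
      exact (hmem x).1 x.2 (by rw [Subgroup.orderOf_coe, hx])
    have hda : d ≤ a := by
      refine (hp.out.pow_dvd_iff_le_factorization Nat.card_pos.ne').1 (hd ▸ ?_)
      exact (Subgroup.index_dvd_card H).trans (Subgroup.card_subgroup_dvd_card E')
    have hfun : (fun e : E' => BlockPairing.regOne p (e : G) *
        ((c : ℂ)⁻¹ * (𝒩.χ : G → ℂ) (e : G))) = ((p ^ (a - d) : ℤ) : ℂ) •
          Cfsg.indFun H (fun h : H => (1 : ℂ) * ((c : ℂ)⁻¹ * (𝒩.χ : G → ℂ) ((h : E') : G))) := by
      rw [Characters.indFun_mul H (fun _ => (1 : ℂ))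
        (χ := fun e : E' => (c : ℂ)⁻¹ * (𝒩.χ : G → ℂ) (e : G)) (fun x y => by
          show (c : ℂ)⁻¹ * _ = (c : ℂ)⁻¹ * _
          congr 1
          simp only [Subgroup.coe_mul, Subgroup.coe_inv]
          exact hcl _ _)]
      funext e
      rw [Pi.smul_apply, smul_eq_mul, BlockPairing.regOne, Subgroup.orderOf_coe]
      by_cases he : p ∣ orderOf e
      · rw [if_pos he, OddOrderChar.indFun_normal_eq_zero H _ fun h => (hmem e).1 h he, zero_mul,
          mul_zero]
      · rw [if_neg he]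
        have h := OddOrderChar.indFun_normal_apply H (fun _ => (1 : ℂ)) ⟨e, (hmem e).2 he⟩
        simp only [OddOrderChar.conjBy, Finset.sum_const, Finset.card_univ,
          ← Nat.card_eq_fintype_card, nsmul_eq_mul, mul_one] at h
        rw [h, ← Subgroup.index_mul_card H, hd]
        push_cast
        rw [mul_comm ((p : ℂ) ^ d) _, inv_mul_cancel_left₀ (Nat.cast_ne_zero.2 Nat.card_pos.ne'),
          ← mul_assoc ((p : ℂ) ^ (a - d)), ← pow_add, Nat.sub_add_cancel hda]
    rw [hfun]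
    refine Characters.isGen_zsmul (Characters.isGen_indFun H ?_) _
    simp only [one_mul]
    exact 𝒩.isGen_div hs hi hHp (E'.subtype.comp H.subtype) hT hcC
  obtain ⟨z, hz⟩ := Characters.classInner_gen hη (Characters.isGen_of_isIrr 𝒩.χ.2)
  have hself := Star.contrib_self 𝒩.mod 𝒩.block 𝒩.max 𝒩.nilp 𝒩.mem 𝒩.height
  have hcon := Contributions.cast_contrib (p := p) 𝒩.mem 𝒩.χ
  rw [hself, Int.cast_one] at hcon
  set d := Cfsg.blockDefect p 𝒩.B
  have hreg : Cfsg.classInner (fun g => BlockPairing.regOne p g * ((c : ℂ)⁻¹ * (𝒩.χ : G → ℂ) g))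
      (𝒩.χ : G → ℂ) = (c : ℂ)⁻¹ * (((p ^ a : ℕ) : ℂ) *
        BlockPairing.regInner p (𝒩.χ : G → ℂ) (𝒩.χ : G → ℂ)) := by
    rw [BlockPairing.pow_mul_regInner, ← Characters.classInner_smul_left]
    congr 1
    funext g
    simp only [Pi.smul_apply, Pi.mul_apply, smul_eq_mul]
    ring
  rw [hreg] at hz
  have hnat : (z * ((c : ℤ) * (p : ℤ) ^ d) : ℤ) = (p : ℤ) ^ a := by
    refine Int.cast_injective (α := ℂ) ?_
    push_cast at hcon hz ⊢
    rw [← hz]
    field_simp
    linear_combination -((p : ℂ) ^ a) * hcon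
  have hdvd : c ∣ p ^ a := Int.natCast_dvd_natCast.1 ⟨z * (p : ℤ) ^ d, by
    push_cast; rw [← hnat]; ring⟩
  obtain ⟨j, -, rfl⟩ := (Nat.dvd_prime_pow hp.out).1 hdvd
  rcases Nat.eq_zero_or_pos j with rfl | hj
  · rw [hT, pow_zero, Nat.cast_one]
  exfalso
  have hvan : ∀ y : G, ¬ p ∣ orderOf y → Cfsg.MemLocalIdeal M ((𝒩.χ : G → ℂ) y) := by
    intro y hy
    haveI := Fintype.ofFinite (Subgroup.zpowers y)
    have hgen := 𝒩.isGen_div hs hi (L := Subgroup.zpowers y)
      (by rw [← Nat.card_eq_fintype_card, Nat.card_zpowers]; exact hy) (Subgroup.zpowers y).subtype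
      hT hcC
    obtain ⟨a', b', ha', hb', heq⟩ := hgen
    have hval : Cfsg.MemLocalRing M (((p ^ j : ℕ) : ℂ)⁻¹ * (𝒩.χ : G → ℂ) y) := by
      have h := congrFun heq ⟨y, Subgroup.mem_zpowers y⟩
      refine CfsgLib.Blocks.memLocalRing_of_isIntegral ?_
      rw [show ((p ^ j : ℕ) : ℂ)⁻¹ * (𝒩.χ : G → ℂ) y =
        (a' - b') ⟨y, Subgroup.mem_zpowers y⟩ from h, Pi.sub_apply]
      exact (Characters.character_isIntegral ha' _).sub (Characters.character_isIntegral hb' _)
    have hpI : Cfsg.MemLocalIdeal M ((p ^ j : ℕ) : ℂ) := by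
      obtain ⟨l, rfl⟩ := Nat.exists_eq_succ_of_ne_zero hj.ne'
      rw [pow_succ, Nat.cast_mul]
      exact CfsgLib.Blocks.memLocalIdeal_mul_left (CfsgLib.Blocks.memLocalRing_natCast _)
        ((CfsgLib.Blocks.memLocalIdeal_natCast_iff 𝒩.mod p).2 dvd_rfl)
    have := CfsgLib.Blocks.memLocalIdeal_mul_right hpI hval
    rwa [← mul_assoc, mul_inv_cancel₀ hcC, one_mul] at this
  obtain ⟨φ, hφ, hmin, -⟩ := BlockPairing.exists_minimal (p := p) 𝒩.block
  refine BlockPairing.regSum_not_mem_of_minimal 𝒩.mod 𝒩.block hφ hmin 𝒩.mem ?_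
  haveI := Fintype.ofFinite (ConjClasses G)
  rw [BlockPairing.regSum_eq_classes]
  refine CfsgLib.Blocks.memLocalIdeal_sum _ fun C _ => ?_
  split_ifs with hC
  · exact CfsgLib.Blocks.memLocalIdeal_zero
  · refine CfsgLib.Blocks.memLocalIdeal_mul_left (CfsgLib.Blocks.memLocalRing_centralChar _ _) ?_
    rw [← Characters.character_inv (Characters.isCharacter_of_isIrr φ.2),
      𝒩.regular_eq hφ (by rwa [orderOf_inv])]
    exact hvan _ (by rwa [orderOf_inv])

/-- All members have rank one on `i`. -/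
theorem T_xi_one (j : ZMod 𝒩.n) : T M (𝒩.xi j : G → ℂ) 1 i = 1 := by
  obtain ⟨E, hE, hEz⟩ := exists_lift (M := M) i (hs.1 i hi).2.1
  let 𝒩' : Nil p M G := { 𝒩 with χ := 𝒩.xi j, mem := 𝒩.xi_mem j, height := 𝒩.xi_height j }
  exact 𝒩'.T_one_eq hs hi

end Nil

end CfsgLib.CyclicDefect
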