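import Cfsg.Agent.CyclicDefect.Main
import Cfsg.Agent.CyclicDefect.Local
import Cfsg.Agent.CyclicDefect.Inertia

/-!
# Blocks with cyclic defect groups: rank, heights and the sign relation
-/

set_option autoImplicit false
set_option linter.unusedSectionVars false
set_option linter.style.haveILetI false

namespace CfsgLib.CyclicDefect

open Cfsg

universe u

/-- The setting, from a block of the centralizer inducing the block. -/
theorem exists_setup_of_induced {G : Type u} [Group G] [Fintype G] (p : ℕ) [Fact p.Prime]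
    (M : Ideal Cfsg.AlgInt) [M.IsPrime] [CharP (CfsgLib.Blocks.Res M) p]
    [IsAlgClosed (CfsgLib.Blocks.Res M)] (hM : Cfsg.IsPModular p M) (D : Subgroup G)
    (hD : IsCyclic D) (a : ℕ) (ha : 1 ≤ a) (hDa : Nat.card D = p ^ a)
    (B : Set (Cfsg.IrrCharacter G)) (hBD : Cfsg.IsDefectGroup p M B D)
    (b : Set (Cfsg.IrrCharacter (Subgroup.centralizer (D : Set G))))
    (hind : Cfsg.IsInducedBlock M (Subgroup.centralizer (D : Set G)) b B) :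
    ∃ S : Setup p M G B, S.e = (Subgroup.centralizer (D : Set G)).relIndex
        (BlockPairs.stab ⊤ D (BlockPairs.sblk M (Subgroup.centralizer (D : Set G)) b)) ∧
      S.a = a ∧ S.D = D :=
  exists_setup hM hind.2.1 (InertialQuotient.maxPair_of_induced hM hBD
    (InertialQuotient.le_centralizer_of_cyclic hD) hind).2 hD ha hDa

/-- Dade's theorem on the number of characters and the sign relation. -/
theorem cyclic_defect {G : Type u} [Group G] [Finite G] (p : ℕ) [Fact p.Prime] (M : Ideal Cfsg.AlgInt) (hM : Cfsg.IsPModular p M) (D : Subgroup G) (hD : IsCyclic D) (a : ℕ) (ha : 1 ≤ a) (hDa : Nat.card D = p ^ a) (B : Set (Cfsg.IrrCharacter G)) (hB : Cfsg.IsPBlock M B) (hBD : Cfsg.IsDefectGroup p M B D) (b : Set (Cfsg.IrrCharacter (Subgroup.centralizer (D : Set G)))) (hind : Cfsg.IsInducedBlock M (Subgroup.centralizer (D : Set G)) b B) (T : Subgroup G) (hT : ∀ g : G, g ∈ T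 ↔ (g ∈ Subgroup.normalizer (D : Set G) ∧ ∀ θ ∈ b, ∀ θ' : Cfsg.IrrCharacter (Subgroup.centralizer (D : Set G)), (∀ h h' : Subgroup.centralizer (D : Set G), (h' : G) = g * h * g⁻¹ → (θ' : Subgroup.centralizer (D : Set G) → ℂ) h' = (θ : Subgroup.centralizer (D : Set G) → ℂ) h) → θ' ∈ b)) (e : ℕ) (he : (Subgroup.centralizer (D : Set G)).relIndex T = e) : Cfsg.blockRank p B = e ∧
    (e ∣ p - 1 ∧ (∀ χ ∈ B, Cfsg.blockHeight p B (χ : G → ℂ) = 0) ∧ ∃ X Y : Set (Cfsg.IrrCharacter G), B = X ∪ Y ∧ Disjoint X Y ∧ Nat.card X = e ∧ Nat.card Y = (p ^ a - 1) / e ∧ (∀ ψ ∈ Y, ∀ ψ' ∈ Y, ∀ g : G, ¬ p ∣ orderOf g → (ψ : G → ℂ) g = (ψ' : G → ℂ) g) ∧ ∃ (δ : Cfsg.IrrCharacter G → ℤ) (δ₀ : ℤ), (∀ χ ∈ X, δ χ = 1 ∨ δ χ = -1) ∧ (δ₀ = 1 ∨ δ₀ = -1) ∧ (∀ ψ ∈ Y, ∀ g : G, ¬ p ∣ orderOf g → (δ₀ : ℂ) * (ψ : G → ℂ) g + ∑ᶠ χ ∈ X, (δ χ : ℂ) * (χ : G → ℂ) g = 0) ∧ (∀ χ ∈ X, ∀ χ' ∈ X, δ χ * (Cfsg.charDegree (χ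 : G → ℂ) : ℤ) ≡ δ χ' * (Cfsg.charDegree (χ' : G → ℂ) : ℤ) [ZMOD (p : ℤ) ^ a]) ∧ (∀ ψ ∈ Y, ∀ χ ∈ X, (Cfsg.charDegree (ψ : G → ℂ) : ℤ) ≡ -((e : ℤ) * δ₀ * δ χ * (Cfsg.charDegree (χ : G → ℂ) : ℤ)) [ZMOD (p : ℤ) ^ a])) := by
  haveI := Fintype.ofFinite G
  haveI := CfsgLib.Blocks.IsPModular.isPrime hM
  haveI := CfsgLib.Blocks.charP_res hM
  haveI := CfsgLib.BlockPairs.isAlgClosed_res hM
  obtain ⟨-, hmax⟩ := InertialQuotient.maxPair_of_induced hM hBD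
    (InertialQuotient.le_centralizer_of_cyclic hD) hind
  obtain rfl := stab_eq_forall hind.1 hT
  obtain ⟨S, hSe, hSa, -⟩ := exists_setup hM hB hmax hD ha hDa
  have hSe' : S.e = e := hSe.trans he
  subst hSe'
  subst hSa
  obtain ⟨h1, h2, h3⟩ := S.main
  exact ⟨h1, S.e_dvd, h2, h3⟩

end CfsgLib.CyclicDefect
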