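import Cfsg.Agent.CyclicDefect.Labels
import Cfsg.Agent.Blocks.Sections
import Cfsg.Prelude.Def_BlockRank

/-!
# The local setting of a block with cyclic defect group

`Setup p M G B` records, for a block `B` with cyclic defect group `D`, a subgroup `X` containing the
centralizers of the non-identity elements of `D`, its overgroup `N` in which the intersections of
`D` with its conjugates are controlled, the nilpotent block of `X` under `B`, the element `t` of
`N` permuting its members by `j ↦ r * j`, and the lower bound `e ≤ l(B)`.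
-/

set_option autoImplicit false
set_option linter.unusedSectionVars false
set_option linter.style.haveILetI false

namespace CfsgLib.CyclicDefect

open Cfsg CfsgLib.BlockPairs
open CfsgLib.Blocks (overSet isBlockUnion_of_isPBlock)

universe u

/-- Conjugation by a normalizing element. -/
def cjAut {G : Type u} [Group G] {X : Subgroup G} {g : G}
    (hg : g ∈ Subgroup.normalizer (X : Set G)) : X ≃* X where
  toFun x := ⟨g * x * g⁻¹, (Subgroup.mem_normalizer_iff.1 hg (x : G)).1 x.2⟩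
  invFun x := ⟨g⁻¹ * x * g, (Subgroup.mem_normalizer_iff''.1 hg (x : G)).1 x.2⟩
  left_inv x := Subtype.ext (by simp [mul_assoc])
  right_inv x := Subtype.ext (by simp [mul_assoc])
  map_mul' x y := Subtype.ext (by simp [mul_assoc])

@[simp] theorem cjAut_coe {G : Type u} [Group G] {X : Subgroup G} {g : G}
    (hg : g ∈ Subgroup.normalizer (X : Set G)) (x : X) : (cjAut hg x : G) = g * x * g⁻¹ := rfl

/-- The data. -/
structure Setup (p : ℕ) [Fact p.Prime] (M : Ideal AlgInt) [M.IsPrime] (G : Type u) [Group G]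
    [Fintype G] [CharP (CfsgLib.Blocks.Res M) p] [IsAlgClosed (CfsgLib.Blocks.Res M)]
    (B : Set (IrrCharacter G)) where
  mod : Cfsg.IsPModular p M
  block : Cfsg.IsPBlock M B
  D : Subgroup G
  X : Subgroup G
  [fintypeX : Fintype X]
  N : Subgroup G
  a : ℕ
  a_pos : 1 ≤ a
  card_D : Nat.card D = p ^ a
  defect : Cfsg.IsDefectGroup p M B D
  D_le : D ≤ X
  X_le : X ≤ N
  N_norm : N ≤ Subgroup.normalizer (X : Set G)
  free : ∀ g : G, ∀ d ∈ D, d ≠ 1 → g * d * g⁻¹ ∈ D → g ∈ N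
  cent : ∀ d ∈ D, d ≠ 1 → Subgroup.centralizer ({d} : Set G) ≤ X
  nil : Nil p M X
  P_eq : nil.P = D.subgroupOf X
  above : ∀ ξ ∈ nil.B,
    CfsgLib.Blocks.omegaBar M ξ (CfsgLib.Blocks.resCtr X
      (CfsgLib.Blocks.idemBar M B (isBlockUnion_of_isPBlock block))) = 1
  above_conj : ∀ ξ ∈ overSet M X B (isBlockUnion_of_isPBlock block), ∃ (n : G) (hn : n ∈ N),
    ∀ y : X, Cfsg.blockCoeff (Cfsg.blockOf M (ξ : X → ℂ)) y =
      Cfsg.blockCoeff nil.B (cjAut (N_norm hn) y)
  t : G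
  t_mem : t ∈ N
  r : ℕ
  e : ℕ
  e_dvd : e ∣ p - 1
  e_pos : 0 < e
  t_pow : ∀ l : ℕ, t ^ l ∈ X ↔ e ∣ l
  r_pow : (r : ZMod nil.n) ^ e = 1
  r_free : ∀ l : ℕ, ¬ e ∣ l → IsUnit ((r : ZMod nil.n) ^ l - 1)
  t_xi : ∀ (j : ZMod nil.n) (x : X),
    (nil.xi j : X → ℂ) (cjAut (N_norm t_mem) x) = (nil.xi (r * j) : X → ℂ) x
  decomp : ∀ (n : G) (hn : n ∈ N) (i j : ZMod nil.n),
    (nil.xi i : X → ℂ) ∘ cjAut (N_norm hn) = (nil.xi j : X → ℂ) →
      ∃ l, l < e ∧ (t ^ l)⁻¹ * n ∈ X
  rank_le : e ≤ Cfsg.blockRank p B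

attribute [instance] Setup.fintypeX

end CfsgLib.CyclicDefect
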