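import Cfsg.Agent.Star.Trace
import Cfsg.Agent.BlockPairs.Bridge

/-!
# Transport of the trace along an automorphism
-/

set_option autoImplicit false
set_option linter.unusedSectionVars false
set_option linter.style.haveILetI false

namespace CfsgLib.CyclicDefect

open Cfsg MonoidAlgebra CfsgLib.BlockPairs CfsgLib.Star
open CfsgLib.Blocks (localRing red Res)

universe u

variable {G : Type u} [Group G] [Fintype G] {M : Ideal AlgInt} [M.IsPrime]

theorem isClassFunction_comp (α : G ≃* G) {f : G → ℂ} (hf : Cfsg.IsClassFunction G f) :
    Cfsg.IsClassFunction G (f ∘ α) := fun g h => by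
  simp only [Function.comp_apply, map_mul, map_inv]
  exact hf _ _

/-- The lift of an automorphism to the group algebra over the local ring. -/
noncomputable def autO (α : G ≃* G) :
    MonoidAlgebra (localRing M) G →+* MonoidAlgebra (localRing M) G :=
  MonoidAlgebra.mapDomainRingHom (localRing M) α.toMonoidHom

theorem autO_single (α : G ≃* G) (g : G) (r : localRing M) :
    autO α (single g r) = single (α g) r := by
  simp [autO]

theorem emb_aut_single (α : G ≃* G) (g : G) (r : Res M) :
    emb α.toMonoidHom (single g r : GA (Res M) G) = single (α g) r := by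
  simp [emb]

theorem rho_autO (α : G ≃* G) (a : MonoidAlgebra (localRing M) G) :
    rho M G (autO α a) = emb α.toMonoidHom (rho M G a) := by
  induction a using MonoidAlgebra.induction_linear with
  | zero => simp
  | add x y hx hy => simp [hx, hy]
  | single g r =>
    have h : ∀ (g : G) (r : localRing M), rho M G (single g r) = single g (red M r) := fun g r => by
      simp [rho]
    rw [autO_single, h, h, emb_aut_single]

theorem tau_autO (α : G ≃* G) (f : G → ℂ) (a : MonoidAlgebra (localRing M) G) :
    tau M f (autO α a) = tau M (f ∘ α) a := by
  classical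
  induction a using MonoidAlgebra.induction_linear with
  | zero => simp
  | add x y hx hy => simp [hx, hy]
  | single g r =>
    rw [autO_single, tau_apply, tau_apply, Finset.sum_eq_single (α g) (fun b _ hb => by
        simp [Ne.symm hb]) (by simp), Finset.sum_eq_single g (fun b _ hb => by
        simp [Ne.symm hb]) (by simp)]
    simp

/-- The trace of a translate is the translate of the trace. -/
theorem T_comp (α : G ≃* G) {f : G → ℂ} (hf : Cfsg.IsClassFunction G f) {z : G}
    {j : GA (Res M) G} (hj : j * j = j) (hz : conjA (Res M) z j = j) :
    T M (f ∘ α) z j = T M f (α z) (emb α.toMonoidHom j) := by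
  obtain ⟨E, hE, hEz⟩ := exists_lift (M := M) j hj
  obtain ⟨hzE, hrE⟩ := hEz z hz
  rw [T_eq (isClassFunction_comp α hf) hE ⟨hzE, hrE⟩,
    T_eq hf (E := autO α E) (z := α z) (by rw [← map_mul, hE])
      ⟨by rw [← autO_single]; exact hzE.map _, by rw [rho_autO, hrE]⟩,
    ← autO_single, ← map_mul, tau_autO]

end CfsgLib.CyclicDefect
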